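import Cfsg.Agent.UGT.A7.M1.CfgOne

/-!
# The bad configuration (bb #12930), generic type: (2), (3)

* `TB τ b`: `τ = (0 i)`, `b ∈ V₄` with `(0 i)` a transposition of `b`.
* `UV ... τ b u v`: `u ∈ K` over `(0 i)(4 5)`, `v ∈ K` over `b`, both in a 2-group with `E = Y V`.
* `Cx.two`: `v` fixes all `L_y`; if `y ∈ Y#` lies over `b`, then `v = y ∈ K`.
* `Cx.alpha`: if `Y` acts as `V₄`, then `w = t`, some `t' ∈ V` acts as `ta`, `Y ≤ K`.
* `Cx.gamma`: otherwise `w = t`, `V` acts as `⟨ta⟩`, some `y ∈ Y#` lies in `K` and some involution `s` of `C(E)` over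
  `ta` fixes all `L_y`.
-/

set_option autoImplicit false
set_option linter.unusedSectionVars false

open Cfsg Subgroup Equiv Equiv.Perm
open Cfsg.Agent.SignalizersComponents Cfsg.Agent.Lib
open Cfsg.Agent.SignalizersComponents.IntrinsicBasic
open Cfsg.Agent.SignalizersComponents.PLayerAut
open Cfsg.Agent.Intrinsic.Basic Cfsg.Agent.Intrinsic.Cen Cfsg.Agent.Intrinsic.Diag
open Cfsg.Agent.McLLyComp.Act
open Cfsg.Agent.UAlt
open Cfsg.Agent.UGT.Triple (IsTriple)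
open Cfsg.Agent.UGT.TriBase Cfsg.Agent.UGT.TMCBase
open Cfsg.Agent.UGT.L2Inner
open scoped commutatorElement

namespace Cfsg.Agent.UGT.A7.M1.Cfg7

universe u

/-! ### permutations -/

/-- `τ = (0 i)`, `b` the element of `V₄` with `b 0 = i` -/
structure TB (τ b : P7) : Prop where
  bV : IsV b
  b1 : b ≠ 1
  bA : b ∈ alt (Finset.univ : Finset (Fin 7))
  uA : τ * ta ∈ alt (Finset.univ : Finset (Fin 7))
  tt : τ * τ = 1
  nT : ∀ σ ∈ VT, τ * σ * τ⁻¹ ∈ VT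
  cm : ∀ σ ∈ VT, τ * ta * σ * (τ * ta)⁻¹ * σ⁻¹ = 1 ∨ τ * ta * σ * (τ * ta)⁻¹ * σ⁻¹ = b
  cb : τ * ta * b = b * (τ * ta)
  ct : τ * ta * ta = ta * (τ * ta)
  c1 : ∀ σ ∈ VT, τ * ta * σ = σ * (τ * ta) → σ = 1 ∨ σ = b ∨ σ = ta ∨ σ = b * ta

theorem mem_alt_univ {σ : P7} (h : sign σ = 1) : σ ∈ alt (Finset.univ : Finset (Fin 7)) :=
  ⟨mem_alternatingGroup.mpr h, fun i hi => absurd (Finset.mem_univ i) hi⟩

theorem mem_VT_list {σ : P7} (h : σ = 1 ∨ σ = b1 ∨ σ = b2 ∨ σ = b3 ∨ σ = ta ∨ σ = b1 * ta ∨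
    σ = b2 * ta ∨ σ = b3 * ta) : σ ∈ VT := by
  have h1 : σ ∈ (VT : Set P7) := by
    rw [coe_VT]
    simpa using h
  exact h1

theorem TB.mk' {τ b : P7} (bV : IsV b) (b1 : b ≠ 1) (sb : sign b = 1) (st : sign (τ * ta) = 1) (tt : τ * τ = 1)
    (cb : τ * ta * b = b * (τ * ta)) (ct : τ * ta * ta = ta * (τ * ta))
    (key : ∀ σ : P7, (σ = 1 ∨ σ = L2Inner.b1 ∨ σ = b2 ∨ σ = b3 ∨ σ = ta ∨ σ = L2Inner.b1 * ta ∨
      σ = b2 * ta ∨ σ = b3 * ta) → (τ * σ * τ⁻¹ = 1 ∨ τ * σ * τ⁻¹ = L2Inner.b1 ∨ τ * σ * τ⁻¹ = b2 ∨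
      τ * σ * τ⁻¹ = b3 ∨ τ * σ * τ⁻¹ = ta ∨ τ * σ * τ⁻¹ = L2Inner.b1 * ta ∨
      τ * σ * τ⁻¹ = b2 * ta ∨ τ * σ * τ⁻¹ = b3 * ta) ∧
      (τ * ta * σ * (τ * ta)⁻¹ * σ⁻¹ = 1 ∨ τ * ta * σ * (τ * ta)⁻¹ * σ⁻¹ = b) ∧
      (τ * ta * σ = σ * (τ * ta) → σ = 1 ∨ σ = b ∨ σ = ta ∨ σ = b * ta)) : TB τ b :=
  ⟨bV, b1, mem_alt_univ sb, mem_alt_univ st, tt, fun σ hσ => mem_VT_list (key σ (mem_VT_cases hσ)).1,
    fun σ hσ => (key σ (mem_VT_cases hσ)).2.1, cb, ct, fun σ hσ => (key σ (mem_VT_cases hσ)).2.2⟩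

theorem tb1 : TB (swap 0 1) b1 := by
  refine TB.mk' (Or.inr (Or.inl rfl)) (by decide) (by decide) (by decide) (by decide) (by decide) (by decide) ?_
  rintro σ (rfl | rfl | rfl | rfl | rfl | rfl | rfl | rfl) <;> decide

theorem tb2 : TB (swap 0 2) b2 := by
  refine TB.mk' (Or.inr (Or.inr (Or.inl rfl))) (by decide) (by decide) (by decide) (by decide) (by decide)
    (by decide) ?_
  rintro σ (rfl | rfl | rfl | rfl | rfl | rfl | rfl | rfl) <;> decide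

theorem tb3 : TB (swap 0 3) b3 := by
  refine TB.mk' (Or.inr (Or.inr (Or.inr rfl))) (by decide) (by decide) (by decide) (by decide) (by decide)
    (by decide) ?_
  rintro σ (rfl | rfl | rfl | rfl | rfl | rfl | rfl | rfl) <;> decide

theorem exists_tb {b : P7} (hb : IsV b) (h1 : b ≠ 1) : ∃ τ, TB τ b := by
  rcases hb with rfl | rfl | rfl | rfl
  · exact absurd rfl h1
  · exact ⟨_, tb1⟩
  · exact ⟨_, tb2⟩
  · exact ⟨_, tb3⟩

theorem isV_gen {σ τ ρ : P7} (hσ : IsV σ) (hτ : IsV τ) (h1 : σ ≠ 1) (h2 : τ ≠ 1) (h3 : σ ≠ τ) (hρ : IsV ρ) :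
    ρ = 1 ∨ ρ = σ ∨ ρ = τ ∨ ρ = σ * τ := by
  rcases hσ with rfl | rfl | rfl | rfl <;> rcases hτ with rfl | rfl | rfl | rfl <;>
    rcases hρ with rfl | rfl | rfl | rfl <;> first | exact absurd rfl h1 | exact absurd rfl h2 | exact absurd rfl h3 | decide

theorem isV_sq {σ : P7} (hσ : IsV σ) : σ * σ = 1 := by
  rcases hσ with rfl | rfl | rfl | rfl <;> decide

theorem VT_sq {σ : P7} (h : σ ∈ VT) : σ * σ = 1 := by
  rcases mem_VT_cases h with rfl | rfl | rfl | rfl | rfl | rfl | rfl | rfl <;> decide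

theorem VT_comm {σ τ : P7} (hσ : σ ∈ VT) (hτ : τ ∈ VT) : σ * τ = τ * σ := comm_of_sq (fun _ h => VT_sq h) hσ hτ

theorem isV_of_comm {τ b τ' b' σ : P7} (h : TB τ b) (h' : TB τ' b') (hne : b ≠ b') (hσ : IsV σ)
    (c : τ * ta * σ = σ * (τ * ta)) (c' : τ' * ta * σ = σ * (τ' * ta)) : σ = 1 := by
  have hσ' : σ ∈ VT := Or.inl hσ
  have nt : ¬ IsV ta := by
    unfold IsV; decide
  have nbt : ∀ b : P7, IsV b → ¬ IsV (b * ta) := by
    rintro b (rfl | rfl | rfl | rfl) <;> unfold IsV <;> decide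
  rcases h.c1 σ hσ' c with e | e | e | e
  · exact e
  · rcases h'.c1 σ hσ' c' with e' | e' | e' | e'
    · exact e'
    · exact absurd (e.symm.trans e') hne
    · exact absurd (e' ▸ hσ) nt
    · exact absurd (e' ▸ hσ) (nbt _ h'.bV)
  · exact absurd (e ▸ hσ) nt
  · exact absurd (e ▸ hσ) (nbt _ h.bV)

variable {G : Type u} [Group G]

/-! ### a lift of 2-groups of permutations -/

theorem exists_R [Finite G] {X E K : Subgroup G} (L : Lab K) (hE : IsPGroup 2 ↥E) (hEX : E ≤ X)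
    (hKX : K ≤ X) (hEK : E ≤ normalizer (K : Set G)) (T : Subgroup P7) (hT : IsPGroup 2 ↥T)
    (hET : ∀ e ∈ E, L.φ e ∈ T) :
    ∃ R : Subgroup G, E ≤ R ∧ IsPGroup 2 ↥R ∧ R ≤ X ∧ R ≤ normalizer (K : Set G) ∧
      ∀ σ ∈ T, σ ∈ alt (Finset.univ : Finset (Fin 7)) → ∃ r ∈ R, r ∈ K ∧ L.φ r = σ := by
  have hp : Fact (Nat.Prime 2) := ⟨Nat.prime_two⟩
  obtain ⟨H, hH⟩ : ∃ H : Subgroup G, ∀ g, g ∈ H ↔ g ∈ X ∧ g ∈ normalizer (K : Set G) ∧ L.φ g ∈ T := by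
    refine ⟨{ carrier := {g | g ∈ X ∧ g ∈ normalizer (K : Set G) ∧ L.φ g ∈ T}
              mul_mem' := ?_
              one_mem' := ?_
              inv_mem' := ?_ }, fun g => Iff.rfl⟩
    · rintro a b ⟨a1, a2, a3⟩ ⟨b1, b2, b3⟩
      exact ⟨mul_mem a1 b1, mul_mem a2 b2, by rw [L.mul _ _ a2 b2]; exact mul_mem a3 b3⟩
    · exact ⟨one_mem _, one_mem _, by rw [L.one]; exact one_mem _⟩
    · rintro a ⟨a1, a2, a3⟩
      exact ⟨inv_mem a1, inv_mem a2, by rw [L.inv a2]; exact inv_mem a3⟩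
  obtain ⟨R, hR, hER⟩ := exists_isSyl hE (fun e he => (hH e).mpr ⟨hEX he, hEK he, hET e he⟩)
  obtain ⟨K', hK'⟩ : ∃ K', K' = H ⊓ K := ⟨_, rfl⟩
  have hn : H ≤ normalizer (K' : Set G) := by
    intro g hg
    rw [mem_normalizer_iff_cj, hK', cj_inf, cj_eq_self_of_mem hg, mem_normalizer_iff_cj.mp ((hH g).mp hg).2.1]
  have hS := hR.inf (L := K') (hK' ▸ inf_le_left) hn
  obtain ⟨P, hP⟩ := hS.exists_sylow
  have hmem' : ∀ g : G, g ∈ K' → g ∈ H ∧ g ∈ K := fun g hg => by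
    rw [hK'] at hg
    exact hg
  have hmem : ∀ x : ↥K', (x : G) ∈ H ∧ (x : G) ∈ K := fun x => hmem' x x.2
  let f : ↥K' →* ↥(T ⊓ alt (Finset.univ : Finset (Fin 7))) :=
    { toFun := fun x => ⟨L.φ x, ((hH x).mp (hmem x).1).2.2, L.mem_alt x (hmem x).2⟩
      map_one' := Subtype.ext L.one
      map_mul' := fun x y => Subtype.ext (L.mul x y (le_normalizer (hmem x).2) (le_normalizer (hmem y).2)) }
  have hf : Function.Surjective f := by
    rintro ⟨σ, hσT, hσA⟩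
    obtain ⟨k, hk, rfl⟩ := L.lift σ hσA
    exact ⟨⟨k, by rw [hK']; exact ⟨(hH k).mpr ⟨hKX hk, le_normalizer hk, hσT⟩, hk⟩⟩, rfl⟩
  have hB : IsPGroup 2 ↥(T ⊓ alt (Finset.univ : Finset (Fin 7))) := hT.to_le inf_le_left
  have htop : (P : Subgroup ↥K').map f = ⊤ := by
    have h2 := (P.mapSurjective hf).is_maximal' (Q := ⊤) (hB.of_equiv Subgroup.topEquiv.symm) le_top
    exact h2.symm
  refine ⟨R, hER, hR.two, fun r hr => ((hH r).mp (hR.le hr)).1, fun r hr => ((hH r).mp (hR.le hr)).2.1,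
    fun σ hσT hσA => ?_⟩
  have h3 : (⟨σ, hσT, hσA⟩ : ↥(T ⊓ alt (Finset.univ : Finset (Fin 7)))) ∈ (P : Subgroup ↥K').map f := by
    rw [htop]; exact Subgroup.mem_top _
  obtain ⟨x, hx, e⟩ := h3
  have h4 : (x : G) ∈ R ⊓ K' := by
    rw [← hP]
    exact ⟨x, hx, rfl⟩
  exact ⟨x, h4.1, (hmem x).2, congrArg Subtype.val e⟩

theorem VT_pgroup : IsPGroup 2 ↥VT := isPGroup_of_sq fun _ h => VT_sq h

theorem TB.exists_T {τ b : P7} (h : TB τ b) : ∃ T : Subgroup P7, VT ≤ T ∧ τ ∈ T ∧ IsPGroup 2 ↥T := by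
  refine ⟨VT ⊔ zpowers τ, le_sup_left, mem_sup_right (mem_zpowers τ), ?_⟩
  refine VT_pgroup.to_sup_of_normal_left' ?_ ?_
  · refine isPGroup_of_sq fun x hx => ?_
    rcases mem_zpowers_sq h.tt hx with rfl | rfl
    · exact one_mul 1
    · exact h.tt
  · rw [zpowers_le, Subgroup.mem_normalizer_iff]
    intro σ
    refine ⟨fun hσ => h.nT σ hσ, fun hσ => ?_⟩
    have h1 := h.nT _ hσ
    have h2 : τ⁻¹ = τ := inv_eq_of_mul_eq_one_left h.tt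
    have h3 : τ * (τ * σ * τ⁻¹) * τ⁻¹ = σ := by
      rw [h2]
      calc τ * (τ * σ * τ) * τ = (τ * τ) * σ * (τ * τ) := by group
        _ = σ := by rw [h.tt, one_mul, mul_one]
    rwa [h3] at h1

/-- `u ∈ K` over `τ ta`, `v ∈ K` over `b` -/
structure UV (Y V K : Subgroup G) (L : Lab K) (τ b : P7) (u v : G) : Prop where
  uK : u ∈ K
  vK : v ∈ K
  φu : L.φ u = τ * ta
  φv : L.φ v = b
  vv : v * v = 1
  ve : ∀ e ∈ Y ⊔ V, v * e = e * v
  ue : ∀ e ∈ Y ⊔ V, u * e = e * u ∨ u * e * u⁻¹ = v * e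
  cm : ∀ e ∈ Y ⊔ V, τ * ta * L.φ e = L.φ e * (τ * ta) → u * e = e * u

variable [Finite G] {GG : Subgroup G} {F : G → Subgroup G → Prop} {M Y V : Subgroup G} {w x : G} {K : Subgroup G}
  {c t : G} {L : Lab K}

namespace Cx

variable (C : Cx GG F M Y V w x K c t L)

include C

theorem E_two : IsPGroup 2 ↥(Y ⊔ V) := isPGroup_of_sq fun _ h => C.toFr.E_sq h

theorem exists_uv {τ b : P7} (h : TB τ b) : ∃ u v, UV Y V K L τ b u v := by
  obtain ⟨T, hVT, hτT, hT⟩ := h.exists_T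
  obtain ⟨R, hER, hR2, -, hRN, hRl⟩ := exists_R L C.E_two (X := centralizer ({w} : Set G)) (fun e he => C.eX he)
    C.compK.le C.bad.nrm T hT (fun e he => hVT (C.φVT he))
  have htaT : ta ∈ T := hVT (mem_VT_list (Or.inr (Or.inr (Or.inr (Or.inr (Or.inl rfl))))))
  obtain ⟨v, hvR, hvK, hv⟩ := hRl b (hVT (Or.inl h.bV)) h.bA
  obtain ⟨u, huR, huK, hu⟩ := hRl (τ * ta) (mul_mem hτT htaT) h.uA
  have key : ∀ g ∈ R, g ∈ K → L.φ g = 1 → g = 1 := by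
    intro g hg hgK hg1
    obtain ⟨n, hn⟩ := hR2 ⟨g, hg⟩
    exact eq_one_of_mem_core ((L.core_iff g hgK).mp hg1) (n := n) (congrArg Subtype.val hn)
  have cmR : ∀ g ∈ R, g ∈ K → ∀ e ∈ Y ⊔ V, g * e * g⁻¹ * e⁻¹ ∈ R ∧ g * e * g⁻¹ * e⁻¹ ∈ K ∧
      L.φ (g * e * g⁻¹ * e⁻¹) = L.φ g * L.φ e * (L.φ g)⁻¹ * (L.φ e)⁻¹ := by
    intro g hg hgK e he
    have heR := hER he
    have hgN : g ∈ normalizer (K : Set G) := le_normalizer hgK
    have heN := C.eN he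
    refine ⟨mul_mem (mul_mem (mul_mem hg heR) (inv_mem hg)) (inv_mem heR), ?_, ?_⟩
    · have h1 : g * e * g⁻¹ * e⁻¹ = g * (e * g⁻¹ * e⁻¹) := by group
      rw [h1]
      exact mul_mem hgK (conj_mem heN (inv_mem hgK))
    · rw [L.mul _ _ (mul_mem (mul_mem hgN heN) (inv_mem hgN)) (inv_mem heN), L.conj hgN heN, L.inv heN]
  refine ⟨u, v, huK, hvK, hu, hv, ?_, fun e he => ?_, fun e he => ?_, fun e he hc => ?_⟩
  · refine key _ (mul_mem hvR hvR) (mul_mem hvK hvK) ?_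
    rw [L.mul _ _ (le_normalizer hvK) (le_normalizer hvK), hv]
    exact isV_sq h.bV
  · obtain ⟨h1, h2, h3⟩ := cmR v hvR hvK e he
    have h4 := key _ h1 h2 (by
      rw [h3, hv, VT_comm (Or.inl h.bV) (C.φVT he), mul_inv_cancel_right, mul_inv_cancel])
    rwa [mul_inv_eq_one, mul_inv_eq_iff_eq_mul] at h4
  · obtain ⟨h1, h2, h3⟩ := cmR u huR huK e he
    rcases h.cm _ (C.φVT he) with h4 | h4
    · left
      have h5 := key _ h1 h2 (by rw [h3, hu, h4])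
      rwa [mul_inv_eq_one, mul_inv_eq_iff_eq_mul] at h5
    · right
      have h5 := key (v⁻¹ * (u * e * u⁻¹ * e⁻¹)) (mul_mem (inv_mem hvR) h1) (mul_mem (inv_mem hvK) h2) (by
        rw [L.mul _ _ (inv_mem (le_normalizer hvK)) (le_normalizer h2), L.inv (le_normalizer hvK), h3, hu, h4, hv,
          inv_mul_cancel])
      rw [inv_mul_eq_one, eq_mul_inv_iff_mul_eq] at h5
      exact h5.symm
  · obtain ⟨h1, h2, h3⟩ := cmR u huR huK e he
    have h4 := key _ h1 h2 (by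
      rw [h3, hu, hc, mul_inv_cancel_right, mul_inv_cancel])
    rwa [mul_inv_eq_one, mul_inv_eq_iff_eq_mul] at h4

/-- `u` normalizes `L_y`, `φ y ∈ {b, b ta}` -/
theorem u_norm {τ b : P7} {u v : G} (U : UV Y V K L τ b u v) {y : G} (hy : y ∈ Y) (hy1 : y ≠ 1)
    (hc : τ * ta * L.φ y = L.φ y * (τ * ta)) {N : Subgroup G} (hN : IsComp (centralizer ({y} : Set G)) N)
    (hM : M ≤ N) : u ∈ normalizer (N : Set G) := by
  by_contra hn
  have hne : N ≠ cj u N := fun h => hn (mem_normalizer_iff_cj.mpr h.symm)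
  have huy : u * y = y * u := U.cm y (C.yE hy) hc
  have hN' : IsComp (centralizer ({y} : Set G)) (cj u N) := isComp_cj_of_mem hN (mem_c huy)
  obtain ⟨-, hT⟩ := C.toSit.gtN hy hy1 hN hM
  have key : ∀ p ∈ V, p ≠ 1 → u * p * u⁻¹ = v * p := by
    intro p hp hp1
    rcases U.ue p (C.vE hp) with h | h
    · exfalso
      have h1 : Fixes (u * p * u⁻¹) N := hN.fixes_of_mem hN' hne (conj_mem_cj (hM (C.pm hp)))
      rw [h, mul_inv_cancel_right] at h1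
      exact hT.nf p (hM (C.pm hp)) (C.psq p hp) hp1 h1
    · exact h
  obtain ⟨p, hp, q, hq, hp1, hq1, hpq⟩ := exists_gens C.pcard
  have hpq1 : p * q ≠ 1 := by
    intro h
    apply hpq
    rw [eq_inv_of_mul_eq_one_left h, inv_eq_of_mul_eq_one_left (C.psq q hq)]
  have h1 := key _ (mul_mem hp hq) hpq1
  have h2 : u * (p * q) * u⁻¹ = p * q := by
    calc u * (p * q) * u⁻¹ = (u * p * u⁻¹) * (u * q * u⁻¹) := by group
      _ = v * p * (v * q) := by rw [key p hp hp1, key q hq hq1]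
      _ = v * (p * v) * q := by group
      _ = (v * v) * (p * q) := by rw [← U.ve p (C.vE hp)]; group
      _ = p * q := by rw [U.vv, one_mul]
  have h3 : Fixes (u * (p * q) * u⁻¹) N := hN.fixes_of_mem hN' hne (conj_mem_cj (hM (C.pm (mul_mem hp hq))))
  rw [h2] at h3
  exact hT.nf _ (hM (C.pm (mul_mem hp hq))) (C.psq _ (mul_mem hp hq)) hpq1 h3

theorem commE {z : G} {τ b : P7} (h : TB τ b) (hz : L.φ z = b ∨ L.φ z = b * ta) :
    τ * ta * L.φ z = L.φ z * (τ * ta) := by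
  rcases hz with e | e <;> rw [e]
  · exact h.cb
  · calc τ * ta * (b * ta) = (τ * ta * b) * ta := by group
      _ = b * (τ * ta * ta) := by rw [h.cb]; group
      _ = b * ta * (τ * ta) := by rw [h.ct]; group

/-- `v` fixes all `L_y` -/
theorem jyv {τ b : P7} (h : TB τ b) {u v : G} (U : UV Y V K L τ b u v) {y : G} (hy : y ∈ Y) (hy1 : y ≠ 1)
    (hφ : L.φ y = b ∨ L.φ y = b * ta) : JY M Y v := by
  obtain ⟨N, hN, hM, -⟩ := C.toFr.comp y hy hy1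
  have hc := C.commE h hφ
  have hun := C.u_norm U hy hy1 hc hN hM
  -- some `y' ∈ Y` does not commute with `u`
  obtain ⟨y', hy', hc'⟩ : ∃ y' ∈ Y, ¬ (τ * ta * L.φ y' = L.φ y' * (τ * ta)) := by
    by_contra hcon
    push Not at hcon
    obtain ⟨p, hp, q, hq, hp1, hq1, hpq⟩ := exists_gens C.ycard
    obtain ⟨y', hy', hy1', hne⟩ : ∃ y' ∈ Y, y' ≠ 1 ∧ y' ≠ y := by
      by_cases h : p = y
      · exact ⟨q, hq, hq1, fun h' => hpq (h.trans h'.symm)⟩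
      · exact ⟨p, hp, hp1, h⟩
    have e1 : L.φ y' = b ∨ L.φ y' = b * ta := by
      rcases h.c1 _ (C.φVT (C.yE hy')) (hcon y' hy') with e | e | e | e
      · exact absurd e (C.bad.y1 y' hy' hy1')
      · exact Or.inl e
      · exact absurd e (C.bad.yt y' hy')
      · exact Or.inr e
    have e2 : L.φ (y * y') = L.φ y * L.φ y' := L.mul _ _ (C.eN (C.yE hy)) (C.eN (C.yE hy'))
    have hyy : y * y' ≠ 1 := by
      intro h
      apply hne
      rw [eq_comm, eq_inv_of_mul_eq_one_left h, inv_eq_of_mul_eq_one_left (C.ysq y' hy')]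
    have e3 := C.bad.y1 _ (mul_mem hy hy') hyy
    have e4 := C.bad.yt _ (mul_mem hy hy')
    rw [e2] at e3 e4
    have bb := isV_sq h.bV
    have bt : b * ta = ta * b := isV_ta h.bV
    rcases hφ with e | e <;> rcases e1 with e' | e' <;> rw [e, e'] at e3 e4
    · exact e3 bb
    · exact e4 (by rw [← mul_assoc, bb, one_mul])
    · exact e4 (by rw [bt, mul_assoc, bb, mul_one])
    · exact e3 (by
        calc b * ta * (b * ta) = b * (ta * b) * ta := by group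
          _ = (b * b) * (ta * ta) := by rw [← bt]; group
          _ = 1 := by rw [bb, ta_ta, one_mul])
  have hv : u * y' * u⁻¹ = v * y' := by
    rcases U.ue y' (C.yE hy') with h1 | h1
    · exfalso
      have h2 := L.comm (le_normalizer U.uK) (C.eN (C.yE hy')) h1
      rw [U.φu] at h2
      exact hc' h2
    · exact h1
  have f1 := C.toSit.fY hy hy1 hy' hN hM
  have hv' : v = (u * y' * u⁻¹) * y'⁻¹ := by rw [hv, mul_inv_cancel_right]
  have f2 : Fixes v N := by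
    rw [hv']
    exact fixes_mul (fixes_conj f1 hun) (fixes_inv f1)
  exact C.toSit.jy_of (fun z hz => U.ve z (C.yE hz)) hy hy1 hN hM f2

theorem jyY {z y : G} (hz : JY M Y z) (hy : y ∈ Y) : JY M Y (z * y) := fun y' hy' hy1' _ hN hM =>
  fixes_mul (hz y' hy' hy1' _ hN hM) (C.toSit.fY hy' hy1' hy hN hM)

omit [Finite G] C in
theorem sq_mul' {z y : G} (zz : z * z = 1) (yy : y * y = 1) (h : z * y = y * z) : z * y * (z * y) = 1 := by
  calc z * y * (z * y) = z * (y * z) * y := by group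
    _ = (z * z) * (y * y) := by rw [← h]; group
    _ = 1 := by rw [zz, yy, one_mul]

omit [Finite G] C in
theorem comm_mul' {E : Subgroup G} {z y : G} (hz : ∀ e ∈ E, z * e = e * z) (hy : ∀ e ∈ E, y * e = e * y) :
    ∀ e ∈ E, z * y * e = e * (z * y) := by
  intro e he
  rw [mul_assoc, hy e he, ← mul_assoc, hz e he, mul_assoc]

/-- **(2)** -/
theorem v_eq {τ b : P7} (h : TB τ b) {u v : G} (U : UV Y V K L τ b u v) {y : G} (hy : y ∈ Y) (hy1 : y ≠ 1)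
    (hφ : L.φ y = b) : v = y := by
  have hJ := C.jyY (C.jyv h U hy hy1 (Or.inl hφ)) hy
  have hvy := U.ve y (C.yE hy)
  have hyE : ∀ e ∈ Y ⊔ V, y * e = e * y := fun e he => C.toFr.E_comm (C.yE hy) he
  by_contra hne
  have h1 : v * y ≠ 1 := by
    intro h
    apply hne
    rw [eq_inv_of_mul_eq_one_left h, inv_eq_of_mul_eq_one_left (C.ysq y hy)]
  obtain ⟨-, h3, -⟩ := C.one (sq_mul' U.vv (C.ysq y hy) hvy) h1 (comm_mul' U.ve hyE) hJ
  apply h3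
  rw [L.mul _ _ (le_normalizer U.vK) (C.eN (C.yE hy)), U.φv, hφ]
  exact isV_sq h.bV

/-- `y ∈ Y#` over `b ∈ V₄` lies in `K` -/
theorem y_mem {y : G} (hy : y ∈ Y) (hy1 : y ≠ 1) (hφ : IsV (L.φ y)) : y ∈ K := by
  obtain ⟨τ, h⟩ := exists_tb hφ (C.bad.y1 y hy hy1)
  obtain ⟨u, v, U⟩ := C.exists_uv h
  rw [← C.v_eq h U hy hy1 rfl]
  exact U.vK

/-- `u` centralizes `V` if `y ∈ Y#` lies over `b` -/
theorem u_comm {τ b : P7} (h : TB τ b) {u v : G} (U : UV Y V K L τ b u v) {y : G} (hy : y ∈ Y) (hy1 : y ≠ 1)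
    (hφ : L.φ y = b) {p : G} (hp : p ∈ V) : u * p = p * u := by
  obtain ⟨N, hN, hM, -⟩ := C.toFr.comp y hy hy1
  have hun := C.u_norm U hy hy1 (C.commE h (Or.inl hφ)) hN hM
  rcases U.ue p (C.vE hp) with h1 | h1
  · exact h1
  exfalso
  rw [C.v_eq h U hy hy1 hφ] at h1
  have hpN : p ∈ N := hM (C.pm hp)
  have h2 : y * p ∈ N := by rw [← h1]; exact conj_mem hun hpN
  have h3 : y ∈ N := by
    have := mul_mem h2 (inv_mem hpN)
    rwa [mul_inv_cancel_right] at this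
  obtain ⟨-, hT⟩ := C.toSit.gtN hy hy1 hN hM
  exact hT.nf y h3 (C.ysq y hy) hy1 (C.toSit.fY hy hy1 hy hN hM)

/-- `u` commutes with `y'` if `u` commutes with `y' p`, `p ∈ V` -/
theorem u_comm_of {τ b : P7} (h : TB τ b) {u v : G} (U : UV Y V K L τ b u v) {y : G} (hy : y ∈ Y) (hy1 : y ≠ 1)
    (hφ : L.φ y = b) {p y' : G} (hp : p ∈ V) (hc : u * (y' * p) = y' * p * u) : u * y' = y' * u := by
  have h1 := C.u_comm h U hy hy1 hφ hp
  have h2 : u * y' * p = y' * u * p := by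
    rw [mul_assoc, hc, mul_assoc, mul_assoc, h1]
  exact mul_right_cancel h2

/-- **(3)** `Y` acts as `V₄` -/
theorem alpha (hV : ∀ y ∈ Y, IsV (L.φ y)) : w = t ∧ (∃ t' ∈ V, L.φ t' = ta) ∧ Y ≤ K := by
  -- `y₁`, `y₂` over different elements
  obtain ⟨p, hp, q, hq, hp1, hq1, hpq⟩ := exists_gens C.ycard
  have e1 := C.bad.y1 p hp hp1
  have e2 := C.bad.y1 q hq hq1
  have e3 : L.φ p ≠ L.φ q := by
    intro h
    have h1 : p * q ≠ 1 := by
      intro h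
      apply hpq
      rw [eq_inv_of_mul_eq_one_left h, inv_eq_of_mul_eq_one_left (C.ysq q hq)]
    apply C.bad.y1 _ (mul_mem hp hq) h1
    rw [L.mul _ _ (C.eN (C.yE hp)) (C.eN (C.yE hq)), h]
    exact isV_sq (hV q hq)
  obtain ⟨τ₁, h₁⟩ := exists_tb (hV p hp) e1
  obtain ⟨τ₂, h₂⟩ := exists_tb (hV q hq) e2
  obtain ⟨u₁, v₁, U₁⟩ := C.exists_uv h₁
  obtain ⟨u₂, v₂, U₂⟩ := C.exists_uv h₂
  -- an element of `E` commuting with `u₁`, `u₂` lies in `V`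
  have key : ∀ y' ∈ Y, ∀ r ∈ V, u₁ * (y' * r) = y' * r * u₁ → u₂ * (y' * r) = y' * r * u₂ → y' = 1 := by
    intro y' hy' r hr c₁ c₂
    have d₁ := L.comm (le_normalizer U₁.uK) (C.eN (C.yE hy')) (C.u_comm_of h₁ U₁ hp hp1 rfl hr c₁)
    have d₂ := L.comm (le_normalizer U₂.uK) (C.eN (C.yE hy')) (C.u_comm_of h₂ U₂ hq hq1 rfl hr c₂)
    rw [U₁.φu] at d₁
    rw [U₂.φu] at d₂
    have h3 := isV_of_comm h₁ h₂ e3 (hV y' hy') d₁ d₂
    by_contra hne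
    exact C.bad.y1 y' hy' hne h3
  have hw1 : u₁ * (c * t) = c * t * u₁ := by
    rw [← C.wct]
    exact comm_c (C.compK.le U₁.uK)
  have hw2 : u₂ * (c * t) = c * t * u₂ := by
    rw [← C.wct]
    exact comm_c (C.compK.le U₂.uK)
  have hc1 := key c C.cY t C.tV hw1 hw2
  refine ⟨by rw [C.wct, hc1, one_mul], ?_, fun y hy => ?_⟩
  · obtain ⟨e₀, he₀, hφ₀⟩ := C.exists_φ (mem_VT_list (Or.inr (Or.inr (Or.inr (Or.inr (Or.inl rfl))))) : ta ∈ VT)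
    have k₁ := U₁.cm e₀ he₀ (by rw [hφ₀]; exact h₁.ct)
    have k₂ := U₂.cm e₀ he₀ (by rw [hφ₀]; exact h₂.ct)
    obtain ⟨y₀, hy₀, v₀, hv₀, rfl⟩ := C.toFr.mem_E.mp he₀
    have h5 := key y₀ hy₀ v₀ hv₀ k₁ k₂
    refine ⟨v₀, hv₀, ?_⟩
    rw [← hφ₀, h5, one_mul]
  · by_cases hy1 : y = 1
    · rw [hy1]; exact one_mem _
    · exact C.y_mem hy hy1 (hV y hy)

/-- **(4)** `Y` does not act as `V₄` -/
theorem gamma (hn : ¬ ∀ y ∈ Y, IsV (L.φ y)) : w = t ∧ (∃ t' ∈ V, L.φ t' = ta) ∧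
    (∃ y ∈ Y, y ≠ 1 ∧ y ∈ K ∧ IsV (L.φ y)) ∧
    ∃ s, s * s = 1 ∧ s ≠ 1 ∧ (∀ e ∈ Y ⊔ V, s * e = e * s) ∧ JY M Y s ∧ L.φ s = ta := by
  push Not at hn
  obtain ⟨y₂, hy₂, hn₂⟩ := hn
  have hy₂1 : y₂ ≠ 1 := by
    rintro rfl
    exact hn₂ (Or.inl L.one)
  have f₂ : IsV (L.φ y₂ * ta) := (C.φVT (C.yE hy₂)).resolve_left hn₂
  -- `y₁`
  obtain ⟨y₁, hy₁, hy₁1, f₁⟩ : ∃ y₁ ∈ Y, y₁ ≠ 1 ∧ IsV (L.φ y₁) := by
    obtain ⟨p, hp, q, hq, hp1, hq1, hpq⟩ := exists_gens C.ycard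
    obtain ⟨y', hy', hy1', hne⟩ : ∃ y' ∈ Y, y' ≠ 1 ∧ y' ≠ y₂ := by
      by_cases h : p = y₂
      · exact ⟨q, hq, hq1, fun h' => hpq (h.trans h'.symm)⟩
      · exact ⟨p, hp, hp1, h⟩
    by_cases hV : IsV (L.φ y')
    · exact ⟨y', hy', hy1', hV⟩
    · refine ⟨y' * y₂, mul_mem hy' hy₂, ?_, ?_⟩
      · intro h
        apply hne
        rw [eq_inv_of_mul_eq_one_left h, inv_eq_of_mul_eq_one_left (C.ysq y₂ hy₂)]
      · have f' : IsV (L.φ y' * ta) := (C.φVT (C.yE hy')).resolve_left hV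
        rw [L.mul _ _ (C.eN (C.yE hy')) (C.eN (C.yE hy₂))]
        have h1 : L.φ y' * L.φ y₂ = (L.φ y' * ta) * (L.φ y₂ * ta) := by
          calc L.φ y' * L.φ y₂ = L.φ y' * ((L.φ y₂ * ta) * ta) := by
                rw [mul_assoc (L.φ y₂), ta_ta, mul_one]
            _ = L.φ y' * (ta * (L.φ y₂ * ta)) := by rw [isV_ta f₂]
            _ = _ := by group
        rw [h1]
        exact isV_mul f' f₂
  obtain ⟨b, hb⟩ : ∃ b, b = L.φ y₂ * ta := ⟨_, rfl⟩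
  have hb' : L.φ y₂ = b * ta := by rw [hb, mul_assoc, ta_ta, mul_one]
  rw [← hb] at f₂
  have hb1 : b ≠ 1 := by
    rintro rfl
    exact C.bad.yt y₂ hy₂ (by rw [hb', one_mul])
  obtain ⟨τ, h⟩ := exists_tb f₂ hb1
  obtain ⟨u, v, U⟩ := C.exists_uv h
  have hJ := C.jyY (C.jyv h U hy₂ hy₂1 (Or.inr hb')) hy₂
  have hy₂E : ∀ e ∈ Y ⊔ V, y₂ * e = e * y₂ := fun e he => C.toFr.E_comm (C.yE hy₂) he
  have hs := sq_mul' U.vv (C.ysq y₂ hy₂) (U.ve y₂ (C.yE hy₂))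
  have hφs : L.φ (v * y₂) = ta := by
    rw [L.mul _ _ (le_normalizer U.vK) (C.eN (C.yE hy₂)), U.φv, hb', ← mul_assoc, isV_sq f₂, one_mul]
  have hta1 : ta ≠ 1 := by decide
  have hs1 : v * y₂ ≠ 1 := by
    intro h
    rw [h, L.one] at hφs
    exact hta1 hφs.symm
  have hcE := comm_mul' U.ve hy₂E
  obtain ⟨-, -, h3⟩ := C.one hs hs1 hcE hJ
  have h4 := h3 hφs
  obtain ⟨p, hp, q, hq, hp1, hq1, hpq⟩ := exists_gens C.pcard
  have hpq1 : p * q ≠ 1 := by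
    intro h
    apply hpq
    rw [eq_inv_of_mul_eq_one_left h, inv_eq_of_mul_eq_one_left (C.psq q hq)]
  -- `w ∈ V`
  obtain ⟨r, hr, hr1, hφr⟩ : ∃ r ∈ V, r ≠ 1 ∧ L.φ r = 1 := by
    rcases h4 p hp with h5 | h5
    · exact ⟨p, hp, hp1, h5⟩
    · rcases h4 q hq with h6 | h6
      · exact ⟨q, hq, hq1, h6⟩
      · refine ⟨p * q, mul_mem hp hq, hpq1, ?_⟩
        rw [L.mul _ _ (C.eN (C.vE hp)) (C.eN (C.vE hq)), h5, h6, ta_ta]
  have hrw : r = w := (C.ker (C.vE hr) hφr).resolve_left hr1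
  have hc1 : c = 1 := by
    refine C.toFr.inf_eq C.cY ?_
    have h5 : c = w * t⁻¹ := by rw [C.wct, mul_inv_cancel_right]
    rw [h5, ← hrw]
    exact mul_mem hr (inv_mem C.tV)
  refine ⟨by rw [C.wct, hc1, one_mul], ?_, ⟨y₁, hy₁, hy₁1, C.y_mem hy₁ hy₁1 f₁, f₁⟩,
    ⟨v * y₂, hs, hs1, hcE, hJ, hφs⟩⟩
  obtain ⟨v₀, hv₀, hv₀K⟩ := C.not_fix
  refine ⟨v₀, hv₀, (h4 v₀ hv₀).resolve_left fun h => hv₀K ?_⟩
  exact (L.fixes_iff (C.eN (C.vE hv₀))).mp h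

end Cx

end Cfsg.Agent.UGT.A7.M1.Cfg7
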