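import Cfsg.Agent.UGT.L2Inner.WBMain

/-!
# Weak 2-balance, generic base

`Y` a four-group commuting with `M`; for `y ∈ Y#` the group `M` covers `L / O(L)`, `L` a 2-component of `C(y)` of generic type
`GT L` (involutions of `L` act nontrivially on `L / O(L)`; in `Aut(L / O(L))` their centralizers have no perfect subgroups).

* `YF.star`: `t ∈ M` an involution, `c ∈ Y`, `y ∈ Y#`, `I` a 2-component of `C(c t) ∩ C(y)`: `C_M(t)` fixes `I`.
* `Fr M Y P`: with a four-group `P ≤ M`, `h ∈ L`, `h² = 1`, `[h, P] = 1` ⊢ `h ∈ P`.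
* `Fr.claim`: a 2-component `K` (`KT K`) of `C(c)`, `c ∈ E# = (Y P)#`, on which a four-group of `E` acts faithfully, is
  normalized by `E`.
* `Fr.norm` = (iii); `YF.fixes_of_moved`.
-/

set_option autoImplicit false
set_option linter.unusedSectionVars false

open Cfsg Subgroup
open Cfsg.Agent.SignalizersComponents Cfsg.Agent.Lib
open Cfsg.Agent.SignalizersComponents.IntrinsicBasic
open Cfsg.Agent.SignalizersComponents.PLayerAut
open Cfsg.Agent.Intrinsic.Basic Cfsg.Agent.Intrinsic.Cen Cfsg.Agent.Intrinsic.Diag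
open Cfsg.Agent.McLLyComp.Act
open Cfsg.Agent.UGT.Triple Cfsg.Agent.UGT.TriBase
open Cfsg.Agent.UGT.L2Inner (comm_of_sq order_two isPGroup_of_sq exists_gens exists_not_mem meet_or_mul
  fixes_of_comm_core eq_one_of_syl L2T not_fixes_of_mem exists_two_inv)
open scoped commutatorElement

namespace Cfsg.Agent.UGT.A7.M1

universe u

variable {G : Type u} [Group G]

/-- involutions of `L` act nontrivially on `L / O(L)` and their centralizers in `Aut (L / O(L))` have no perfect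
subgroups -/
structure GT (L : Subgroup G) : Prop where
  nf : ∀ v ∈ L, v * v = 1 → v ≠ 1 → ¬ Fixes v L
  sol : ∀ v ∈ L, v * v = 1 → v ≠ 1 → ∀ I : Subgroup G, I ≤ normalizer (L : Set G) → ⁅I, I⁆ = I →
    (∀ i ∈ I, Fixes ⁅i, v⁆ L) → ∀ i ∈ I, Fixes i L

/-- the type of a moved 2-component -/
structure KT (K : Subgroup G) : Prop where
  nf : ∀ v ∈ K, v * v = 1 → v ≠ 1 → ¬ Fixes v K
  two : ∀ X R : Subgroup G, IsComp X K → IsSyl X R →
    ∃ a ∈ R ⊓ K, ∃ b ∈ R ⊓ K, a * a = 1 ∧ b * b = 1 ∧ a ≠ 1 ∧ b ≠ 1 ∧ a ≠ b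

/-- The frame without the four-group of `M`. -/
structure YF (M Y : Subgroup G) : Prop where
  ysq : ∀ y ∈ Y, y * y = 1
  ycard : Nat.card Y = 4
  ym : ∀ y ∈ Y, ∀ m ∈ M, y * m = m * y
  comp : ∀ y ∈ Y, y ≠ 1 → ∃ L, IsComp (centralizer ({y} : Set G)) L ∧ M ≤ L ∧ M ⊔ core L = L ∧ GT L

/-- The frame. -/
structure Fr (M Y P : Subgroup G) : Prop extends YF M Y where
  psq : ∀ p ∈ P, p * p = 1
  pcard : Nat.card P = 4
  pm : P ≤ M
  cen : ∀ y ∈ Y, y ≠ 1 → ∀ L, IsComp (centralizer ({y} : Set G)) L → M ≤ L → M ⊔ core L = L →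
    ∀ h ∈ L, h * h = 1 → (∀ p ∈ P, h * p = p * h) → h ∈ P

section finite

variable [Finite G]

theorem KT.of_l2 {K : Subgroup G} (h : L2T K) : KT K :=
  ⟨fun _ hv hvv hv1 => not_fixes_of_mem h hv hvv hv1, fun _ _ hK hR => exists_two_inv hK h hR⟩

/-- 2-components with a common involution are equal -/
theorem eq_of_inv {X L L' : Subgroup G} (hL : IsComp X L) (hL' : IsComp X L')
    (nf : ∀ v ∈ L, v * v = 1 → v ≠ 1 → ¬ Fixes v L) {v : G}
    (hv : v ∈ L) (hv' : v ∈ L') (hvv : v * v = 1) (hv1 : v ≠ 1) : L = L' := by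
  by_contra hne
  exact nf v hv hvv hv1 (hL.fixes_of_mem hL' hne hv')

/-- the elements of `X` commuting with an involution of `L` normalize `L` -/
theorem normalizes_of_comm {X L : Subgroup G} (hL : IsComp X L)
    (nf : ∀ v ∈ L, v * v = 1 → v ≠ 1 → ¬ Fixes v L) {v g : G}
    (hv : v ∈ L) (hvv : v * v = 1) (hv1 : v ≠ 1) (hg : g ∈ X) (hgv : g * v = v * g) :
    g ∈ normalizer (L : Set G) := by
  rw [mem_normalizer_iff_cj]
  refine (eq_of_inv hL (isComp_cj_of_mem hL hg) nf hv ?_ hvv hv1).symm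
  have h1 : g * v * g⁻¹ ∈ cj g L := conj_mem_cj hv
  rwa [hgv, mul_inv_cancel_right] at h1

end finite

namespace YF

variable {M Y : Subgroup G} (hF : YF M Y)

include hF

theorem sq_mul {c t : G} (hc : c ∈ Y) (ht : t ∈ M) (htt : t * t = 1) : c * t * (c * t) = 1 := by
  calc c * t * (c * t) = c * (t * c) * t := by group
    _ = c * (c * t) * t := by rw [hF.ym c hc t ht]
    _ = (c * c) * (t * t) := by group
    _ = 1 := by rw [hF.ysq c hc, htt, one_mul]

theorem comm_ct {y c t : G} (hy : y ∈ Y) (hc : c ∈ Y) (ht : t ∈ M) :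
    y * (c * t) = c * t * y := by
  calc y * (c * t) = (y * c) * t := by group
    _ = c * (y * t) := by rw [comm_of_sq hF.ysq hy hc]; group
    _ = c * t * y := by rw [hF.ym y hy t ht]; group

theorem comm_mt {m c t : G} (hm : m ∈ M) (hmt : m * t = t * m) (hc : c ∈ Y) :
    m * (c * t) = c * t * m := by
  calc m * (c * t) = (m * c) * t := by group
    _ = c * (m * t) := by rw [← hF.ym c hc m hm]; group
    _ = c * t * m := by rw [hmt]; group

variable [Finite G]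

/-- `Y ∩ M = 1` -/
theorem inf_eq {t : G} (hy : t ∈ Y) (hM : t ∈ M) : t = 1 := by
  by_contra h1
  obtain ⟨L, hL, hML, -, hT⟩ := hF.comp t hy h1
  exact hT.nf t (hML hM) (hF.ysq t hy) h1 (fixes_self' hL.le)

/-- `Y` fixes `L_y` -/
theorem fixes_Y {y c t : G} (hy : y ∈ Y) (hc : c ∈ Y) (ht : t ∈ M) (htt : t * t = 1) (ht1 : t ≠ 1)
    {L : Subgroup G} (hL : IsComp (centralizer ({y} : Set G)) L) (hML : M ≤ L)
    (hs : M ⊔ core L = L) (hT : GT L) : Fixes c L := by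
  have hcL : c ∈ normalizer (L : Set G) :=
    normalizes_of_comm hL hT.nf (hML ht) htt ht1 (mem_c (comm_of_sq hF.ysq hc hy)) (hF.ym c hc t ht)
  have hcM : Fixes c M := fixes_self' fun m hm => mem_c (hF.ym c hc m hm).symm
  exact (fixes_iff_of_sup hs hcM.1 hcL).mp hcM

/-- a 2-component of `C(c t) ∩ C(y)` fixes `L_y` -/
theorem comp_fixes {t c y : G} {I L : Subgroup G} (ht : t ∈ M) (htt : t * t = 1) (ht1 : t ≠ 1) (hc : c ∈ Y)
    (hy : y ∈ Y) (hL : IsComp (centralizer ({y} : Set G)) L) (hML : M ≤ L) (hs : M ⊔ core L = L) (hT : GT L)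
    (hI : IsComp (centralizer ({c * t} : Set G) ⊓ centralizer ({y} : Set G)) I) :
    ∀ i ∈ I, Fixes i L := by
  have hcyX : c * t * y = y * (c * t) := (hF.comm_ct hy hc ht).symm
  have hI' := hI
  rw [inf_comm] at hI'
  have hIN : I ≤ normalizer (L : Set G) :=
    (isComp_le_L2 (mem_c hcyX) (hF.sq_mul hc ht htt) hI').trans hL.L2_le_normalizer
  have hcL : Fixes c L := hF.fixes_Y hy hc ht htt ht1 hL hML hs hT
  refine hT.sol t (hML ht) htt ht1 I hIN hI.perfect fun i hi => ?_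
  have h1 : ⁅i, t⁆ = (i * c⁻¹ * i⁻¹) * c := by
    have h2 := comm_c (hI.le hi).1
    rw [commutatorElement_def]
    calc i * t * i⁻¹ * t⁻¹ = i * c⁻¹ * (c * t) * i⁻¹ * t⁻¹ := by group
      _ = i * c⁻¹ * i⁻¹ * (i * (c * t)) * i⁻¹ * t⁻¹ := by group
      _ = i * c⁻¹ * i⁻¹ * (c * t * i) * i⁻¹ * t⁻¹ := by rw [h2]
      _ = (i * c⁻¹ * i⁻¹) * c := by group
  rw [h1]
  exact fixes_mul (fixes_conj (fixes_inv hcL) (hIN hi)) hcL

/-- **(*)** -/
theorem star {t c y m : G} {I : Subgroup G} (ht : t ∈ M) (htt : t * t = 1) (ht1 : t ≠ 1) (hc : c ∈ Y)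
    (hy : y ∈ Y) (hy1 : y ≠ 1)
    (hI : IsComp (centralizer ({c * t} : Set G) ⊓ centralizer ({y} : Set G)) I) (hm : m ∈ M)
    (hmt : m * t = t * m) : Fixes m I := by
  obtain ⟨L, hL, hML, hs, hT⟩ := hF.comp y hy hy1
  have hmc : m ∈ centralizer ({c * t} : Set G) := mem_c (hF.comm_mt hm hmt hc)
  refine fixes_of_comm_core hI ⟨hmc, mem_c (hF.ym y hy m hm).symm⟩ fun i hi => ?_
  have hiL : Fixes i L := hF.comp_fixes ht htt ht1 hc hy hL hML hs hT hI i hi
  refine inf_le_core ?_ ?_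
  · have h5 := hL.core_le_core (hiL.2 m (hML hm))
    have h6 : ⁅m, i⁆ = ⁅i, m⁆⁻¹ := (commutatorElement_inv i m).symm
    rw [h6]
    exact inv_mem h5
  · rw [commutatorElement_def]
    exact mul_mem (mul_mem (mul_mem hmc (hI.le hi).1) (inv_mem hmc)) (inv_mem (hI.le hi).1)

/-- some element of `Y` moves `K` -/
theorem fixes_of_moved {t s c y : G} {K : Subgroup G} (ht : t ∈ M) (htt : t * t = 1) (ht1 : t ≠ 1)
    (hs : s ∈ M) (hst : s * t = t * s) (hso : Odd (orderOf s)) (hc : c ∈ Y)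
    (hK : IsComp (centralizer ({c * t} : Set G)) K) (hy : y ∈ Y)
    (hyK : y ∉ normalizer (K : Set G)) : Fixes s K := by
  have hy1 : y ≠ 1 := by
    rintro rfl
    exact hyK (one_mem _)
  have hyy := hF.ysq y hy
  have hyX : y ∈ centralizer ({c * t} : Set G) := mem_c (hF.comm_ct hy hc ht)
  have hsX : s ∈ centralizer ({c * t} : Set G) := mem_c (hF.comm_mt hs hst hc)
  have hne : cj y K ≠ K := fun h => hyK (mem_normalizer_iff_cj.mpr h)
  obtain ⟨h1, -, -, h4, -⟩ := exists_diag hK hyX hyy hne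
  have hsI := hF.star ht htt ht1 hc hy hy1 h1 hs hst
  have hsy : s * y = y * s := (hF.ym y hy s hs).symm
  have hyi : cj y (cj y K) = K := by rw [← cj_mul, hyy, cj_one]
  have hsyK : ∀ J : Subgroup G, cj s (cj y J) = cj y (cj s J) := by
    intro J
    rw [← cj_mul, hsy, cj_mul]
  -- `s` permutes `K` and `K ^ y`
  have hcase : cj s K = K ∨ cj s K = cj y K := by
    by_contra hcon
    push Not at hcon
    have h5 : diag (centralizer ({c * t} : Set G)) (cj s K) y =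
        diag (centralizer ({c * t} : Set G)) K y := by
      have h6 := mem_normalizer_iff_cj.mp hsI.1
      rw [cj_diag, cj_eq_self_of_mem hsX] at h6
      have h7 : s * y * s⁻¹ = y := by rw [hsy, mul_inv_cancel_right]
      rwa [h7] at h6
    refine diag_ne hK hyX hyy hne (isComp_cj_of_mem hK hsX) ?_ hcon.1 hcon.2 h5
    rw [← hsyK]
    intro h8
    exact hne (cj_injective s h8)
  have hs2 : s * s ∈ normalizer (K : Set G) := by
    rw [mem_normalizer_iff_cj, cj_mul]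
    rcases hcase with h | h
    · rw [h, h]
    · rw [h, hsyK, h, hyi]
  have hsK : s ∈ normalizer (K : Set G) := by
    obtain ⟨k, hk⟩ := hso
    have hn : (s * s) ^ (k + 1) = s := by
      rw [← pow_two, ← pow_mul, show 2 * (k + 1) = (2 * k + 1) + 1 by ring, ← hk, pow_succ,
        pow_orderOf_eq_one, one_mul]
    rw [← hn]
    exact pow_mem hs2 _
  refine fixes_of_comm_diag hK hyX hyy hne hsX hsK ?_ fun m hm => ?_
  · rw [mem_normalizer_iff_cj, hsyK, mem_normalizer_iff_cj.mp hsK]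
  · have h5 := hsI.2 m hm
    rw [h4] at h5
    exact h5.2

/-- some `y' ∈ Y#` fixes `K` -/
theorem fixes_of_fixes {t s c y : G} {K : Subgroup G} (ht : t ∈ M) (htt : t * t = 1) (ht1 : t ≠ 1)
    (hs : s ∈ M) (hst : s * t = t * s) (hc : c ∈ Y)
    (hK : IsComp (centralizer ({c * t} : Set G)) K) (hy : y ∈ Y) (hy1 : y ≠ 1)
    (hf : Fixes y K) (hsK : s ∈ normalizer (K : Set G)) : Fixes s K := by
  obtain ⟨h1, h3⟩ := isComp_cen hK (mem_c (hF.comm_ct hy hc ht)) (hF.ysq y hy) hf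
  have h4 := hF.star ht htt ht1 hc hy hy1 h1 hs hst
  exact (fixes_iff_of_sup h3 h4.1 hsK).mp h4

end YF

/-- a 2-component `K` of `C(c)`, `c ∈ E#`, on which the four-group `D` of `E` acts faithfully -/
structure Bad0 (Y P D : Subgroup G) (c : G) (K : Subgroup G) : Prop where
  cE : c ∈ Y ⊔ P
  c1 : c ≠ 1
  comp : IsComp (centralizer ({c} : Set G)) K
  type : KT K
  DE : D ≤ Y ⊔ P
  D4 : Nat.card D = 4
  nrm : ∀ d ∈ D, d ∈ normalizer (K : Set G)
  nfx : ∀ d ∈ D, d ≠ 1 → ¬ Fixes d K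

namespace Fr

variable {M Y P : Subgroup G} (hF : Fr M Y P)

include hF

theorem yp {y p : G} (hy : y ∈ Y) (hp : p ∈ P) : y * p = p * y := hF.ym y hy p (hF.pm hp)

theorem mem_E {e : G} : e ∈ Y ⊔ P ↔ ∃ y ∈ Y, ∃ p ∈ P, e = y * p := by
  constructor
  · intro he
    obtain ⟨y, hy, p, hp, h⟩ := SL.exists_mul_of_mem_sup (A := Y) (B := P) (fun b hb a ha => by
      rw [← hF.ym a ha b (hF.pm hb), mul_inv_cancel_right]
      exact ha) he
    exact ⟨y, hy, p, hp, h.symm⟩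
  · rintro ⟨y, hy, p, hp, rfl⟩
    exact mul_mem ((le_sup_left : Y ≤ Y ⊔ P) hy) ((le_sup_right : P ≤ Y ⊔ P) hp)

theorem E_sq {e : G} (he : e ∈ Y ⊔ P) : e * e = 1 := by
  obtain ⟨y, hy, p, hp, rfl⟩ := hF.mem_E.mp he
  exact hF.toYF.sq_mul hy (hF.pm hp) (hF.psq p hp)

theorem E_comm {e f : G} (he : e ∈ Y ⊔ P) (hf : f ∈ Y ⊔ P) : e * f = f * e :=
  comm_of_sq (fun _ h => hF.E_sq h) he hf

theorem E_le {e : G} (he : e ∈ Y ⊔ P) : Y ⊔ P ≤ centralizer ({e} : Set G) := fun _ hf =>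
  mem_c (hF.E_comm hf he)

variable [Finite G]

/-- `Y ∩ P = 1` -/
theorem inf_eq {t : G} (hy : t ∈ Y) (hp : t ∈ P) : t = 1 := hF.toYF.inf_eq hy (hF.pm hp)

theorem E_card : Nat.card ↥(Y ⊔ P) = 16 := by
  let f : ↥Y × ↥P → ↥(Y ⊔ P) := fun p => ⟨p.1 * p.2, hF.mem_E.mpr ⟨p.1, p.1.2, p.2, p.2.2, rfl⟩⟩
  have hf : Function.Bijective f := by
    constructor
    · rintro ⟨⟨d, hd⟩, ⟨t, ht⟩⟩ ⟨⟨d', hd'⟩, ⟨t', ht'⟩⟩ heq
      have h1 : d * t = d' * t' := congrArg Subtype.val heq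
      have h2 : d'⁻¹ * d = t' * t⁻¹ := by
        rw [eq_mul_inv_iff_mul_eq, mul_assoc, h1, inv_mul_cancel_left]
      have h3 := hF.inf_eq (Y.mul_mem (Y.inv_mem hd') hd) (by
        rw [h2]; exact P.mul_mem ht' (P.inv_mem ht))
      have h4 : d = d' := (inv_mul_eq_one.mp h3).symm
      have h5 : t = t' := by
        rw [h3] at h2
        exact (mul_inv_eq_one.mp h2.symm).symm
      subst h4 h5
      rfl
    · rintro ⟨e, he⟩
      obtain ⟨y, hy, p, hp, rfl⟩ := hF.mem_E.mp he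
      exact ⟨⟨⟨y, hy⟩, ⟨p, hp⟩⟩, rfl⟩
  rw [← Nat.card_congr (Equiv.ofBijective f hf), Nat.card_prod, hF.ycard, hF.pcard]

/-- a four-group `D` of `E` meets `P⟨e⟩`, `e ∈ E ∖ P` -/
theorem exists_meet {D : Subgroup G} (hD : D ≤ Y ⊔ P) (hD4 : Nat.card D = 4) {e : G}
    (he : e ∈ Y ⊔ P) (heP : e ∉ P) : ∃ d ∈ D, d ≠ 1 ∧ (d ∈ P ∨ d * e ∈ P) := by
  rcases meet_or_mul hD (le_sup_right : P ≤ Y ⊔ P) (by rw [hD4, hF.pcard, hF.E_card]) with h | h
  · obtain ⟨g, h1, h2, h3⟩ := h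
    exact ⟨g, h1, h3, Or.inl h2⟩
  · obtain ⟨d, hd, t, ht, rfl⟩ := h e he
    refine ⟨d, hd, ?_, Or.inr ?_⟩
    · rintro rfl
      rw [one_mul] at heP
      exact heP ht
    · rw [← mul_assoc, hF.E_sq (hD hd), one_mul]
      exact ht

/-- the case `c ∈ Y` -/
theorem step0 {D K : Subgroup G} {c : G} (B : Bad0 Y P D c K) (hc : c ∈ Y) :
    M ≤ K ∧ M ⊔ core K = K ∧ GT K := by
  obtain ⟨L, hL, hML, hs, hT⟩ := hF.comp c hc B.c1
  by_cases hKL : K = L
  · subst hKL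
    exact ⟨hML, hs, hT⟩
  · exfalso
    have hPK : ∀ p ∈ P, Fixes p K := fun p hp =>
      B.comp.fixes_of_mem hL hKL (hML (hF.pm hp))
    obtain ⟨d, hd, hd1, h | h⟩ := hF.exists_meet B.DE B.D4 B.cE (fun h => B.c1 (hF.inf_eq hc h))
    · exact B.nfx d hd hd1 (hPK d h)
    · apply B.nfx d hd hd1
      have h1 := fixes_mul (hPK _ h) (fixes_self' B.comp.le : Fixes c K)
      rwa [mul_assoc, hF.ysq c hc, mul_one] at h1

/-- `E` normalizes `L_c`, `c ∈ Y#` -/
theorem norm0 {K : Subgroup G} {c : G} (hc : c ∈ Y) (hK : IsComp (centralizer ({c} : Set G)) K)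
    (hMK : M ≤ K) (hT : GT K) : Y ⊔ P ≤ normalizer (K : Set G) := by
  intro e he
  obtain ⟨v, hv, -, -, hv1, -, -⟩ := exists_gens hF.pcard
  exact normalizes_of_comm hK hT.nf (hMK (hF.pm hv)) (hF.psq v hv) hv1
    (mem_c (hF.E_comm he ((le_sup_left : Y ≤ Y ⊔ P) hc)))
    (hF.E_comm he ((le_sup_right : P ≤ Y ⊔ P) hv))

/-- a 2-component `I` of `C(c₁ v) ∩ C(y)`, `y ∈ Y#`: `P` fixes `I` -/
theorem star {c₁ v y p : G} {I : Subgroup G} (hc₁ : c₁ ∈ Y) (hv : v ∈ P) (hv1 : v ≠ 1) (hy : y ∈ Y) (hy1 : y ≠ 1)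
    (hI : IsComp (centralizer ({c₁ * v} : Set G) ⊓ centralizer ({y} : Set G)) I) (hp : p ∈ P) : Fixes p I :=
  hF.toYF.star (hF.pm hv) (hF.psq v hv) hv1 hc₁ hy hy1 hI (hF.pm hp) (comm_of_sq hF.psq hp hv)

/-- `Y` normalizes `K` -/
theorem step1 {D K : Subgroup G} {c₁ v : G} (B : Bad0 Y P D (c₁ * v) K) (hc₁ : c₁ ∈ Y) (hv : v ∈ P)
    (hv1 : v ≠ 1) {y : G} (hy : y ∈ Y) : y ∈ normalizer (K : Set G) := by
  by_contra hn
  have hy1 : y ≠ 1 := by
    rintro rfl
    exact hn (one_mem _)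
  have hne : cj y K ≠ K := fun h => hn (mem_normalizer_iff_cj.mpr h)
  have hyE : y ∈ Y ⊔ P := (le_sup_left : Y ≤ Y ⊔ P) hy
  have hyX : y ∈ centralizer ({c₁ * v} : Set G) := mem_c (hF.E_comm hyE B.cE)
  obtain ⟨h1, -, -, h4, -⟩ := exists_diag B.comp hyX (hF.ysq y hy) hne
  obtain ⟨I, hI⟩ : ∃ I, I = diag (centralizer ({c₁ * v} : Set G)) K y := ⟨_, rfl⟩
  rw [← hI] at h1 h4
  have hPI : ∀ p ∈ P, Fixes p I := fun p hp => hF.star hc₁ hv hv1 hy hy1 h1 hp
  obtain ⟨g, hg, hg1, hgP⟩ := hF.exists_meet B.DE B.D4 hyE (fun h => hy1 (hF.inf_eq hy h))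
  have hgI : Fixes g I := by
    rcases hgP with h | h
    · exact hPI g h
    · have h5 := fixes_mul (hPI _ h) (fixes_self' (h1.le.trans inf_le_right) : Fixes y I)
      rwa [mul_assoc, hF.ysq y hy, mul_one] at h5
  have hgy : g * y = y * g := hF.E_comm (B.DE hg) hyE
  refine B.nfx g hg hg1 (fixes_of_comm_diag B.comp hyX (hF.ysq y hy) hne
    (mem_c (hF.E_comm (B.DE hg) B.cE)) (B.nrm g hg) ?_ fun m hm => ?_)
  · rw [mem_normalizer_iff_cj, ← cj_mul, hgy, cj_mul, mem_normalizer_iff_cj.mp (B.nrm g hg)]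
  · rw [← hI] at hm
    have h6 := hgI.2 m hm
    rw [h4] at h6
    exact h6.2

/-- `b ∈ K` an involution of a Sylow 2-subgroup `R ≥ E` of `C(c)`, `v' ∈ P` not normalizing `K`: `b` acts on `K`
as `c₁`. -/
theorem step2_key {K R : Subgroup G} {c₁ v v' y b : G}
    (hK : IsComp (centralizer ({c₁ * v} : Set G)) K) (hKT : KT K) (hc₁ : c₁ ∈ Y)
    (hv : v ∈ P) (hv1 : v ≠ 1) (hv' : v' ∈ P) (hvK : v ∈ normalizer (K : Set G))
    (hv'K : v' ∉ normalizer (K : Set G)) (hy : y ∈ Y) (hy1 : y ≠ 1) (hyc : c₁ = 1 ∨ c₁ = y)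
    (hR : IsSyl (centralizer ({c₁ * v} : Set G)) R) (hER : Y ⊔ P ≤ R) (hb : b ∈ R) (hbK : b ∈ K)
    (hbb : b * b = 1) (hb1 : b ≠ 1) (hby : b * y = y * b) : Fixes (b * c₁) K := by
  obtain ⟨L, hL, hML, hs, hT⟩ := hF.comp y hy hy1
  have hPE : P ≤ Y ⊔ P := le_sup_right
  have cE : c₁ * v ∈ Y ⊔ P := hF.mem_E.mpr ⟨c₁, hc₁, v, hv, rfl⟩
  have hbi : b⁻¹ = b := inv_eq_of_mul_eq_one_left hbb
  have hvv := hF.psq v hv
  have hvv' := hF.psq v' hv'
  have hvi' : v'⁻¹ = v' := inv_eq_of_mul_eq_one_left hvv'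
  have hcc := hF.ysq c₁ hc₁
  have hcomm : v * v' = v' * v := comm_of_sq hF.psq hv hv'
  have hc₁v : c₁ * v = v * c₁ := hF.yp hc₁ hv
  have hvL : v ∈ L := hML (hF.pm hv)
  have hvL' : v' ∈ L := hML (hF.pm hv')
  have hv'1 : v' ≠ 1 := by
    rintro rfl
    exact hv'K (one_mem _)
  have hne : v ≠ v' := by
    rintro rfl
    exact hv'K hvK
  have hbc : b * (c₁ * v) = (c₁ * v) * b := comm_c (hK.le hbK)
  have hbc₁ : b * c₁ = c₁ * b := by
    rcases hyc with h | h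
    · rw [h, mul_one, one_mul]
    · rw [h]; exact hby
  have hbv : b * v = v * b := by
    calc b * v = b * (c₁ * c₁) * v := by rw [hcc, mul_one]
      _ = (b * c₁) * (c₁ * v) := by group
      _ = c₁ * (b * (c₁ * v)) := by rw [hbc₁]; group
      _ = (c₁ * c₁) * v * b := by rw [hbc]; group
      _ = v * b := by rw [hcc, one_mul]
  have hbL : b ∈ normalizer (L : Set G) :=
    normalizes_of_comm hL hT.nf hvL hvv hv1 (mem_c hby) hbv
  have hvX' : v' ∈ centralizer ({c₁ * v} : Set G) := mem_c (hF.E_comm (hPE hv') cE)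
  have hK' : IsComp (centralizer ({c₁ * v} : Set G)) (cj v' K) := isComp_cj_of_mem hK hvX'
  have hKK' : K ≠ cj v' K := fun h => hv'K (mem_normalizer_iff_cj.mpr h.symm)
  -- `b' = v' b v'`
  obtain ⟨b', hb'⟩ : ∃ b', b' = v' * b * v'⁻¹ := ⟨_, rfl⟩
  have hb'K : b' ∈ cj v' K := hb' ▸ conj_mem_cj hbK
  have hb'R : b' ∈ R := by
    rw [hb']
    exact mul_mem (mul_mem (hER (hPE hv')) hb) (inv_mem (hER (hPE hv')))
  have hb'b' : b' * b' = 1 := by
    rw [hb']
    calc v' * b * v'⁻¹ * (v' * b * v'⁻¹) = v' * (b * b) * v'⁻¹ := by group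
      _ = 1 := by rw [hbb]; group
  have hbb' : b * b' = b' * b := by
    have h1 : ⁅b, b'⁆ ∈ core K :=
      (hK.comm_le_core hK' hKK' (commutator_mem_commutator hbK hb'K)).1
    have h2 : ⁅b, b'⁆ ∈ R := by
      rw [commutatorElement_def]
      exact mul_mem (mul_mem (mul_mem hb hb'R) (inv_mem hb)) (inv_mem hb'R)
    exact commutatorElement_eq_one_iff_mul_comm.mp (eq_one_of_syl hR h2 h1)
  have hfb' : Fixes b' K := hK.fixes_of_mem hK' hKK' hb'K
  have hb'v : b' * v = v * b' := by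
    rw [hb', hvi']
    calc v' * b * v' * v = v' * b * (v * v') := by rw [hcomm]; group
      _ = v' * (b * v) * v' := by group
      _ = (v' * v) * b * v' := by rw [hbv]; group
      _ = v * (v' * b * v') := by rw [← hcomm]; group
  have hvb' : v' * b' = b * v' := by
    rw [hb', hvi']
    calc v' * (v' * b * v') = (v' * v') * b * v' := by group
      _ = b * v' := by rw [hvv', one_mul]
  have hb'v' : b' * v' = v' * b := by
    rw [hb', hvi', mul_assoc, hvv', mul_one]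
  -- `h = b b'`
  obtain ⟨h, hh⟩ : ∃ h, h = b * b' := ⟨_, rfl⟩
  have hhL : h ∈ L := by
    have h1 : h = (b * v' * b⁻¹) * v'⁻¹ := by
      rw [hh, hb', hbi]; group
    rw [h1]
    exact mul_mem (conj_mem hbL hvL') (inv_mem hvL')
  have hhh : h * h = 1 := by
    rw [hh]
    calc b * b' * (b * b') = b * (b' * b) * b' := by group
      _ = b * (b * b') * b' := by rw [hbb']
      _ = (b * b) * (b' * b') := by group
      _ = 1 := by rw [hbb, hb'b', one_mul]
  have hhv : h * v = v * h := by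
    rw [hh]
    calc b * b' * v = b * (b' * v) := by group
      _ = (b * v) * b' := by rw [hb'v]; group
      _ = v * (b * b') := by rw [hbv]; group
  have hhv' : h * v' = v' * h := by
    rw [hh]
    calc b * b' * v' = b * (b' * v') := by group
      _ = (b * v') * b := by rw [hb'v']; group
      _ = v' * (b' * b) := by rw [← hvb']; group
      _ = v' * (b * b') := by rw [hbb']
  have hhK : h ∈ normalizer (K : Set G) := hh ▸ mul_mem (le_normalizer hbK) hfb'.1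
  -- `P = {1, v, v', v v'}`
  have hPeq : ∀ p ∈ P, p = 1 ∨ p = v ∨ p = v' ∨ p = v * v' := by
    intro p hp
    by_contra hcon
    push Not at hcon
    have h1 : ({1, v, v', v * v', p} : Set G) ⊆ P := by
      rintro x (rfl | rfl | rfl | rfl | rfl)
      exacts [one_mem _, hv, hv', mul_mem hv hv', hp]
    have h2 := Set.ncard_le_ncard h1 (Set.toFinite _)
    have h3 : (P : Set G).ncard = 4 := by
      rw [← hF.pcard]
      exact (Nat.card_coe_set_eq _).symm
    have hvv1 : v * v' ≠ 1 := by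
      intro h
      apply hne
      have h4 := eq_inv_of_mul_eq_one_left h
      rwa [hvi'] at h4
    have h4 : ({1, v, v', v * v', p} : Set G).ncard = 5 := by
      rw [Set.ncard_insert_of_notMem, Set.ncard_insert_of_notMem, Set.ncard_insert_of_notMem,
        Set.ncard_insert_of_notMem, Set.ncard_singleton]
      · intro h
        exact hcon.2.2.2 (Set.mem_singleton_iff.mp h).symm
      · rintro (h | h)
        · exact hv1 (right_eq_mul.mp h)
        · exact hcon.2.2.1 (Set.mem_singleton_iff.mp h).symm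
      · rintro (h | h | h)
        · exact hne h
        · exact hv'1 (left_eq_mul.mp h)
        · exact hcon.2.1 (Set.mem_singleton_iff.mp h).symm
      · rintro (h | h | h | h)
        · exact hv1 h.symm
        · exact hv'1 h.symm
        · exact hvv1 h.symm
        · exact hcon.1 (Set.mem_singleton_iff.mp h).symm
    omega
  have hhvv : h * (v * v') = (v * v') * h := by
    calc h * (v * v') = (h * v) * v' := by group
      _ = v * (h * v') := by rw [hhv]; group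
      _ = v * v' * h := by rw [hhv']; group
  have hhP : h ∈ P := by
    refine hF.cen y hy hy1 L hL hML hs h hhL hhh fun p hp => ?_
    rcases hPeq p hp with rfl | rfl | rfl | rfl
    · rw [mul_one, one_mul]
    · exact hhv
    · exact hhv'
    · exact hhvv
  rcases hPeq h hhP with h1 | h1 | h1 | h1
  · exfalso
    apply hKK'
    refine eq_of_inv hK hK' hKT.nf hbK ?_ hbb hb1
    have h2 : b = b'⁻¹ := by
      rw [hh] at h1
      exact eq_inv_of_mul_eq_one_left h1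
    rw [h2]
    exact inv_mem hb'K
  · have h2 : b * c₁ = (c₁ * v) * b'⁻¹ := by
      rw [hbc₁, mul_assoc, ← h1, hh, mul_inv_cancel_right]
    rw [h2]
    exact fixes_mul (fixes_self' hK.le) (fixes_inv hfb')
  · exact absurd (h1 ▸ hhK) hv'K
  · exfalso
    apply hv'K
    have h2 : v' = v * h := by rw [h1, ← mul_assoc, hvv, one_mul]
    rw [h2]
    exact mul_mem hvK hhK

/-- `P` normalizes `K` -/
theorem step2 {K : Subgroup G} {c₁ v : G} (hK : IsComp (centralizer ({c₁ * v} : Set G)) K)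
    (hKT : KT K) (hc₁ : c₁ ∈ Y) (hv : v ∈ P)
    (hv1 : v ≠ 1) (hYK : ∀ y ∈ Y, y ∈ normalizer (K : Set G)) {v' : G} (hv' : v' ∈ P) :
    v' ∈ normalizer (K : Set G) := by
  by_contra hv'K
  have cE : c₁ * v ∈ Y ⊔ P := hF.mem_E.mpr ⟨c₁, hc₁, v, hv, rfl⟩
  have hcc := hF.ysq c₁ hc₁
  have hcK : Fixes (c₁ * v) K := fixes_self' hK.le
  have hvK : v ∈ normalizer (K : Set G) := by
    have h1 : v = c₁ * (c₁ * v) := by rw [← mul_assoc, hcc, one_mul]
    rw [h1]
    exact mul_mem (hYK c₁ hc₁) hcK.1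
  obtain ⟨y, hy, hy1, hyc⟩ : ∃ y ∈ Y, y ≠ 1 ∧ (c₁ = 1 ∨ c₁ = y) := by
    by_cases h : c₁ = 1
    · obtain ⟨y, hy, -, -, hy1, -, -⟩ := exists_gens hF.ycard
      exact ⟨y, hy, hy1, Or.inl h⟩
    · exact ⟨c₁, hc₁, h, Or.inr rfl⟩
  obtain ⟨R, hR, hER⟩ := exists_isSyl (E := centralizer ({c₁ * v} : Set G))
    (isPGroup_of_sq fun _ h => hF.E_sq h) (hF.E_le cE)
  have key : ∀ b ∈ R ⊓ K, b * b = 1 → b ≠ 1 → b * y = y * b → Fixes (b * c₁) K :=
    fun b hb hbb hb1 hby =>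
      hF.step2_key hK hKT hc₁ hv hv1 hv' hvK hv'K hy hy1 hyc hR hER hb.1 hb.2 hbb hb1 hby
  obtain ⟨a, ha, b, hb, haa, hbb, ha1, hb1, hab⟩ := hKT.two _ _ hK hR
  -- a central involution
  have hTn : R ⊓ normalizer (K : Set G) ≤ normalizer ((R ⊓ K : Subgroup G) : Set G) := by
    intro t ht
    rw [mem_normalizer_iff]
    intro x
    have h1 := mem_normalizer_iff.mp ht.2 x
    constructor
    · intro hx
      exact ⟨R.mul_mem (R.mul_mem ht.1 hx.1) (R.inv_mem ht.1), h1.mp hx.2⟩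
    · intro hx
      refine ⟨?_, h1.mpr hx.2⟩
      have h2 := R.mul_mem (R.mul_mem (R.inv_mem ht.1) hx.1) ht.1
      have h3 : t⁻¹ * (t * x * t⁻¹) * t = x := by group
      rwa [h3] at h2
  obtain ⟨b₀, hb₀, hb₀2, hb₀c⟩ := exists_central (T := R ⊓ normalizer (K : Set G)) (N := R ⊓ K)
    (hR.two.to_le inf_le_left) (inf_le_inf_left R le_normalizer) hTn (by
      intro h
      rw [h, mem_bot] at ha
      exact ha1 ha)
  have hb₀b₀ := sq_of_order hb₀2
  have hb₀1 := ne_one_of_order hb₀2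
  have hyR : y ∈ R := hER ((le_sup_left : Y ≤ Y ⊔ P) hy)
  have hk₀ := key b₀ hb₀ hb₀b₀ hb₀1 (hb₀c y ⟨hyR, hYK y hy⟩).symm
  have hcy : c₁ = y := by
    rcases hyc with h | h
    · exfalso
      rw [h, mul_one] at hk₀
      exact hKT.nf _ hb₀.2 hb₀b₀ hb₀1 hk₀
    · exact h
  have huniq : ∀ x ∈ R ⊓ K, x * x = 1 → x ≠ 1 → x = b₀ := by
    intro x hx hxx hx1
    have hxb₀ : x * b₀ = b₀ * x := hb₀c x ⟨hx.1, le_normalizer hx.2⟩
    have h1 : ⁅b₀ * c₁, x⁆ = 1 := by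
      refine eq_one_of_syl hR (K := K) ?_ (hk₀.2 x hx.2)
      have h2 : b₀ * c₁ ∈ R := mul_mem hb₀.1 (hcy ▸ hyR)
      rw [commutatorElement_def]
      exact mul_mem (mul_mem (mul_mem h2 hx.1) (inv_mem h2)) (inv_mem hx.1)
    rw [commutatorElement_eq_one_iff_mul_comm, hcy] at h1
    have h2 : x * y = y * x := by
      have h3 : b₀ * (y * x) = b₀ * (x * y) := by
        calc b₀ * (y * x) = b₀ * y * x := by group
          _ = x * (b₀ * y) := h1
          _ = (x * b₀) * y := by group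
          _ = b₀ * (x * y) := by rw [hxb₀]; group
      exact (mul_left_cancel h3).symm
    have h3 := key x hx hxx hx1 h2
    have h4 := fixes_mul h3 (fixes_inv hk₀)
    have h5 : x * c₁ * (b₀ * c₁)⁻¹ = x * b₀ := by
      rw [mul_inv_rev, inv_eq_of_mul_eq_one_left hb₀b₀]
      group
    rw [h5] at h4
    by_contra hne
    refine hKT.nf _ (K.mul_mem hx.2 hb₀.2) ?_ ?_ h4
    · calc x * b₀ * (x * b₀) = x * (b₀ * x) * b₀ := by group
        _ = x * (x * b₀) * b₀ := by rw [hxb₀]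
        _ = (x * x) * (b₀ * b₀) := by group
        _ = 1 := by rw [hxx, hb₀b₀, one_mul]
    · intro h6
      apply hne
      have h7 := eq_inv_of_mul_eq_one_left h6
      rwa [inv_eq_of_mul_eq_one_left hb₀b₀] at h7
  exact hab ((huniq a ha haa ha1).trans (huniq b hb hbb hb1).symm)

/-- **a 2-component of `C(c)` on which a four-group of `E` acts faithfully is normalized by `E`** -/
theorem claim {D K : Subgroup G} {c : G} (B : Bad0 Y P D c K) : Y ⊔ P ≤ normalizer (K : Set G) := by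
  obtain ⟨c₁, hc₁, v, hv, rfl⟩ := hF.mem_E.mp B.cE
  by_cases hv1 : v = 1
  · subst hv1
    rw [mul_one] at B
    obtain ⟨h1, -, h3⟩ := hF.step0 B hc₁
    exact hF.norm0 hc₁ B.comp h1 h3
  · have h1 : ∀ y ∈ Y, y ∈ normalizer (K : Set G) := fun y hy => hF.step1 B hc₁ hv hv1 hy
    exact sup_le h1 fun v' hv' => hF.step2 B.comp B.type hc₁ hv hv1 h1 hv'

/-- **(iii)** -/
theorem norm {t c : G} {K : Subgroup G} (ht : t ∈ P) (ht1 : t ≠ 1) (hc : c ∈ Y)
    (hK : IsComp (centralizer ({c * t} : Set G)) K) (hKT : KT K)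
    (hYK : ∀ y ∈ Y, y ∈ normalizer (K : Set G)) {t' : G} (ht' : t' ∈ P) : t' ∈ normalizer (K : Set G) :=
  hF.step2 hK hKT hc ht ht1 hYK ht'

omit [Finite G] in
/-- the triples belonging to a moved 2-component -/
theorem triple {d c z : G} {K : Subgroup G} (hd : d ∈ Y ⊔ P) (hd1 : d ≠ 1) (hc : c ∈ Y ⊔ P)
    (hc1 : c ≠ 1) (hK : IsComp (centralizer ({c} : Set G)) K)
    (hz : z ∈ core (centralizer ({d} : Set G))) (hzc : z ∈ centralizer ({c} : Set G))
    (hf : ¬ Fixes z K) : IsTriple d c K :=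
  ⟨order_two (hF.E_sq hd) hd1, order_two (hF.E_sq hc) hc1, hF.E_comm hc hd, hK, z, hz, hzc, hf⟩

end Fr

end Cfsg.Agent.UGT.A7.M1
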