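import Cfsg.Agent.UGT.L2Inner.BadEnd
import Cfsg.Agent.UGT.A7.M1.WBGen

/-!
# The bad configuration, generic end

(6), (8) of bb #12930 and Lemma D, for a generic type of `M / O(M)`.

* `OutG Ev M Y t t' K L`: the bad configuration after (1)-(5); `Ev N g`: "`g` is even on `N`".
* `SevenG Ev M Y t t' K`: the statement (7).
* `OutG.rank`: `OutG` and `SevenG` imply sectional 2-rank at most 4.
-/

set_option autoImplicit false
set_option linter.unusedSectionVars false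

open Cfsg Subgroup Equiv Equiv.Perm
open Cfsg.Agent.UAlt
open Cfsg.Agent.SignalizersComponents Cfsg.Agent.Lib
open Cfsg.Agent.SignalizersComponents.IntrinsicBasic
open Cfsg.Agent.SignalizersComponents.PLayerAut
open Cfsg.Agent.Intrinsic.Basic Cfsg.Agent.Intrinsic.Cen Cfsg.Agent.Intrinsic.Diag
open Cfsg.Agent.McLLyComp.Act
open Cfsg.Agent.UGT.Triple Cfsg.Agent.UGT.TriBase
open Cfsg.Agent.UGT.A7 (TwoP EightS P0)
open Cfsg.Agent.UGT.L2Inner (P7 b1 b2 b3 IsV Four jn four_of exists_gens comm_of_sq isPGroup_of_sq SylT Qs two_elt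
  t_mem_V t_mem_V' comm_ta_of_two ta_mul_self sign_ta)
open scoped commutatorElement

namespace Cfsg.Agent.UGT.A7.M1.Bad

variable {G : Type*} [Group G]

/-- labels -/
abbrev Lab (K : Subgroup G) := L2Inner.Lab K

/-- The bad configuration after (1)-(5), generic type. -/
structure OutG (Ev : Subgroup G → G → Prop) (M Y : Subgroup G) (t t' : G) (K : Subgroup G) (L : Lab K) : Prop where
  ysq : ∀ y ∈ Y, y * y = 1
  ycard : Nat.card Y = 4
  ym : ∀ y ∈ Y, ∀ m ∈ M, y * m = m * y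
  comp : ∀ y ∈ Y, y ≠ 1 → ∃ N, IsComp (centralizer ({y} : Set G)) N ∧ M ≤ N ∧ M ⊔ core N = N ∧
    (∀ v ∈ N, v * v = 1 → v ≠ 1 → ¬ Fixes v N) ∧
    ∀ D : Subgroup G, D ≤ normalizer (N : Set G) → ⁅D, D⁆ = D → (∀ d ∈ D, d * t = t * d) → ∀ d ∈ D, Fixes d N
  tM : t ∈ M
  tM' : t' ∈ M
  tt : t * t = 1
  tt' : t' * t' = 1
  t1 : t ≠ 1
  t1' : t' ≠ 1
  ne : t ≠ t'
  cmm : t * t' = t' * t
  cnj : ∃ g, g * t * g⁻¹ = t'
  cnj' : ∃ g, g * t * g⁻¹ = t * t'
  comp7 : IsComp (centralizer ({t} : Set G)) K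
  yK : ∀ y ∈ Y, y ∈ K ∨ y * t ∈ K
  yV : ∀ y ∈ Y, IsV (L.φ y)
  y1 : ∀ y ∈ Y, y ≠ 1 → L.φ y ≠ 1
  ta : L.φ t' = L2Inner.ta
  /-- `m₂(C(⟨t⟩Y) ∩ J_y) = 2` -/
  rk : ∀ y ∈ Y, y ≠ 1 → ∀ N, IsComp (centralizer ({y} : Set G)) N → M ≤ N → ∀ r, r * r = 1 →
    r * t = t * r → (∀ z ∈ Y, r * z = z * r) → Fixes r N → r ∈ Y
  /-- even elements of `C(V)` act on `L_y` as elements of `V` -/
  ev : ∀ y ∈ Y, y ≠ 1 → ∀ N, IsComp (centralizer ({y} : Set G)) N → M ≤ N → M ⊔ core N = N →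
    ∀ g ∈ normalizer (N : Set G), g * t = t * g → g * t' = t' * g → Ev N g →
    ∃ v ∈ jn t' (zpowers t), Fixes (g * v⁻¹) N
  sq : ∀ y ∈ Y, y ≠ 1 → ∀ N, IsComp (centralizer ({y} : Set G)) N → M ≤ N → M ⊔ core N = N →
    ∀ q ∈ normalizer (N : Set G), q * y = y * q → q * t = t * q → q * t' = t' * q →
    q * q ∈ jn t' (zpowers t) → q * q = 1

/-- The statement (7), generic type. -/
def SevenG (Ev : Subgroup G → G → Prop) (M Y : Subgroup G) (t t' : G) (K : Subgroup G) : Prop :=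
  ∀ r : G, r * r = 1 → r * t = t * r → r * t' = t' * r → (∀ z ∈ Y, r * z = z * r) → Fixes r K →
    (∀ y ∈ Y, y ≠ 1 → ∀ N, IsComp (centralizer ({y} : Set G)) N → M ≤ N → M ⊔ core N = N → ¬ Ev N r) → False

theorem OutG.ty {Ev : Subgroup G → G → Prop} {M Y : Subgroup G} {t t' : G} {K : Subgroup G} {L : Lab K} (h : OutG Ev M Y t t' K L)
    {y : G} (hy : y ∈ Y) : y * t = t * y := h.ym y hy t h.tM

variable [Finite G] {Ev : Subgroup G → G → Prop} {M Y : Subgroup G} {t t' : G} {K : Subgroup G} {L : Lab K}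

/-- the property of `L_y` used below -/
def NF (t : G) (N : Subgroup G) : Prop := (∀ v ∈ N, v * v = 1 → v ≠ 1 → ¬ Fixes v N) ∧
    ∀ D : Subgroup G, D ≤ normalizer (N : Set G) → ⁅D, D⁆ = D → (∀ d ∈ D, d * t = t * d) → ∀ d ∈ D, Fixes d N

/-- elements of `C(y) ∩ C(t)` normalize `L_y` -/
theorem OutG.mem_norm (h : OutG Ev M Y t t' K L) {y : G} {N : Subgroup G}
    (hN : IsComp (centralizer ({y} : Set G)) N) (hMN : M ≤ N) (hT : NF t N) {g : G}
    (hgy : g * y = y * g) (hgt : g * t = t * g) : g ∈ normalizer (N : Set G) :=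
  normalizes_of_comm hN hT.1 (hMN h.tM) h.tt h.t1 (mem_c hgy) hgt

/-- a perfect group centralizing `t` and `y` fixes `L_y` -/
theorem OutG.fixes_of_perfect (h : OutG Ev M Y t t' K L) {y : G} {N : Subgroup G}
    (hN : IsComp (centralizer ({y} : Set G)) N) (hMN : M ≤ N) (hT : NF t N) {D : Subgroup G}
    (hD : ⁅D, D⁆ = D) (hDy : ∀ d ∈ D, d * y = y * d) (hDt : ∀ d ∈ D, d * t = t * d) {d : G}
    (hd : d ∈ D) : Fixes d N :=
  hT.2 D (fun d hd => h.mem_norm hN hMN hT (hDy d hd) (hDt d hd)) hD hDt d hd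

/-- **`K` is normal in `C(t)`** -/
theorem OutG.norm (h : OutG Ev M Y t t' K L) : centralizer ({t} : Set G) ≤ normalizer (K : Set G) := by
  intro g hg
  rw [mem_normalizer_iff_cj]
  by_contra hne
  have hK' := isComp_cj_of_mem h.comp7 hg
  have hft : Fixes t (cj g K) := fixes_self' hK'.le
  have hfix : ∀ y ∈ Y, Fixes y (cj g K) := by
    intro y hy
    rcases h.yK y hy with h1 | h1
    · exact hK'.fixes_of_mem h.comp7 hne h1
    · exact (fixes_mul_iff_left hft).mp (hK'.fixes_of_mem h.comp7 hne h1)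
  obtain ⟨y₁, hy₁, y₂, hy₂, hy₁1, hy₂1, hy⟩ := exists_gens h.ycard
  have hY12 : y₁ * y₂ = y₂ * y₁ := L2Inner.comm_of_sq h.ysq hy₁ hy₂
  obtain ⟨hc1, hs1⟩ := isComp_cen hK' (mem_c (h.ty hy₁)) (h.ysq y₁ hy₁) (hfix y₁ hy₁)
  have hf2 : Fixes y₂ (cen (cj g K) y₁) := by
    refine (fixes_iff_of_sup hs1 (mem_normalizer_cen (hfix y₂ hy₂).1 hY12.symm) (hfix y₂ hy₂).1).mpr (hfix y₂ hy₂)
  obtain ⟨hc2, hs2⟩ := isComp_cen hc1 ⟨mem_c (h.ty hy₂), mem_c hY12.symm⟩ (h.ysq y₂ hy₂) hf2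
  obtain ⟨D, hD⟩ : ∃ D, D = cen (cen (cj g K) y₁) y₂ := ⟨_, rfl⟩
  rw [← hD] at hc2 hs2
  have hDt : ∀ d ∈ D, d * t = t * d := fun d hd => comm_c (hc2.le hd).1.1
  have hD1 : ∀ d ∈ D, d * y₁ = y₁ * d := fun d hd => comm_c (hc2.le hd).1.2
  have hD2 : ∀ d ∈ D, d * y₂ = y₂ * d := fun d hd => comm_c (hc2.le hd).2
  have hDY : ∀ d ∈ D, ∀ z ∈ Y, d * z = z * d := by
    intro d hd z hz
    have hF : Four Y := ⟨h.ycard, h.ysq⟩
    rcases hF.mem_cases hy₁ hy₂ hy₁1 hy₂1 hy.symm hz with rfl | rfl | rfl | rfl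
    · rw [mul_one, one_mul]
    · exact hD1 d hd
    · exact hD2 d hd
    · exact Commute.mul_right (hD1 d hd : Commute d y₁) (hD2 d hd : Commute d y₂)
  obtain ⟨N, hN, hMN, -, hT⟩ := h.comp y₁ hy₁ hy₁1
  have hp2 : Fact (Nat.Prime 2) := ⟨Nat.prime_two⟩
  obtain ⟨⟨r, hr⟩, hr2⟩ := exists_prime_orderOf_dvd_card' (G := D) 2 hc2.even
  rw [Subgroup.orderOf_mk] at hr2
  have hrr := sq_of_order hr2
  have hrY := h.rk y₁ hy₁ hy₁1 N hN hMN r hrr (hDt r hr) (hDY r hr)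
    (h.fixes_of_perfect hN hMN hT hc2.perfect hD1 hDt hr)
  have hrK : r ∈ cj g K := by
    have h1 : D ≤ cj g K := by
      rw [hD]
      exact (cen_le _ _).trans (cen_le _ _)
    exact h1 hr
  have h1 : (L.cj g).φ r = 1 := ((L.cj g).fixes_iff (le_normalizer hrK)).mpr (hfix r hrY)
  have h2 := ((L.cj g).core_iff r hrK).mp h1
  exact ne_one_of_order hr2 (eq_one_of_mem_core_sq h2 hrr)

/-! ### the Sylow 2-subgroup `T` of `C(t)` -/

omit [Finite G] in
theorem OutG.four_gp (h : OutG Ev M Y t t' K L) : Four (jn t' (zpowers t)) :=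
  four_of h.tt h.tt' h.cmm h.t1 h.t1' h.ne.symm

theorem OutG.exists_T (h : OutG Ev M Y t t' K L) : ∃ T, SylT Y t t' T := by
  obtain ⟨V, hV⟩ : ∃ V, V = jn t' (zpowers t) := ⟨_, rfl⟩
  have hV4 := hV ▸ h.four_gp
  have htV : t ∈ V := by rw [hV]; exact mem_sup_right (mem_zpowers t)
  have htV' : t' ∈ V := by rw [hV]; exact mem_sup_left (mem_zpowers t')
  have hVt : V ≤ centralizer ({t} : Set G) := by
    rw [hV]
    exact sup_le (zpowers_le.mpr (mem_c h.cmm.symm)) (zpowers_le.mpr (mem_c rfl))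
  have hVM : V ≤ M := by
    rw [hV]
    exact sup_le (zpowers_le.mpr h.tM') (zpowers_le.mpr h.tM)
  have h2 : IsPGroup 2 ↥(Y ⊔ V) := by
    refine (isPGroup_of_sq h.ysq).to_sup_of_normal_left' (isPGroup_of_sq hV4.elem) ?_
    intro v hv
    rw [mem_normalizer_iff_cj]
    exact TMCBase.cj_of_comm fun y hy => mem_c (h.ym y hy v (hVM hv))
  obtain ⟨T, hT, hle⟩ := exists_isSyl h2 (E := centralizer ({t} : Set G))
    (sup_le (fun y hy => mem_c (h.ty hy)) hVt)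
  exact ⟨T, hT, le_sup_left.trans hle, hle (mem_sup_right htV), hle (mem_sup_right htV')⟩

section syl

variable {T : Subgroup G} (h : OutG Ev M Y t t' K L) (S : SylT Y t t' T)

include h S

theorem OutG.T_norm : T ≤ normalizer (K : Set G) := S.syl.le.trans h.norm

/-- the permutation group induced by `T` -/
theorem OutG.comm_ta {s : G} (hs : s ∈ T) : L.φ s * L2Inner.ta =
    L2Inner.ta * L.φ s := by
  have hTn := h.T_norm S
  obtain ⟨W, hW⟩ : ∃ W : Subgroup P7, ∀ σ, σ ∈ W ↔ ∃ s ∈ T, L.φ s = σ := by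
    refine ⟨(T.subgroupOf (normalizer (K : Set G))).map L.hom, fun σ => ?_⟩
    constructor
    · rintro ⟨y, hy, rfl⟩
      exact ⟨y, hy, rfl⟩
    · rintro ⟨s, hs, rfl⟩
      exact ⟨⟨s, hTn hs⟩, hs, rfl⟩
  have hW2 : IsPGroup 2 W := by
    rintro ⟨σ, hσ⟩
    obtain ⟨s, hs, rfl⟩ := (hW σ).mp hσ
    obtain ⟨n, hn⟩ := S.syl.two ⟨s, hs⟩
    refine ⟨n, Subtype.ext ?_⟩
    show L.φ s ^ 2 ^ n = 1
    rw [← L.pow (hTn hs), show s ^ 2 ^ n = 1 from congrArg Subtype.val hn, L.one]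
  have hYsurj : ∀ σ, IsV σ → σ ∈ W := by
    -- `Y → V₄` is bijective
    intro σ hσ
    obtain ⟨a, ha, b, hb, ha1, hb1, hab⟩ := exists_gens h.ycard
    have hne : ∀ u ∈ Y, ∀ v ∈ Y, u ≠ v → L.φ u ≠ L.φ v := by
      intro u hu v hv huv h5
      have h6 := h.y1 (u * v) (mul_mem hu hv) (fun h7 => huv (by
        have h8 : v⁻¹ = v := inv_eq_of_mul_eq_one_left (h.ysq v hv)
        rw [← h8]; exact mul_eq_one_iff_eq_inv.mp h7))
      apply h6
      rw [L.mul _ _ (hTn (S.YT hu)) (hTn (S.YT hv)), h5]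
      exact L.sq (hTn (S.YT hv)) (h.ysq v hv)
    have hab' : a * b ∈ Y := mul_mem ha hb
    have h1 := h.yV a ha
    have h2 := h.yV b hb
    have h3 := h.y1 a ha ha1
    have h4 := h.y1 b hb hb1
    have h5 := hne a ha b hb hab
    have h6 : L.φ (a * b) = L.φ a * L.φ b := L.mul _ _ (hTn (S.YT ha)) (hTn (S.YT hb))
    have hmem : ∀ u ∈ Y, L.φ u ∈ W := fun u hu => (hW _).mpr ⟨u, S.YT hu, rfl⟩
    have m1 := hmem a ha
    have m2 := hmem b hb
    have m3 := hmem _ hab'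
    rw [h6] at m3
    obtain ⟨x, hx⟩ : ∃ x, x = L.φ a := ⟨_, rfl⟩
    obtain ⟨y, hy⟩ : ∃ y, y = L.φ b := ⟨_, rfl⟩
    rw [← hx] at h1 h3 h5 m1 m3
    rw [← hy] at h2 h4 h5 m2 m3
    rcases h1 with rfl | rfl | rfl | rfl
    · exact absurd rfl h3
    all_goals rcases h2 with rfl | rfl | rfl | rfl
    all_goals first | exact absurd rfl h4 | exact absurd rfl h5 | skip
    all_goals rcases hσ with rfl | rfl | rfl | rfl
    all_goals first | exact one_mem _ | assumption | skip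
    · rwa [show b1 * b2 = b3 from by decide] at m3
    · rwa [show b1 * b3 = b2 from by decide] at m3
    · rwa [show b2 * b1 = b3 from by decide] at m3
    · rwa [show b2 * b3 = b1 from by decide] at m3
    · rwa [show b3 * b1 = b2 from by decide] at m3
    · rwa [show b3 * b2 = b1 from by decide] at m3
  exact comm_ta_of_two hW2 (hYsurj _ (Or.inr (Or.inl rfl))) (hYsurj _ (Or.inr (Or.inr (Or.inl rfl))))
    ((hW _).mpr ⟨t', S.tT', h.ta⟩) ((hW _).mpr ⟨s, hs, rfl⟩)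

end syl

section syl

variable {T : Subgroup G} (h : OutG Ev M Y t t' K L) (S : SylT Y t t' T)

include h S

/-- `T ∩ K ∈ Syl₂(K)` -/
theorem OutG.syl_K : IsSyl K (T ⊓ K) := S.syl.inf h.comp7.le h.norm

/-- **`T = (T ∩ K) × Q*`** -/
theorem OutG.twoP : TwoP T (T ⊓ K) (Qs L T (h.T_norm S)) := by
  have hTn := h.T_norm S
  obtain ⟨h8, hev⟩ := A7.Star.exists_even L S.syl.two hTn (h.syl_K S) inf_le_left
  have halt : ∀ p ∈ T ⊓ K, L.φ p ∈ alternatingGroup (Fin 7) := by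
    intro p hp
    have := L.mem_alt p hp.2
    rwa [alt_univ] at this
  refine ⟨inf_le_left, fun e he => he.1, fun s hs => ?_, fun p hp r hr => ?_, fun p hp hpr => ?_⟩
  · have key : ∀ p ∈ T ⊓ K, L.φ (p⁻¹ * s) = 1 ∨ L.φ (p⁻¹ * s) = L2Inner.ta →
        ∃ p ∈ T ⊓ K, ∃ r ∈ Qs L T hTn, s = p * r := fun p hp hr =>
      ⟨p, hp, p⁻¹ * s, ⟨mul_mem (inv_mem hp.1) hs, hr⟩, by rw [mul_inv_cancel_left]⟩
    by_cases hse : sign (L.φ s) = 1
    · obtain ⟨p, hp, hps⟩ := hev s hs (Equiv.Perm.mem_alternatingGroup.mpr hse)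
      refine key p hp (Or.inl ?_)
      rw [L.mul _ _ (inv_mem (hTn hp.1)) (hTn hs), L.inv (hTn hp.1), hps, inv_mul_cancel]
    · have hse' : sign (L.φ s) = -1 := (Int.units_eq_one_or _).resolve_left hse
      have h1 : L.φ (s * t') = L.φ s * L2Inner.ta := by
        rw [L.mul _ _ (hTn hs) (hTn S.tT'), h.ta]
      obtain ⟨p, hp, hps⟩ := hev (s * t') (mul_mem hs S.tT') (Equiv.Perm.mem_alternatingGroup.mpr (by
        rw [h1, Perm.sign_mul, hse', sign_ta]; decide))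
      refine key p hp (Or.inr ?_)
      rw [L.mul _ _ (inv_mem (hTn hp.1)) (hTn hs), L.inv (hTn hp.1), hps, h1, mul_inv_rev,
        inv_mul_cancel_right]
      exact inv_eq_of_mul_eq_one_left ta_mul_self
  · have hc : p * r * p⁻¹ * r⁻¹ = 1 := by
      apply two_elt (K := K) S.syl.two
      · exact mul_mem (mul_mem (mul_mem hp.1 hr.1) (inv_mem hp.1)) (inv_mem hr.1)
      · have hK : p * r * p⁻¹ * r⁻¹ ∈ K := by
          have h1 : p * r * p⁻¹ * r⁻¹ = p * (r * p⁻¹ * r⁻¹) := by group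
          rw [h1]
          exact mul_mem hp.2 (conj_mem (hTn hr.1) (inv_mem hp.2))
        rw [← L.core_iff _ hK, L.mul _ _ (mul_mem (mul_mem (hTn hp.1) (hTn hr.1)) (inv_mem (hTn hp.1)))
          (inv_mem (hTn hr.1)), L.conj (hTn hp.1) (hTn hr.1), L.inv (hTn hr.1)]
        rcases hr.2 with h2 | h2
        · rw [h2, mul_one, mul_inv_cancel, inv_one, one_mul]
        · rw [h2, h.comm_ta S hp.1, mul_inv_cancel_right, mul_inv_cancel]
    have h1 : p * r = (p * r * p⁻¹ * r⁻¹) * (r * p) := by group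
    rw [h1, hc, one_mul]
  · apply two_elt (K := K) S.syl.two hp.1
    rw [← L.core_iff _ hp.2]
    rcases hpr.2 with h2 | h2
    · exact h2
    · exfalso
      have h3 := Equiv.Perm.mem_alternatingGroup.mp (halt p hp)
      rw [h2, sign_ta] at h3
      exact absurd h3 (by decide)

/-- `Q*` centralizes `Y` -/
theorem OutG.qs_comm {q y : G} (hq : q ∈ Qs L T (h.T_norm S)) (hy : y ∈ Y) : q * y = y * q := by
  have hP := h.twoP S
  have hqt := S.comm hq.1
  rcases h.yK y hy with h1 | h1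
  · exact (hP.comm y ⟨S.YT hy, h1⟩ q hq).symm
  · have h2 := (hP.comm (y * t) ⟨mul_mem (S.YT hy) S.tT, h1⟩ q hq).symm
    have h3 : q * y * t = y * q * t := by
      calc q * y * t = q * (y * t) := by group
        _ = y * (t * q) := by rw [h2]; group
        _ = y * q * t := by rw [← hqt]; group
    exact mul_right_cancel h3

/-- `Q*` is faithful on `L_y` -/
theorem OutG.qs_faithful {q y : G} (hq : q ∈ Qs L T (h.T_norm S)) (hy : y ∈ Y) (hy1 : y ≠ 1)
    {N : Subgroup G} (hN : IsComp (centralizer ({y} : Set G)) N) (hMN : M ≤ N) (hf : Fixes q N) :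
    q = 1 := by
  by_contra hq1
  obtain ⟨n, hn⟩ := S.syl.two ⟨q, hq.1⟩
  have hn' : q ^ 2 ^ n = 1 := congrArg Subtype.val hn
  -- an involution of `⟨q⟩`
  obtain ⟨r, hr, hrr, hr1⟩ : ∃ r ∈ zpowers q, r * r = 1 ∧ r ≠ 1 := by
    clear hn
    induction n with
    | zero => exact absurd (by simpa using hn') hq1
    | succ n ih =>
      by_cases h1 : q ^ 2 ^ n = 1
      · exact ih h1
      · exact ⟨q ^ 2 ^ n, npow_mem_zpowers q _, by rw [← pow_add, ← two_mul, ← pow_succ']; exact hn', h1⟩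
  have hrQ : r ∈ Qs L T (h.T_norm S) := (zpowers_le.mpr hq) hr
  have hrf : Fixes r N := by
    obtain ⟨k, rfl⟩ := mem_zpowers_iff.mp hr
    have h1 : k = k := rfl
    have h2 : q ^ k ∈ fix (zpowers q) N := by
      exact (zpowers_le.mpr (show q ∈ fix (zpowers q) N from ⟨mem_zpowers q, hf⟩)) (zpow_mem_zpowers q k)
    exact h2.2
  have hrY := h.rk y hy hy1 N hN hMN r hrr (S.comm hrQ.1) (fun z hz => h.qs_comm S hrQ hz) hrf
  rcases hrQ.2 with h2 | h2
  · exact h.y1 r hrY hr1 h2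
  · exact (h.yV r hrY).ne_ta h2

theorem OutG.t_mem : t ∈ Qs L T (h.T_norm S) :=
  ⟨S.tT, Or.inl ((L.fixes_iff (h.T_norm S S.tT)).mpr (fixes_self' h.comp7.le))⟩

theorem OutG.t_mem' : t' ∈ Qs L T (h.T_norm S) := ⟨S.tT', Or.inr h.ta⟩

omit S in
theorem OutG.V_le : jn t' (zpowers t) ≤ M := sup_le (zpowers_le.mpr h.tM') (zpowers_le.mpr h.tM)

omit S in
theorem OutG.V_cases {v : G} (hv : v ∈ jn t' (zpowers t)) : v = 1 ∨ v = t ∨ v = t' ∨ v = t * t' :=
  h.four_gp.mem_cases t_mem_V t_mem_V' h.t1 h.t1' h.ne.symm hv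

theorem OutG.V_le_Qs : jn t' (zpowers t) ≤ Qs L T (h.T_norm S) :=
  sup_le (zpowers_le.mpr (h.t_mem' S)) (zpowers_le.mpr (h.t_mem S))

omit S in
/-- `V` is faithful on `L_y` -/
theorem OutG.V_faithful {N : Subgroup G} (hMN : M ≤ N) (hT : NF t N) {v : G}
    (hv : v ∈ jn t' (zpowers t)) (hf : Fixes v N) : v = 1 := by
  by_contra hv1
  exact hT.1 v (hMN (h.V_le hv)) (h.four_gp.elem v hv) hv1 hf

/-- elements of `C_{Q*}(V) ∖ V` are not even on `L_y` -/
theorem OutG.not_ev {q y : G} (hq : q ∈ Qs L T (h.T_norm S)) (hqt : q * t' = t' * q)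
    (hqV : q ∉ jn t' (zpowers t)) (hy : y ∈ Y) (hy1 : y ≠ 1)
    {N : Subgroup G} (hN : IsComp (centralizer ({y} : Set G)) N) (hMN : M ≤ N) (hs : M ⊔ core N = N)
    (hqN : q ∈ normalizer (N : Set G)) : ¬ Ev N q := by
  intro hP
  obtain ⟨v, hv, hf⟩ := h.ev y hy hy1 N hN hMN hs q hqN (S.comm hq.1) hqt hP
  have h1 := h.qs_faithful S (mul_mem hq (inv_mem (h.V_le_Qs S hv))) hy hy1 hN hMN hf
  rw [mul_inv_eq_one.mp h1] at hqV
  exact hqV hv

/-- an element of `C_{Q*}(V)` with square in `V` is an involution -/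
theorem OutG.sq_one {q : G} (hq : q ∈ Qs L T (h.T_norm S)) (hqt : q * t' = t' * q)
    (hqq : q * q ∈ jn t' (zpowers t)) : q * q = 1 := by
  obtain ⟨y, hy, -, -, hy1, -, -⟩ := exists_gens h.ycard
  obtain ⟨N, hN, hMN, hs, hT⟩ := h.comp y hy hy1
  have hqy := h.qs_comm S hq hy
  exact h.sq y hy hy1 N hN hMN hs q (h.mem_norm hN hMN hT hqy (S.comm hq.1)) hqy (S.comm hq.1) hqt hqq

/-- **`C_{Q*}(V) = V`** -/
theorem OutG.cent_V (h7 : SevenG Ev M Y t t' K) {q : G} (hq : q ∈ Qs L T (h.T_norm S))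
    (hqt : q * t' = t' * q) : q ∈ jn t' (zpowers t) := by
  by_contra hqV
  -- an element with square in `V`
  obtain ⟨r, hr, hrV, hrr⟩ : ∃ r ∈ zpowers q, r ∉ jn t' (zpowers t) ∧ r * r ∈ jn t' (zpowers t) := by
    obtain ⟨n, hn⟩ := S.syl.two ⟨q, hq.1⟩
    have hn' : q ^ 2 ^ n ∈ jn t' (zpowers t) := by
      rw [show q ^ 2 ^ n = 1 from congrArg Subtype.val hn]
      exact one_mem _
    clear hn
    induction n with
    | zero => exact absurd (by simpa using hn') hqV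
    | succ n ih =>
      by_cases h1 : q ^ 2 ^ n ∈ jn t' (zpowers t)
      · exact ih h1
      · exact ⟨q ^ 2 ^ n, npow_mem_zpowers q _, h1, by rw [← pow_add, ← two_mul, ← pow_succ']; exact hn'⟩
  have hrQ : r ∈ Qs L T (h.T_norm S) := (zpowers_le.mpr hq) hr
  have hrt : r * t' = t' * r := by
    have h1 : zpowers q ≤ centralizer ({t'} : Set G) := zpowers_le.mpr (mem_c hqt)
    exact comm_c (h1 hr)
  have hrr1 := h.sq_one S hrQ hrt hrr
  -- the kill
  have kill : ∀ r ∈ Qs L T (h.T_norm S), r * r = 1 → r * t' = t' * r → r ∉ jn t' (zpowers t) →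
      L.φ r = 1 → False := by
    intro r hr hrr hrt hrV hφ
    refine h7 r hrr (S.comm hr.1) hrt (fun z hz => h.qs_comm S hr hz)
      ((L.fixes_iff (h.T_norm S hr.1)).mp hφ) ?_
    intro y hy hy1 N hN hMN hs
    obtain ⟨N', hN', hMN', -, hT⟩ := h.comp y hy hy1
    obtain rfl : N' = N := eq_of_inv hN' hN hT.1 (hMN' h.tM) (hMN h.tM) h.tt h.t1
    exact h.not_ev S hr hrt hrV hy hy1 hN hMN hs
      (h.mem_norm hN hMN hT (h.qs_comm S hr hy) (S.comm hr.1))
  rcases hrQ.2 with h1 | h1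
  · exact kill r hrQ hrr1 hrt hrV h1
  · refine kill (r * t') (mul_mem hrQ (h.t_mem' S)) ?_ ?_ ?_ ?_
    · calc r * t' * (r * t') = r * (t' * r) * t' := by group
        _ = (r * r) * (t' * t') := by rw [← hrt]; group
        _ = 1 := by rw [hrr1, h.tt', one_mul]
    · rw [hrt, mul_assoc, hrt]
    · intro h2
      apply hrV
      have h3 := mul_mem h2 (inv_mem (t_mem_V' (t := t) (t' := t')))
      rwa [mul_inv_cancel_right] at h3
    · rw [L.mul _ _ (h.T_norm S hrQ.1) (h.T_norm S S.tT'), h1, h.ta]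
      exact ta_mul_self

/-- `T ∩ K` is dihedral of order 8 -/
theorem OutG.dih : Nonempty (↥(T ⊓ K) ≃* DihedralGroup 4) := by
  have hTn := h.T_norm S
  obtain ⟨h8, -⟩ := A7.Star.exists_even L S.syl.two hTn (h.syl_K S) inf_le_left
  have hKn : T ⊓ K ≤ normalizer (K : Set G) := inf_le_left.trans hTn
  obtain ⟨W, hW⟩ : ∃ W : Subgroup P7, ∀ σ, σ ∈ W ↔ ∃ s ∈ T ⊓ K, L.φ s = σ := by
    refine ⟨((T ⊓ K).subgroupOf (normalizer (K : Set G))).map L.hom, fun σ => ?_⟩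
    constructor
    · rintro ⟨y, hy, rfl⟩
      exact ⟨y, hy, rfl⟩
    · rintro ⟨s, hs, rfl⟩
      exact ⟨⟨s, hKn hs⟩, hs, rfl⟩
  have hW2 : IsPGroup 2 W := by
    rintro ⟨σ, hσ⟩
    obtain ⟨s, hs, rfl⟩ := (hW σ).mp hσ
    obtain ⟨n, hn⟩ := S.syl.two ⟨s, hs.1⟩
    refine ⟨n, Subtype.ext ?_⟩
    show L.φ s ^ 2 ^ n = 1
    rw [← L.pow (hKn hs), show s ^ 2 ^ n = 1 from congrArg Subtype.val hn, L.one]
  obtain ⟨g, hg⟩ := A7.exists_conj_W0 W hW2
  have hmem : ∀ p ∈ T ⊓ K, g * L.φ p * g⁻¹ ∈ P0 := by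
    intro p hp
    refine A7.mem_P0.mpr ⟨hg _ ((hW _).mpr ⟨p, hp, rfl⟩), ?_⟩
    have h1 := L.mem_alt p hp.2
    rw [alt_univ, Equiv.Perm.mem_alternatingGroup] at h1
    rw [Perm.sign_mul, Perm.sign_mul, sign_inv, h1, mul_one, Int.units_mul_self]
  let f : ↥(T ⊓ K) →* ↥P0 :=
    { toFun := fun p => ⟨g * L.φ p * g⁻¹, hmem p p.2⟩
      map_one' := Subtype.ext (by
        show g * L.φ (1 : G) * g⁻¹ = 1
        rw [L.one, mul_one, mul_inv_cancel])
      map_mul' := fun p q => Subtype.ext (by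
        show g * L.φ ((p : G) * q) * g⁻¹ = (g * L.φ p * g⁻¹) * (g * L.φ q * g⁻¹)
        rw [L.mul _ _ (hKn p.2) (hKn q.2)]
        group) }
  have hinj : Function.Injective f := by
    rw [injective_iff_map_eq_one]
    intro p hp
    have h1 : g * L.φ p * g⁻¹ = 1 := congrArg Subtype.val hp
    have h2 : L.φ p = 1 := conj_eq_one_iff.mp h1
    exact Subtype.ext (two_elt (K := K) S.syl.two p.2.1 ((L.core_iff p p.2.2).mp h2))
  have hbij : Function.Bijective f := by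
    rw [Nat.bijective_iff_injective_and_card]
    exact ⟨hinj, by rw [A7.card_P0]; exact h8⟩
  exact ⟨(MulEquiv.ofBijective f hbij).trans (MulEquiv.ofBijective A7.g0hom A7.g0hom_bij).symm⟩

end syl

/-- **(6), (8) and Lemma D** -/
theorem OutG.rank (h : OutG Ev M Y t t' K L) (h7 : SevenG Ev M Y t t' K) : SectionalPRankLE 2 4 G := by
  obtain ⟨T, S⟩ := h.exists_T
  have hP := h.twoP S
  obtain ⟨e⟩ := h.dih S
  have h8 : Nat.card ↥(T ⊓ K) = 8 :=
    (A7.Star.exists_even L S.syl.two (h.T_norm S) (h.syl_K S) inf_le_left).1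
  obtain ⟨z, hz⟩ : ∃ z, EightS (T ⊓ K) z := by
    refine A7.exists_eightS h8 ⟨e.symm (.r 1), (e.symm (.r 1)).2, e.symm (.sr 0), (e.symm (.sr 0)).2, ?_⟩
    intro h1
    have h2 : e.symm (.r 1) * e.symm (.sr 0) = e.symm (.sr 0) * e.symm (.r 1) := Subtype.ext h1
    rw [← map_mul, ← map_mul] at h2
    exact absurd (e.symm.injective h2) (by decide)
  by_cases hna : ∃ r ∈ Qs L T (h.T_norm S), r * t' ≠ t' * r
  · refine A7.rank_of_D3 S.syl hz hP (h.t_mem' S) h.tt' h.t1' (h.t_mem S) h.tt h.t1 h.ne ?_ hna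
    intro r hr hrt
    rcases h.V_cases (h.cent_V S h7 hr hrt) with h1 | h1 | h1 | h1
    · exact Or.inl h1
    · exact Or.inr (Or.inr (Or.inl h1))
    · exact Or.inr (Or.inl h1)
    · exact Or.inr (Or.inr (Or.inr (h1.trans h.cmm)))
  · push Not at hna
    have hQV : Qs L T (h.T_norm S) = jn t' (zpowers t) :=
      le_antisymm (fun r hr => h.cent_V S h7 hr (hna r hr)) (h.V_le_Qs S)
    have hTc : T ≤ centralizer ({t'} : Set G) := by
      intro s hs
      obtain ⟨p, hp, r, hr, rfl⟩ := hP.sup s hs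
      exact mul_mem (mem_c (hP.comm p hp t' (h.t_mem' S))) (mem_c (hna r hr))
    have hTc2 : T ≤ centralizer ({t * t'} : Set G) := fun s hs =>
      mem_c (Commute.mul_right (S.comm hs : Commute s t) (comm_c (hTc hs) : Commute s t'))
    obtain ⟨d, hdt⟩ := h.cnj
    obtain ⟨d', hdt'⟩ := h.cnj'
    -- `T` is a Sylow 2-subgroup of `C(b)`
    have key : ∀ (g b : G), g * t * g⁻¹ = b → T ≤ centralizer ({b} : Set G) →
        IsSyl (centralizer ({b} : Set G)) T := by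
      intro g b hgb hTb
      refine ⟨S.syl.two, hTb, fun R h1 h2 h3 => ?_⟩
      have h4 : cj g⁻¹ R ≤ centralizer ({t} : Set G) := by
        intro x hx
        rw [mem_cj, inv_inv] at hx
        have h5 := comm_c (h2 hx)
        apply mem_c
        rw [← hgb] at h5
        have h6 : g⁻¹ * (g * x * g⁻¹ * (g * t * g⁻¹)) * g = x * t := by group
        rw [← h6, h5]
        group
      obtain ⟨k, -, h5⟩ := S.syl.conj (isPGroup_cj (g := g⁻¹) h1) h4
      have h6 : Nat.card ↥R ≤ Nat.card ↥T := by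
        rw [← card_cj g⁻¹ R, ← card_cj k T]
        exact Nat.le_of_dvd Nat.card_pos (card_dvd_of_le h5)
      exact (Subgroup.eq_of_le_of_card_ge h3 h6).symm
    refine A7.rank_of_klein hP ⟨e⟩ (by rw [hQV]; exact h.four_gp.card) ?_ ?_
    · intro b hb
      rw [hQV] at hb
      exact h.four_gp.elem b hb
    · intro b hb hb1
      rw [hQV] at hb
      rcases h.V_cases hb with rfl | rfl | rfl | rfl
      · exact absurd rfl hb1
      · exact S.syl
      · exact key d _ hdt hTc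
      · exact key d' _ hdt' hTc2

end Cfsg.Agent.UGT.A7.M1.Bad
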