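import Cfsg.Agent.UGT.L2i.Canon

/-!
# Generating four-groups

`Gd M V`: `V ≤ M` is a four-group with `M = ⟨C_M(v) : v ∈ V#⟩`. For `M / O(M) ≅ PSL₂(q)`, `q ≥ 11`, all four-groups,
for `M / O(M) ≅ A₇` the conjugates of `⟨(12)(34), (12)(56)⟩`.

* `Gd.cj`, `Gd.sup`, `Gd.of_sup`: invariance under conjugation and under `M ↦ L`, `M O(L) = L`.
* `QF`: the facts on `M / O(M)`; `Pkg`, `Cls0`: the versions of `L2i.Pkg`, `L2i.Cls` for `Gd`.
-/

set_option autoImplicit false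
set_option linter.unusedSectionVars false
set_option linter.unusedVariables false

open Cfsg Subgroup
open Cfsg.Agent.SignalizersComponents Cfsg.Agent.Lib
open Cfsg.Agent.SignalizersComponents.IntrinsicBasic
open Cfsg.Agent.SignalizersComponents.IntrinsicIntr
open Cfsg.Agent.Intrinsic.Basic Cfsg.Agent.Intrinsic.Cen
open Cfsg.Agent.McLLyComp.Act
open Cfsg.Agent.UGT.Triple Cfsg.Agent.UGT.TMCSyl
open Cfsg.Agent.UGT.TriBase (IsSyl exists_isSyl card_cj fixes_self' exists_central isPGroup_cj)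
open Cfsg.Agent.UGT.L2Inner
open Cfsg.Agent.UGT.L2i (At)
open scoped commutatorElement

universe u

namespace Cfsg.Agent.UGT.A7.M1

/-- Facts on `X = M / O(M)`. -/
structure QF (X : Type u) [Group X] : Prop where
  simple : IsSimpleGroup X
  nab : ¬ ∀ x y : X, x * y = y * x
  even : 2 ∣ Nat.card X
  /-- one class of involutions -/
  conj : ∀ s t : X, s * s = 1 → s ≠ 1 → t * t = 1 → t ≠ 1 → ∃ g, g * s * g⁻¹ = t

theorem QF.of {X : Type u} [Group X] (h : L2i.QFacts X) : QF X := ⟨h.simple, h.nab, h.even, h.conj⟩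

theorem QF.congr {X Y : Type u} [Group X] [Group Y] (h : QF X) (e : X ≃* Y) : QF Y := by
  have hX := h.simple
  refine ⟨e.symm.isSimpleGroup, fun hc => h.nab fun x y => ?_, ?_, fun s t h1 h2 h3 h4 => ?_⟩
  · apply e.injective
    rw [map_mul, map_mul]
    exact hc _ _
  · rw [← Nat.card_congr e.toEquiv]; exact h.even
  · obtain ⟨g, hg⟩ := h.conj (e.symm s) (e.symm t) (by rw [← map_mul, h1, map_one])
      (fun h => h2 (by simpa using congrArg e h)) (by rw [← map_mul, h3, map_one])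
      (fun h => h4 (by simpa using congrArg e h))
    refine ⟨e g, ?_⟩
    have := congrArg e hg
    simpa using this

variable {G : Type u} [Group G]

/-- `V` is a four-group of `M` and `M` is generated by the centralizers `C_M(v)`, `v ∈ V#`. -/
structure Gd (M V : Subgroup G) : Prop where
  four : Four V
  le : V ≤ M
  gen : ∀ H : Subgroup G, (∀ v ∈ V, v ≠ 1 → M ⊓ centralizer ({v} : Set G) ≤ H) → M ≤ H

/-- The output of SETUP. -/
structure Pkg (M Q : Subgroup G) : Prop where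
  self : IsComp M M
  facts : QF (↥M ⧸ oddCore ↥M)
  gd : ∃ V : Subgroup G, Gd M V
  comm : ∀ q ∈ Q, ∀ m ∈ M, q * m = m * q
  two : IsPGroup 2 Q
  rank : ∃ a ∈ Q, ∃ b ∈ Q, orderOf a = 2 ∧ orderOf b = 2 ∧ a * b = b * a ∧ a ≠ b
  good : ∀ y ∈ Q, orderOf y = 2 → ∃ L, IsComp (centralizer ({y} : Set G)) L ∧ M ≤ L ∧ M ⊔ core L = L
  max : ∀ y ∈ Q, orderOf y = 2 → ∀ L, IsComp (centralizer ({y} : Set G)) L → M ≤ L → M ⊔ core L = L →
    ∀ R : Subgroup G, IsPGroup 2 R → Q ≤ R → (∀ r ∈ R, r * y = y * r ∧ Fixes r L) → R = Q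

/-- The output of CANON. -/
structure Cls0 (N : Subgroup G) : Prop where
  self : IsComp N N
  simple : IsSimpleGroup (↥N ⧸ oddCore ↥N)
  nab : ¬ ∀ x y : ↥N ⧸ oddCore ↥N, x * y = y * x
  four : ∃ a b : G, Fixes a N ∧ Fixes b N ∧ a * a = 1 ∧ b * b = 1 ∧ a * b = b * a ∧ a ≠ 1 ∧ b ≠ 1 ∧ a ≠ b
  ex : ∀ y : G, Fixes y N → orderOf y = 2 → ∃ L, At y L N
  nrm : ∀ (y : G) (L : Subgroup G), Fixes y N → orderOf y = 2 → At y L N →
    ∀ g : G, g * y = y * g → g ∈ normalizer (L : Set G) → g ∈ normalizer (N : Set G)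
  uniq : ∀ (y g : G) (L : Subgroup G), orderOf y = 2 → Fixes y N → Fixes y (cj g N) →
    At y L N → At y L (cj g N) → cj g N = N

theorem Cls0.of {N : Subgroup G} (C : L2i.Cls N) : Cls0 N := ⟨C.self, C.simple, C.nab, C.four, C.ex, C.nrm, C.uniq⟩

theorem Gd.cj {M V : Subgroup G} (h : Gd M V) (g : G) : Gd (cj g M) (cj g V) := by
  refine ⟨h.four.cj g, cj_mono h.le, fun H hH => ?_⟩
  have h1 : M ≤ IntrinsicBasic.cj g⁻¹ H := by
    refine h.gen _ fun v hv hv1 => ?_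
    have h2 := hH (g * v * g⁻¹) (conj_mem_cj hv) (conj_ne_one' hv1)
    rw [← cj_centralizer, ← cj_inf] at h2
    have h3 := cj_mono (g := g⁻¹) h2
    rwa [cj_inv_cj] at h3
  have h2 := cj_mono (g := g) h1
  rwa [cj_cj_inv] at h2

theorem Gd.cj_of {M V : Subgroup G} (h : Gd M V) {g : G} (hg : g ∈ normalizer (M : Set G)) :
    Gd M (IntrinsicBasic.cj g V) := by
  have h1 := h.cj g
  rwa [mem_normalizer_iff_cj.mp hg] at h1

section finite

variable [Finite G]

/-- the core is generated by the centralizers of `v ∈ V#` -/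
theorem core_le_of_four {M V H : Subgroup G} (hV : Four V) (hVM : V ≤ M)
    (hH : ∀ v ∈ V, v ≠ 1 → M ⊓ centralizer ({v} : Set G) ≤ H) : core M ≤ H := by
  obtain ⟨a, haP, ha1, -⟩ := hV.exists_ne 1
  obtain ⟨b, hbP, hb1, hba⟩ := hV.exists_ne a
  have haa := hV.elem a haP
  have hbb := hV.elem b hbP
  have hab := hV.elem.comm haP hbP
  have habP := mul_mem haP hbP
  have hab1 : a * b ≠ 1 := by
    intro h
    apply hba
    have h2 : b = a⁻¹ := (inv_eq_of_mul_eq_one_right h).symm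
    rw [h2]
    exact inv_eq_of_mul_eq_one_left haa
  refine KleinGen.le_of_klein _ _ (odd_card_core _) a b haa hbb hab ?_ ?_ ?_ ?_ ?_
  · exact fun h hh => conj_mem_core (le_normalizer (hVM haP)) hh
  · exact fun h hh => conj_mem_core (le_normalizer (hVM hbP)) hh
  · exact fun x hx => hH a haP ha1 ⟨core_le _ hx.1, hx.2⟩
  · exact fun x hx => hH b hbP hb1 ⟨core_le _ hx.1, hx.2⟩
  · exact fun x hx => hH _ habP hab1 ⟨core_le _ hx.1, hx.2⟩

/-- from `M` to `L = M O(L)` -/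
theorem Gd.sup {M L V : Subgroup G} (h : Gd M V) (hML : M ≤ L) (hsup : M ⊔ core L = L) : Gd L V := by
  refine ⟨h.four, h.le.trans hML, fun H hH => ?_⟩
  have h1 : M ≤ H := h.gen H fun v hv hv1 => (inf_le_inf_right _ hML).trans (hH v hv hv1)
  have h2 : core L ≤ H := core_le_of_four h.four (h.le.trans hML) hH
  have h3 : M ⊔ core L ≤ H := sup_le h1 h2
  rwa [hsup] at h3

theorem inf_core_le {M L : Subgroup G} (hML : M ≤ L) : M ⊓ core L ≤ core M := by
  refine le_core inf_le_left ?_ (Odd.of_dvd_nat (odd_card_core L) (card_dvd_of_le inf_le_right))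
  intro m hm
  rw [mem_normalizer_iff_cj, cj_inf, cj_eq_self_of_mem hm,
    mem_normalizer_iff_cj.mp (le_normalizer_core _ (hML hm))]

/-- from `L = M O(L)` to `M` -/
theorem Gd.of_sup {M L V : Subgroup G} (h : Gd L V) (hVM : V ≤ M) (hML : M ≤ L) (hsup : M ⊔ core L = L) :
    Gd M V := by
  refine ⟨h.four, hVM, fun H hH => ?_⟩
  obtain ⟨K, hK⟩ : ∃ K, K = H ⊓ M := ⟨_, rfl⟩
  have hKM : K ≤ M := hK ▸ inf_le_right
  have hHK : ∀ v ∈ V, v ≠ 1 → M ⊓ centralizer ({v} : Set G) ≤ K := fun v hv hv1 =>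
    hK ▸ le_inf (hH v hv hv1) inf_le_left
  have hcM : core M ≤ K := core_le_of_four h.four hVM hHK
  have hn : M ≤ normalizer (core L : Set G) := hML.trans (le_normalizer_core L)
  have h1 : L ≤ K ⊔ core L := by
    refine h.gen _ fun v hv hv1 x hx => ?_
    have hvM := hVM hv
    have hvv := h.four.elem v hv
    have hxv := comm_c hx.2
    have hxL : x ∈ M ⊔ core L := by rw [hsup]; exact hx.1
    have hx' : x ∈ ((M ⊔ core L : Subgroup G) : Set G) := hxL
    rw [Subgroup.coe_mul_of_left_le_normalizer_right M (core L) hn] at hx'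
    obtain ⟨m, hm, c, hc, hmc⟩ := hx'
    have hmc : m * c = x := hmc
    have hc : c ∈ core L := hc
    have hm : m ∈ M := hm
    -- `m v m⁻¹ ∈ v O(M)`
    have hsq : (m * v * m⁻¹) * (m * v * m⁻¹) = 1 := conj_sq' hvv
    have hmv : (m * v * m⁻¹) * v ∈ core M := by
      apply inf_core_le hML
      refine ⟨M.mul_mem (M.mul_mem (M.mul_mem hm hvM) (M.inv_mem hm)) hvM, ?_⟩
      have e1 : m = x * c⁻¹ := by rw [← hmc]; group
      have e2 : (m * v * m⁻¹) * v = x * (c⁻¹ * (v * c * v⁻¹)) * x⁻¹ := by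
        have e3 : v⁻¹ = v := inv_eq_of_mul_eq_one_left hvv
        have e4 : v * x⁻¹ = x⁻¹ * v := by
          have : x⁻¹ * (x * v) * x⁻¹ = x⁻¹ * (v * x) * x⁻¹ := by rw [hxv]
          calc v * x⁻¹ = x⁻¹ * (x * v) * x⁻¹ := by group
            _ = x⁻¹ * (v * x) * x⁻¹ := this
            _ = x⁻¹ * v := by group
        rw [e1]
        calc x * c⁻¹ * v * (x * c⁻¹)⁻¹ * v = x * c⁻¹ * v * c * (x⁻¹ * v) := by group
          _ = x * c⁻¹ * v * c * (v * x⁻¹) := by rw [e4]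
          _ = x * (c⁻¹ * (v * c * v)) * x⁻¹ := by group
          _ = x * (c⁻¹ * (v * c * v⁻¹)) * x⁻¹ := by rw [e3]
      rw [e2]
      have hvc : v * c * v⁻¹ ∈ core L := conj_mem_core (le_normalizer (hML hvM)) hc
      exact conj_mem_core (le_normalizer hx.1) (mul_mem (inv_mem hc) hvc)
    obtain ⟨k, hk, hkc⟩ := SL.conj_of_coset (odd_card_core M) hsq hvv hmv
    have hkm : k * m ∈ K := by
      refine hHK v hv hv1 ⟨mul_mem (core_le M hk) hm, mem_c ?_⟩
      calc k * m * v = (k * (m * v * m⁻¹) * k⁻¹) * (k * m) := by group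
        _ = v * (k * m) := by rw [hkc]
    have hmK : m ∈ K := by
      have : m = k⁻¹ * (k * m) := by group
      rw [this]
      exact mul_mem (inv_mem (hcM hk)) hkm
    rw [← hmc]
    exact mul_mem (mem_sup_left hmK) (mem_sup_right hc)
  intro m hm
  have hm' : m ∈ ((K ⊔ core L : Subgroup G) : Set G) := h1 (hML hm)
  rw [Subgroup.coe_mul_of_left_le_normalizer_right K (core L) (hKM.trans hn)] at hm'
  obtain ⟨k, hk, c, hc, hkc⟩ := hm'
  have hkc : k * c = m := hkc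
  have hk : k ∈ K := hk
  have hc : c ∈ core L := hc
  have hcM' : c ∈ core M := by
    apply inf_core_le hML
    refine ⟨?_, hc⟩
    have : c = k⁻¹ * m := by rw [← hkc]; group
    rw [this]
    exact M.mul_mem (M.inv_mem (hKM hk)) hm
  have h2 : m ∈ K := by rw [← hkc]; exact mul_mem hk (hcM hcM')
  rw [hK] at h2
  exact h2.1

/-- In `PSL₂(q)`, `q ≥ 11`, all four-groups generate. -/
theorem Gd.of_gam {M V : Subgroup G} (hf : L2i.QFacts (↥M ⧸ oddCore ↥M)) (hV : Four V) (hVM : V ≤ M) :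
    Gd M V := by
  refine ⟨hV, hVM, fun H hH => ?_⟩
  have hcore : core M ≤ H := core_le_of_four hV hVM hH
  obtain ⟨a, haP, ha1, -⟩ := hV.exists_ne 1
  obtain ⟨b, hbP, hb1, hba⟩ := hV.exists_ne a
  have haa := hV.elem a haP
  have hbb := hV.elem b hbP
  have hab := hV.elem.comm haP hbP
  have habP := mul_mem haP hbP
  have hab1 : a * b ≠ 1 := by
    intro h
    apply hba
    have h2 : b = a⁻¹ := (inv_eq_of_mul_eq_one_right h).symm
    rw [h2]
    exact inv_eq_of_mul_eq_one_left haa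
  have hnf : ∀ v ∈ V, v ≠ 1 → ∃ x ∈ M, x⁻¹ * (v * x * v⁻¹) ∉ core M := by
    intro v hv hv1
    by_contra hno
    push Not at hno
    exact hv1 (L2i.eq_one_of_fixes hf.simple hf.nab (hVM hv)
      (fixes_iff_conj.mpr ⟨le_normalizer (hVM hv), hno⟩) (hV.elem v hv))
  have hgam : SL.GamAut (↥M ⧸ (core M).subgroupOf M) := by
    have h1 : (core M).subgroupOf M = oddCore ↥M := by
      ext x
      rw [mem_subgroupOf]
      exact mem_core_iff x.2
    exact hf.gam.congr (QuotientGroup.quotientMulEquivOfEq h1).symm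
  exact SL.gam_mod' (L2Inner.normal_core _) (core_le _)
    (odd_card_core _) hgam haa hbb hab (le_normalizer (hVM haP)) (le_normalizer_core _ (hVM haP))
    (le_normalizer (hVM hbP)) (le_normalizer_core _ (hVM hbP)) (hnf a haP ha1) (hnf b hbP hb1)
    (hnf _ habP hab1) _ hcore (fun x hx hxv => hH a haP ha1 ⟨hx, mem_c hxv⟩)
    (fun x hx hxv => hH b hbP hb1 ⟨hx, mem_c hxv⟩) (fun x hx hxv => hH _ habP hab1 ⟨hx, mem_c hxv⟩)

/-- all involutions of `M` are conjugate -/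
theorem exists_conj {M : Subgroup G} (h : QF (↥M ⧸ oddCore ↥M)) {v w : G} (hv : v ∈ M) (hw : w ∈ M)
    (hvv : v * v = 1) (hv1 : v ≠ 1) (hww : w * w = 1) (hw1 : w ≠ 1) : ∃ m ∈ M, m * v * m⁻¹ = w := by
  obtain ⟨c, hc⟩ := h.conj (QuotientGroup.mk ⟨v, hv⟩) (QuotientGroup.mk ⟨w, hw⟩)
    ((mk_eq_one_iff (M.mul_mem hv hv)).mpr (by rw [hvv]; exact one_mem _))
    (fun h1 => hv1 (eq_one_of_mem_core_sq ((mk_eq_one_iff hv).mp h1) hvv))
    ((mk_eq_one_iff (M.mul_mem hw hw)).mpr (by rw [hww]; exact one_mem _))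
    (fun h1 => hw1 (eq_one_of_mem_core_sq ((mk_eq_one_iff hw).mp h1) hww))
  obtain ⟨⟨c, hcM⟩, rfl⟩ := QuotientGroup.mk_surjective c
  have h1 : c * v * c⁻¹ ∈ M := M.mul_mem (M.mul_mem hcM hv) (M.inv_mem hcM)
  have h2 : (c * v * c⁻¹)⁻¹ * w ∈ core M := (mk_eq_iff h1 hw).mp hc
  have h3 := conj_sq' (g := c) hvv
  have h4 : (c * v * c⁻¹)⁻¹ = c * v * c⁻¹ := inv_eq_of_mul_eq_one_left h3
  rw [h4] at h2
  obtain ⟨k, hk, hkc⟩ := SL.conj_of_coset (odd_card_core M) h3 hww h2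
  refine ⟨k * c, M.mul_mem (core_le M hk) hcM, ?_⟩
  rw [← hkc]
  group

/-- every involution of `M` lies in a good four-group -/
theorem exists_gd_of {M : Subgroup G} (hf : QF (↥M ⧸ oddCore ↥M)) (hg : ∃ V, Gd M V) {v : G} (hv : v ∈ M)
    (hvv : v * v = 1) (hv1 : v ≠ 1) : ∃ V, Gd M V ∧ v ∈ V := by
  obtain ⟨V, hV⟩ := hg
  obtain ⟨w, hw, hw1, -⟩ := hV.four.exists_ne 1
  obtain ⟨m, hm, hmv⟩ := exists_conj hf (hV.le hw) hv (hV.four.elem w hw) hw1 hvv hv1
  refine ⟨_, hV.cj_of (le_normalizer hm), ?_⟩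
  rw [← hmv]
  exact conj_mem_cj hw

end finite

end Cfsg.Agent.UGT.A7.M1
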