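import Cfsg.Agent.UGT.A7.M1.Pre7
import Cfsg.Agent.UGT.A7.M1.Gd
import Cfsg.Agent.UAlt.Ident
import Cfsg.Agent.UAlt.Glue

/-!
# The package of a terminal triple of type `A₇` (bb #14042)

* `exists_gd` : `L / O(L) ≅ A₇` has generating four-groups (conjugates of `⟨(01)(23), (01)(45)⟩`);
* `exists_tor` : the torus element `(4 5 6)` over `t = (01)(23)`;
* `qf_of_lab` : the facts on `A₇`;
* `Pre7.pkg`.
-/

set_option autoImplicit false

open Cfsg Subgroup Equiv
open Cfsg.Agent.SignalizersComponents Cfsg.Agent.Lib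
open Cfsg.Agent.SignalizersComponents.IntrinsicBasic
open Cfsg.Agent.SignalizersComponents.IntrinsicIntr
open Cfsg.Agent.SignalizersComponents.PLayerAut
open Cfsg.Agent.Intrinsic.Basic Cfsg.Agent.Intrinsic.Cen Cfsg.Agent.Intrinsic.Diag
open Cfsg.Agent.McLLyComp.Act
open Cfsg.Agent.UGT.TMCBase Cfsg.Agent.UGT.TMCSyl Cfsg.Agent.UGT.TMCMax Cfsg.Agent.UGT.TMCBad
open Cfsg.Agent.UGT.Triple (IsTriple)
open Cfsg.Agent.UGT.Iface (Bar IsInner)
open Cfsg.Agent.UGT.A7.Mu (T7 M7 IsA7)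
open Cfsg.Agent.UAlt
open Cfsg.Agent.UGT.L2Inner (Four four_of jn)
open Cfsg.Agent.StdAlt.PermTypes (cyc)
open scoped commutatorElement

universe u

namespace Cfsg.Agent.UGT.A7.M1

/-! ### permutations -/

def u1 : Perm (Fin 7) := swap 0 1 * swap 2 3
def u2 : Perm (Fin 7) := swap 0 1 * swap 4 5

/-- `A₇` is generated by the centralizers of the involutions of `⟨(01)(23), (01)(45)⟩` -/
theorem alt_le_of_V {H : Subgroup (Perm (Fin 7))}
    (h1 : ∀ σ ∈ alternatingGroup (Fin 7), σ * u1 = u1 * σ → σ ∈ H)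
    (h2 : ∀ σ ∈ alternatingGroup (Fin 7), σ * u2 = u2 * σ → σ ∈ H)
    (h3 : ∀ σ ∈ alternatingGroup (Fin 7), σ * (u1 * u2) = (u1 * u2) * σ → σ ∈ H) :
    alternatingGroup (Fin 7) ≤ H := by
  have e1 : cyc (6 : Fin 7) 4 5 ∈ H := by
    refine h1 _ ?_ ?_
    · rw [Equiv.Perm.mem_alternatingGroup]; decide
    · decide
  have e2 : cyc (2 : Fin 7) 3 6 ∈ H := by
    refine h2 _ ?_ ?_
    · rw [Equiv.Perm.mem_alternatingGroup]; decide
    · decide
  have e3 : cyc (0 : Fin 7) 1 6 ∈ H := by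
    refine h3 _ ?_ ?_
    · rw [Equiv.Perm.mem_alternatingGroup]; decide
    · decide
  rw [← alt_univ]
  refine Ident.alt_le_of_cyc_two (c := 4) (d := 5) (Finset.mem_univ _) (Finset.mem_univ _) (by decide)
    (by decide) fun i _ hi4 hi5 => ?_
  have key : ∀ g ∈ H, g 6 = i → g 4 = 4 → g 5 = 5 → cyc i 4 5 ∈ H := by
    intro g hg h6 h4 h5
    have h7 : cyc i 4 5 = g * cyc 6 4 5 * g⁻¹ := by
      unfold Cfsg.Agent.StdAlt.PermTypes.cyc
      have a1 := swap_apply_apply g 6 4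
      have a2 := swap_apply_apply g 4 5
      rw [h6, h4] at a1
      rw [h4, h5] at a2
      calc swap i 4 * swap 4 5 = (g * swap 6 4 * g⁻¹) * (g * swap 4 5 * g⁻¹) := congrArg₂ (· * ·) a1 a2
        _ = g * (swap 6 4 * swap 4 5) * g⁻¹ := by group
    rw [h7]
    exact mul_mem (mul_mem hg e1) (inv_mem hg)
  fin_cases i
  · exact key _ e3 (by decide) (by decide) (by decide)
  · exact key _ (inv_mem e3) (by decide) (by decide) (by decide)
  · exact key _ e2 (by decide) (by decide) (by decide)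
  · exact key _ (inv_mem e2) (by decide) (by decide) (by decide)
  · exact absurd rfl hi4
  · exact absurd rfl hi5
  · exact e1

/-! ### facts on `L / O(L) ≅ A₇` -/

variable {G : Type u} [Group G] [Finite G] {L : Subgroup G}

omit [Finite G] in
theorem qf_of_lab (M : M7 L) : QF (Bar L) := by
  obtain ⟨f, hf⟩ : ∃ f : ↥L →* ↥(alternatingGroup (Fin 7)), Function.Surjective f ∧ f.ker = oddCore ↥L := by
    refine ⟨(MulEquiv.subgroupCongr (alt_univ)).toMonoidHom.comp M.homK, ?_, ?_⟩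
    · exact (MulEquiv.subgroupCongr alt_univ).surjective.comp M.homK_surjective
    · rw [← M.ker_homK]
      ext y
      rw [MonoidHom.mem_ker, MonoidHom.mem_ker, MonoidHom.comp_apply]
      exact (MulEquiv.subgroupCongr (alt_univ (α := Fin 7))).map_eq_one_iff
  have e := (QuotientGroup.quotientMulEquivOfEq hf.2.symm).trans
    (QuotientGroup.quotientKerEquivOfSurjective _ hf.1)
  have hsim : IsSimpleGroup (alternatingGroup (Fin 7)) :=
    alternatingGroup.isSimpleGroup (by rw [Nat.card_fin]; norm_num)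
  refine ⟨e.isSimpleGroup, ?_, ?_, ?_⟩
  · intro h
    have h1 : center (Bar L) = ⊤ := by
      rw [eq_top_iff]
      intro z _
      exact mem_center_iff.mpr fun g => h g z
    rw [ctr_of_lab M] at h1
    have h2 := card_of_lab M
    rw [← Subgroup.card_top (G := Bar L), ← h1, Subgroup.card_bot] at h2
    omega
  · rw [card_of_lab M]; norm_num
  · -- one class of involutions
    have key : ∀ (s : G) (hs : s ∈ L), (QuotientGroup.mk' (oddCore ↥L)) ⟨s, hs⟩ = 1 ↔ M.φ s = 1 := by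
      intro s hs
      rw [M.core_iff s hs, mem_core_iff hs]
      exact QuotientGroup.eq_one_iff _
    have hroot : ∀ e : Bar L, e * e = 1 → e ≠ 1 → ∃ (r : G) (hr : r ∈ L),
        (QuotientGroup.mk' (oddCore ↥L)) ⟨r, hr⟩ = e ∧ Cfsg.Agent.StdAlt.Roots.IsRoot (M.φ r) := by
      intro e he he1
      obtain ⟨⟨r, hr⟩, rfl⟩ := QuotientGroup.mk'_surjective (oddCore ↥L) e
      refine ⟨r, hr, rfl, Star.isRoot_of_even ?_ (fun h => he1 ((key r hr).mpr h)) ?_⟩
      · rw [← map_mul] at he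
        rw [← M.mul _ _ (le_normalizer hr) (le_normalizer hr)]
        exact (key _ (L.mul_mem hr hr)).mp he
      · have := M.mem_alt r hr
        rwa [alt_univ] at this
    intro s t hs hs1 ht ht1
    obtain ⟨r, hr, rfl, hrr⟩ := hroot s hs hs1
    obtain ⟨r', hr', rfl, hrr'⟩ := hroot t ht ht1
    obtain ⟨τ, hτ, hτe⟩ := Glue.exists_alt_conj (A := Finset.univ) hrr hrr'
      (fun x hx => absurd (Finset.mem_univ x) hx) (fun x hx => absurd (Finset.mem_univ x) hx)
    obtain ⟨k, hk, rfl⟩ := M.lift τ hτ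
    refine ⟨(QuotientGroup.mk' (oddCore ↥L)) ⟨k, hk⟩, ?_⟩
    rw [← map_inv, ← map_mul, ← map_mul]
    have hc : k * r * k⁻¹ ∈ L := mul_mem (mul_mem hk hr) (inv_mem hk)
    refine (mk_eq_iff hc hr').mpr ?_
    rw [← M.eq_iff hc hr', M.conj (le_normalizer hk) (le_normalizer hr)]
    exact hτe

/-- **generating four-groups of `A₇`** -/
theorem gd_of_lab (M : M7 L) {u v : G} (hu : u ∈ L) (hv : v ∈ L) (hφu : M.φ u = u1) (hφv : M.φ v = u2)
    (huu : u * u = 1) (hvv : v * v = 1) (huv : u * v = v * u) : Gd L (jn v (zpowers u)) := by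
  have huN := le_normalizer (H := L) hu
  have hvN := le_normalizer (H := L) hv
  have hu1 : u ≠ 1 := by
    rintro rfl
    rw [M.one] at hφu
    exact absurd hφu (by decide)
  have hv1 : v ≠ 1 := by
    rintro rfl
    rw [M.one] at hφv
    exact absurd hφv (by decide)
  have hvu : v ≠ u := by
    rintro rfl
    rw [hφu] at hφv
    exact absurd hφv (by decide)
  have huv1 : u * v ≠ 1 := by
    intro h
    have h1 : M.φ (u * v) = 1 := by rw [h, M.one]
    rw [M.mul _ _ huN hvN, hφu, hφv] at h1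
    exact absurd h1 (by decide)
  have huv2 : (u * v) * (u * v) = 1 := by
    calc (u * v) * (u * v) = u * (v * u) * v := by group
      _ = (u * u) * (v * v) := by rw [← huv]; group
      _ = 1 := by rw [huu, hvv, one_mul]
  have huV : u ∈ jn v (zpowers u) := Cfsg.Agent.UGT.L2Inner.le_jn _ _ (mem_zpowers u)
  have hvV : v ∈ jn v (zpowers u) := Cfsg.Agent.UGT.L2Inner.self_mem_jn _ _
  have hVL : jn v (zpowers u) ≤ L := Cfsg.Agent.UGT.L2Inner.jn_le hv (zpowers_le.mpr hu)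
  have hfour := four_of huu hvv huv hu1 hv1 hvu
  refine ⟨hfour, hVL, fun H hH => ?_⟩
  have hcore := core_le_of_four hfour hVL hH
  have key : ∀ {w : G}, w ∈ jn v (zpowers u) → w ≠ 1 → w * w = 1 → ∀ σ ∈ alternatingGroup (Fin 7),
      σ * M.φ w = M.φ w * σ → σ ∈ ((H ⊓ L).subgroupOf (normalizer (L : Set G))).map M.hom := by
    intro w hw hw1 hww σ hσ hc
    have hwL := hVL hw
    obtain ⟨m, hm, hwm, hφm⟩ := M.exists_comm_lift (t := w) (le_normalizer hwL) (n := 1)
      (by rw [pow_one, pow_two, hww]) (σ := σ) (by rw [alt_univ]; exact hσ) hc.symm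
    refine ⟨⟨m, le_normalizer hm⟩, ⟨hH w hw hw1 ⟨hm, mem_centralizer_singleton_iff.mpr hwm.symm⟩, hm⟩, ?_⟩
    exact hφm
  have hall : alternatingGroup (Fin 7) ≤ ((H ⊓ L).subgroupOf (normalizer (L : Set G))).map M.hom := by
    refine alt_le_of_V (fun σ hσ hc => key huV hu1 huu σ hσ (by rw [hφu]; exact hc))
      (fun σ hσ hc => key hvV hv1 hvv σ hσ (by rw [hφv]; exact hc))
      (fun σ hσ hc => key (mul_mem huV hvV) huv1 huv2 σ hσ ?_)
    rw [M.mul _ _ huN hvN, hφu, hφv]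
    exact hc
  intro x hx
  obtain ⟨⟨h, hhN⟩, hhH, hhx⟩ := hall (by
    have := M.mem_alt x hx
    rwa [alt_univ] at this)
  have hhH' : h ∈ H := (mem_inf.mp hhH).1
  have hhL : h ∈ L := (mem_inf.mp hhH).2
  have h1 : h⁻¹ * x ∈ core L := (M.eq_iff hhL hx).mp hhx
  have h2 := mul_mem hhH' (hcore h1)
  rwa [mul_inv_cancel_left] at h2

theorem exists_gd (M : M7 L) : ∃ u ∈ L, ∃ v ∈ L, M.φ u = u1 ∧ M.φ v = u2 ∧ u * u = 1 ∧
    v * v = 1 ∧ u * v = v * u ∧ Gd L (jn v (zpowers u)) := by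
  obtain ⟨u, hu, huu, -, hφu⟩ := M.exists_inv_lift (t := 1) (one_mem _) (n := 0) (one_pow _) (σ := u1)
    (by rw [alt_univ, Equiv.Perm.mem_alternatingGroup]; decide)
    (by decide) (by rw [M.one, one_mul, mul_one])
  obtain ⟨v, hv, hvv, huv, hφv⟩ := M.exists_inv_lift (t := u) (le_normalizer hu) (n := 1)
    (by rw [pow_one, pow_two, huu]) (σ := u2) (by rw [alt_univ, Equiv.Perm.mem_alternatingGroup]; decide)
    (by decide) (by rw [hφu]; decide)
  exact ⟨u, hu, v, hv, hφu, hφv, huu, hvv, huv, gd_of_lab M hu hv hφu hφv huu hvv huv⟩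

/-- **the package of a terminal triple of type `A₇`** -/
theorem Pre7.pkg {l : G} {K Q : Subgroup G} (h : Pre7 l 1 K Q)
    (hr : ∃ a ∈ Q, ∃ b ∈ Q, orderOf a = 2 ∧ orderOf b = 2 ∧ a * b = b * a ∧ a ≠ b) : Pkg K Q := by
  obtain ⟨M⟩ := h.a7
  obtain ⟨u, -, v, -, -, -, -, -, -, hgd⟩ := exists_gd M
  refine ⟨h.self, qf_of_lab M, ⟨_, hgd⟩, h.comm, h.two, hr, fun y hy hyy => ?_,
    fun y hy hyy N hN hKN _ R hR hQR hRN => h.max_of_one hy hyy hN hKN hR hQR hRN⟩
  obtain ⟨N, hN, h1, h2⟩ := h.good y hy hyy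
  exact ⟨N, hN.tri.comp, h1, h2⟩

end Cfsg.Agent.UGT.A7.M1
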