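import Cfsg.Agent.UGT.A7.M1.BadEnd
import Cfsg.Agent.UGT.A7.M1.PkgOf
import Cfsg.Agent.UGT.L2Inner.BadSeven
import Cfsg.Agent.UAlt.NineA
import Cfsg.Agent.UAlt.ModFive

/-!
# The bad configuration for `M / O(M) ≅ A₇`

* `Out7 M Y t t' K L`: the bad configuration after (1)-(5) for `M / O(M) ≅ A₇`, `V = ⟨t, t'⟩` with labels
  `⟨(01)(23), (01)(45)⟩`.
* `Out7.seven`: (7') of bb #14042.
* `Out7.rank_of`: sectional 2-rank at most 4.
-/

set_option autoImplicit false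
set_option linter.unusedSectionVars false

open Cfsg Subgroup Equiv Equiv.Perm
open Cfsg.Agent.UAlt
open Cfsg.Agent.SignalizersComponents Cfsg.Agent.Lib
open Cfsg.Agent.SignalizersComponents.IntrinsicBasic
open Cfsg.Agent.SignalizersComponents.PLayerAut
open Cfsg.Agent.Intrinsic.Basic Cfsg.Agent.Intrinsic.Cen Cfsg.Agent.Intrinsic.Diag
open Cfsg.Agent.McLLyComp.Act
open Cfsg.Agent.UGT.Triple Cfsg.Agent.UGT.TriBase
open Cfsg.Agent.UGT.TMCSyl (el Elem le_el)
open Cfsg.Agent.UGT.TMCMax (FX)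
open Cfsg.Agent.UGT.L2Inner (P7 b1 b2 b3 IsV Four jn four_of exists_gens isPGroup_of_sq t_mem_V t_mem_V' false_of_pump)
open scoped commutatorElement

namespace Cfsg.Agent.UGT.A7.M1.Bad

/-! ### permutations -/

theorem ext7 {σ ρ : P7} (h0 : σ 0 = ρ 0) (h1 : σ 1 = ρ 1) (h2 : σ 2 = ρ 2) (h3 : σ 3 = ρ 3)
    (h4 : σ 4 = ρ 4) (h5 : σ 5 = ρ 5) (h6 : σ 6 = ρ 6) : σ = ρ := by
  apply Equiv.ext
  intro i
  fin_cases i
  · exact h0
  · exact h1
  · exact h2
  · exact h3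
  · exact h4
  · exact h5
  · exact h6

theorem app_comm {σ ρ : P7} (h : σ * ρ = ρ * σ) (i : Fin 7) : σ (ρ i) = ρ (σ i) :=
  congrArg (fun f : P7 => f i) h

/-- `(01)^a (23)^b (45)^c` -/
def w3 (a b c : Bool) : P7 := (if a then swap 0 1 else 1) * (if b then swap 2 3 else 1) * (if c then swap 4 5 else 1)

/-- the centralizer of `⟨(01)(23), (01)(45)⟩` -/
theorem cent_u {σ : P7} (h1 : σ * u1 = u1 * σ) (h2 : σ * u2 = u2 * σ) : ∃ a b c, σ = w3 a b c := by
  have e1 := app_comm h1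
  have e2 := app_comm h2
  have h6 : σ 6 = 6 := by
    have k1 : u1 (σ 6) = σ 6 := by rw [← e1]; rfl
    have k2 : u2 (σ 6) = σ 6 := by rw [← e2]; rfl
    have : ∀ i : Fin 7, u1 i = i → u2 i = i → i = 6 := by decide
    exact this _ k1 k2
  have h4 : σ 4 = 4 ∨ σ 4 = 5 := by
    have k1 : u1 (σ 4) = σ 4 := by rw [← e1]; rfl
    have k2 : σ 4 ≠ 6 := fun h => absurd (σ.injective (h.trans h6.symm)) (by decide)
    have : ∀ i : Fin 7, u1 i = i → i ≠ 6 → i = 4 ∨ i = 5 := by decide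
    exact this _ k1 k2
  have h2' : σ 2 = 2 ∨ σ 2 = 3 := by
    have k1 : u2 (σ 2) = σ 2 := by rw [← e2]; rfl
    have k2 : σ 2 ≠ 6 := fun h => absurd (σ.injective (h.trans h6.symm)) (by decide)
    have : ∀ i : Fin 7, u2 i = i → i ≠ 6 → i = 2 ∨ i = 3 := by decide
    exact this _ k1 k2
  have h0 : σ 0 = 0 ∨ σ 0 = 1 := by
    have k1 : u1 (σ 0) ≠ σ 0 := by
      rw [← e1]; exact fun h => absurd (σ.injective h) (by decide)
    have k2 : u2 (σ 0) ≠ σ 0 := by
      rw [← e2]; exact fun h => absurd (σ.injective h) (by decide)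
    have : ∀ i : Fin 7, u1 i ≠ i → u2 i ≠ i → i = 0 ∨ i = 1 := by decide
    exact this _ k1 k2
  have k1 : σ 1 = u1 (σ 0) := e1 0
  have k3 : σ 3 = u1 (σ 2) := e1 2
  have k5 : σ 5 = u2 (σ 4) := e2 4
  rcases h0 with h0 | h0 <;> rcases h2' with h2' | h2' <;> rcases h4 with h4 | h4 <;>
    rw [h0] at k1 <;> rw [h2'] at k3 <;> rw [h4] at k5
  · exact ⟨false, false, false, ext7 h0 k1 h2' k3 h4 k5 h6⟩
  · exact ⟨false, false, true, ext7 h0 k1 h2' k3 h4 k5 h6⟩
  · exact ⟨false, true, false, ext7 h0 k1 h2' k3 h4 k5 h6⟩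
  · exact ⟨false, true, true, ext7 h0 k1 h2' k3 h4 k5 h6⟩
  · exact ⟨true, false, false, ext7 h0 k1 h2' k3 h4 k5 h6⟩
  · exact ⟨true, false, true, ext7 h0 k1 h2' k3 h4 k5 h6⟩
  · exact ⟨true, true, false, ext7 h0 k1 h2' k3 h4 k5 h6⟩
  · exact ⟨true, true, true, ext7 h0 k1 h2' k3 h4 k5 h6⟩

theorem mem_alt_iff {S : Finset (Fin 7)} {σ : P7} : σ ∈ alt S ↔ sign σ = 1 ∧ ∀ i, i ∉ S → σ i = i :=
  Iff.rfl

/-! ### elementary abelian subgroups of `S₇` -/

/-- an elementary abelian 2-subgroup of `S₇` has order at most 8 -/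
theorem card_elem_le {U : Subgroup P7} (hU : ∀ u ∈ U, u * u = 1) : Nat.card U ≤ 8 := by
  have hp2 : Fact (Nat.Prime 2) := ⟨Nat.prime_two⟩
  have hU2 : IsPGroup 2 U := isPGroup_of_sq hU
  obtain ⟨n, hn⟩ := hU2.exists_card_eq
  by_contra hcon
  push Not at hcon
  have h4 : 4 ≤ n := by
    by_contra h
    have h3 : n ≤ 3 := by omega
    have := Nat.pow_le_pow_right (n := 2) (by norm_num) h3
    omega
  have hcard : Nat.card P7 = 5040 := by
    rw [Nat.card_eq_fintype_card, Fintype.card_perm, Fintype.card_fin]; rfl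
  obtain ⟨P, hP⟩ := hU2.exists_le_sylow
  have hP16 : Nat.card P = 16 := by
    have h1 : Nat.card P = 2 ^ (Nat.factorization 5040 2) := by
      rw [Sylow.card_eq_multiplicity, hcard]
    have h2 : Nat.factorization 5040 2 = 4 := by
      rw [show 5040 = 2 ^ 4 * 315 from by norm_num, Nat.factorization_mul (by norm_num) (by norm_num),
        Nat.Prime.factorization_pow Nat.prime_two]
      have : Nat.factorization 315 2 = 0 := Nat.factorization_eq_zero_of_not_dvd (by norm_num)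
      simp [this]
    rw [h1, h2]; norm_num
  have hUP : U = P := by
    apply Subgroup.eq_of_le_of_card_ge hP
    have h1 := Nat.pow_le_pow_right (n := 2) (by norm_num) h4
    change Nat.card P ≤ Nat.card U
    rw [hP16, hn]
    exact h1
  -- an element of order 4
  obtain ⟨c, hc⟩ : ∃ c : P7, c = swap 0 1 * swap 1 2 * swap 2 3 := ⟨_, rfl⟩
  have hc4 : c ^ 4 = 1 := by rw [hc]; decide
  have hcc : c * c ≠ 1 := by rw [hc]; decide
  have hcP : IsPGroup 2 (zpowers c) := by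
    rintro ⟨x, hx⟩
    refine ⟨2, Subtype.ext ?_⟩
    obtain ⟨k, rfl⟩ := mem_zpowers_iff.mp hx
    change (c ^ k) ^ (2 ^ 2) = 1
    have h1 : (c ^ k) ^ (2 ^ 2) = (c ^ (2 ^ 2)) ^ k := by
      rw [← zpow_natCast, ← zpow_natCast, ← zpow_mul, ← zpow_mul, mul_comm]
    rw [h1, show c ^ 2 ^ 2 = 1 from hc4, one_zpow]
  obtain ⟨P', hP'⟩ := hcP.exists_le_sylow
  obtain ⟨g, hg⟩ := MulAction.exists_smul_eq P7 P' P
  have h1 : g * c * g⁻¹ ∈ P := by
    rw [← hg]
    exact ⟨c, hP' (mem_zpowers c), rfl⟩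
  have h2 := hU _ (hUP ▸ h1 : g * c * g⁻¹ ∈ U)
  apply hcc
  have h3 : g * (c * c) * g⁻¹ = 1 := by rw [← h2]; group
  rwa [mul_inv_eq_one, mul_eq_left] at h3

/-- an elementary abelian 2-subgroup of order > 4 commuting with `ta` contains it -/
theorem ta_mem {U : Subgroup P7} (hU : ∀ u ∈ U, u * u = 1) (h4 : 4 < Nat.card U)
    (hc : ∀ u ∈ U, u * L2Inner.ta = L2Inner.ta * u) : L2Inner.ta ∈ U := by
  by_contra hta
  have hp2 : Fact (Nat.Prime 2) := ⟨Nat.prime_two⟩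
  obtain ⟨n, hn⟩ := (isPGroup_of_sq hU).exists_card_eq
  have h3 : 3 ≤ n := by
    by_contra h
    have h3 : n ≤ 2 := by omega
    have := Nat.pow_le_pow_right (n := 2) (by norm_num) h3
    omega
  have h5 := Nat.pow_le_pow_right (n := 2) (by norm_num) h3
  have h6 := L2Inner.card_jn hU L2Inner.ta_mul_self hc hta
  have h7 := card_elem_le (L2Inner.elem_jn hU L2Inner.ta_mul_self hc)
  omega

/-! ### (7') -/

universe u

variable {G : Type u} [Group G]

/-- The bad configuration after (1)-(5), `M / O(M) ≅ A₇`. -/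
structure Out7 (M Y : Subgroup G) (t t' : G) (K : Subgroup G) (L : Lab K) : Prop where
  ysq : ∀ y ∈ Y, y * y = 1
  ycard : Nat.card Y = 4
  ym : ∀ y ∈ Y, ∀ m ∈ M, y * m = m * y
  comp : ∀ y ∈ Y, y ≠ 1 → ∃ N, IsComp (centralizer ({y} : Set G)) N ∧ M ≤ N ∧ M ⊔ core N = N
  tM : t ∈ M
  tM' : t' ∈ M
  v2 : ∃ ℓ : Lab M, ℓ.φ t = u1 ∧ ℓ.φ t' = u2
  tt : t * t = 1
  tt' : t' * t' = 1
  cmm : t * t' = t' * t
  comp7 : IsComp (centralizer ({t} : Set G)) K
  yK : ∀ y ∈ Y, y ∈ K ∨ y * t ∈ K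
  yV : ∀ y ∈ Y, IsV (L.φ y)
  y1 : ∀ y ∈ Y, y ≠ 1 → L.φ y ≠ 1
  ta : L.φ t' = L2Inner.ta
  /-- `m₂(C(⟨t⟩Y) ∩ J_y) = 2` -/
  rk : ∀ y ∈ Y, y ≠ 1 → ∀ N, IsComp (centralizer ({y} : Set G)) N → M ≤ N → ∀ r, r * r = 1 →
    r * t = t * r → (∀ z ∈ Y, r * z = z * r) → Fixes r N → r ∈ Y

/-- even elements -/
def Ev7 (t t' : G) (N : Subgroup G) (g : G) : Prop :=
  ∃ ℓ : Lab N, ℓ.φ t = u1 ∧ ℓ.φ t' = u2 ∧ sign (ℓ.φ g) = 1

variable [Finite G]

/-- the labels of a perfect group commuting with a root are trivial -/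
theorem label_of_perfect {N : Subgroup G} (ℓ : Lab N) {D : Subgroup G} (hDN : D ≤ normalizer (N : Set G))
    (hD : ⁅D, D⁆ = D) {σ : P7} (hσ : σ * σ = 1) (h3 : (fixIn (Finset.univ : Finset (Fin 7)) σ).card = 3)
    (hc : ∀ d ∈ D, ℓ.φ d * σ = σ * ℓ.φ d) : ∀ d ∈ D, ℓ.φ d = 1 := by
  have hsol : Group.IsSolvable ↥(sym (Finset.univ : Finset (Fin 7)) ⊓ centralizer ({σ} : Set P7)) :=
    HeKill.isSolvable_cent (fun i hi => absurd (Finset.mem_univ i) hi) hσ (by omega)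
      (by rw [h3, Finset.card_univ, Fintype.card_fin]; omega)
  obtain ⟨E, hE⟩ : ∃ E : Subgroup P7, E = (ℓ.hom.comp (inclusion hDN)).range := ⟨_, rfl⟩
  have hEm : ∀ i (_ : i ∈ D), ℓ.φ i ∈ E := fun i hi => hE ▸ ⟨⟨i, hi⟩, rfl⟩
  have hEle : E ≤ sym (Finset.univ : Finset (Fin 7)) ⊓ centralizer ({σ} : Set P7) := by
    rw [hE]
    rintro _ ⟨⟨i, hi⟩, rfl⟩
    exact ⟨fun j hj => absurd (Finset.mem_univ j) hj, mem_c (hc i hi)⟩
  have hEp : ⁅E, E⁆ = E := by
    have h5 : Group.IsPerfect ↥D := by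
      rw [isPerfect_iff]
      exact hD
    have h6 : ⁅(⊤ : Subgroup ↥D), ⊤⁆ = ⊤ := h5.commutator_eq_top
    rw [hE, MonoidHom.range_eq_map, ← map_commutator, h6]
  have hEb : E = ⊥ := by
    by_contra hne
    refine not_solvable_of_perfect hEp hne ?_
    exact Group.isSolvable_of_isSolvable_injective (f := Subgroup.inclusion hEle)
      (Subgroup.inclusion_injective hEle)
  intro d hd
  have := hEm d hd
  rwa [hEb, mem_bot] at this

/-- a group of type `A₇` satisfies `NF` for a root -/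
theorem nf_of_lab {N : Subgroup G} {t : G} (ℓ : Lab N) (htN : t ∈ N) (ht : ℓ.φ t = u1) : NF t N := by
  refine ⟨fun v hv hvv hv1 hf => hv1 ?_, fun D hDN hD hDt d hd => ?_⟩
  · have h1 : ℓ.φ v = 1 := (ℓ.fixes_iff (le_normalizer hv)).mpr hf
    exact eq_one_of_mem_core_sq ((ℓ.core_iff v hv).mp h1) hvv
  · rw [← ℓ.fixes_iff (hDN hd)]
    refine label_of_perfect ℓ hDN hD (σ := u1) (by decide) (by decide) (fun d hd => ?_) d hd
    rw [← ht]
    exact ℓ.comm (hDN hd) (le_normalizer htN) (hDt d hd)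

variable {M Y : Subgroup G} {t t' : G} {K : Subgroup G} {L : Lab K}

theorem Out7.exists_lab (h : Out7 M Y t t' K L) {N : Subgroup G} (hs : M ⊔ core N = N) :
    ∃ ℓ : Lab N, ℓ.φ t = u1 ∧ ℓ.φ t' = u2 := by
  obtain ⟨ℓ, h1, h2⟩ := h.v2
  obtain ⟨ℓ', hℓ⟩ := exists_up ℓ hs
  exact ⟨ℓ', by rw [hℓ t h.tM, h1], by rw [hℓ t' h.tM', h2]⟩

/-- elements commuting with `t`, `t'`: labels on `N` -/
theorem Out7.exists_w3 (h : Out7 M Y t t' K L) {N : Subgroup G} (hMN : M ≤ N) (ℓ : Lab N)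
    (h1 : ℓ.φ t = u1) (h2 : ℓ.φ t' = u2) {g : G} (hg : g ∈ normalizer (N : Set G)) (hgt : g * t = t * g)
    (hgt' : g * t' = t' * g) : ∃ a b c, ℓ.φ g = w3 a b c := by
  apply cent_u
  · rw [← h1]; exact ℓ.comm hg (le_normalizer (hMN h.tM)) hgt
  · rw [← h2]; exact ℓ.comm hg (le_normalizer (hMN h.tM')) hgt'

theorem Out7.toG (h : Out7 M Y t t' K L) : OutG (Ev7 t t') M Y t t' K L := by
  obtain ⟨ℓ₀, hl1, hl2⟩ := h.v2
  have ht1 : t ≠ 1 := by
    rintro rfl
    rw [ℓ₀.one] at hl1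
    exact absurd hl1 (by decide)
  have ht1' : t' ≠ 1 := by
    rintro rfl
    rw [ℓ₀.one] at hl2
    exact absurd hl2 (by decide)
  have hne : t ≠ t' := by
    rintro rfl
    rw [hl1] at hl2
    exact absurd hl2 (by decide)
  have htt1 : t * t' ≠ 1 := fun h1 =>
    hne (by rw [eq_inv_of_mul_eq_one_left h1, inv_eq_of_mul_eq_one_left h.tt'])
  have htt2 : (t * t') * (t * t') = 1 := by
    calc (t * t') * (t * t') = t * (t' * t) * t' := by group
      _ = (t * t) * (t' * t') := by rw [← h.cmm]; group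
      _ = 1 := by rw [h.tt, h.tt', one_mul]
  exact
    { ysq := h.ysq
      ycard := h.ycard
      ym := h.ym
      comp := fun y hy hy1 => by
        obtain ⟨N, hN, hMN, hs⟩ := h.comp y hy hy1
        obtain ⟨ℓ, h1, -⟩ := h.exists_lab hs
        exact ⟨N, hN, hMN, hs, nf_of_lab ℓ (hMN h.tM) h1⟩
      tM := h.tM
      tM' := h.tM'
      tt := h.tt
      tt' := h.tt'
      t1 := ht1
      t1' := ht1'
      ne := hne
      cmm := h.cmm
      cnj := by
        obtain ⟨k, -, hk⟩ := A7.Star.exists_conj_inv ℓ₀ h.tM h.tM' h.tt h.tt' ht1 ht1'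
        exact ⟨k, hk⟩
      cnj' := by
        obtain ⟨k, -, hk⟩ := A7.Star.exists_conj_inv ℓ₀ h.tM (mul_mem h.tM h.tM') h.tt htt2 ht1 htt1
        exact ⟨k, hk⟩
      comp7 := h.comp7
      yK := h.yK
      yV := h.yV
      y1 := h.y1
      ta := h.ta
      rk := h.rk
      ev := by
        rintro y - - N - hMN - g hg hgt hgt' ⟨ℓ, h1, h2, hs⟩
        obtain ⟨a, b, c, habc⟩ := h.exists_w3 hMN ℓ h1 h2 hg hgt hgt'
        have htN := le_normalizer (hMN h.tM)
        have htN' := le_normalizer (hMN h.tM')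
        rw [habc] at hs
        have key : ∀ v ∈ jn t' (zpowers t), v ∈ normalizer (N : Set G) → ℓ.φ v = w3 a b c →
            ∃ v ∈ jn t' (zpowers t), Fixes (g * v⁻¹) N := by
          intro v hv hvN hvl
          refine ⟨v, hv, ?_⟩
          rw [← ℓ.fixes_iff (mul_mem hg (inv_mem hvN)), ℓ.mul _ _ hg (inv_mem hvN), ℓ.inv hvN, habc, hvl,
            mul_inv_cancel]
        rcases a with _ | _ <;> rcases b with _ | _ <;> rcases c with _ | _
        · exact key 1 (one_mem _) (one_mem _) (by rw [ℓ.one]; decide)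
        · exact absurd hs (by decide)
        · exact absurd hs (by decide)
        · refine key (t * t') (mul_mem t_mem_V t_mem_V') (mul_mem htN htN') ?_
          rw [ℓ.mul _ _ htN htN', h1, h2]; decide
        · exact absurd hs (by decide)
        · exact key t' t_mem_V' htN' (by rw [h2]; decide)
        · exact key t t_mem_V htN (by rw [h1]; decide)
        · exact absurd hs (by decide)
      sq := by
        intro y _ _ N _ hMN hs q hq _ hqt hqt' hqq
        obtain ⟨ℓ, h1, h2⟩ := h.exists_lab hs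
        obtain ⟨a, b, c, habc⟩ := h.exists_w3 hMN ℓ h1 h2 hq hqt hqt'
        have hVM : jn t' (zpowers t) ≤ M :=
          sup_le (zpowers_le.mpr h.tM') (zpowers_le.mpr h.tM)
        have hqN : q * q ∈ N := hMN (hVM hqq)
        have h3 : ℓ.φ (q * q) = 1 := by
          rw [ℓ.mul _ _ hq hq, habc]
          rcases a with _ | _ <;> rcases b with _ | _ <;> rcases c with _ | _ <;> decide
        have h4 := (ℓ.core_iff _ hqN).mp h3
        refine eq_one_of_mem_core_sq h4 ?_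
        exact (four_of h.tt h.tt' h.cmm ht1 ht1' hne.symm).elem _ hqq }

/-- the 2-component of type `A₅` is not of type `A₇` -/
theorem not_lab_cmp {N : Subgroup G} (ℓ : Lab N) {r : G} (hr : r ∈ normalizer (N : Set G)) (hrr : r * r = 1)
    (h5 : (fixIn (Finset.univ : Finset (Fin 7)) (ℓ.φ r)).card = 5) : ¬ Nonempty (Lab (ℓ.cmp r)) := by
  rintro ⟨M⟩
  obtain ⟨M', -⟩ := ℓ.exists_cmp_five hr hrr (by omega) (by omega)
  have e1 := Nat.card_congr M.quotEquiv.toEquiv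
  have e2 := Nat.card_congr M'.quotEquiv.toEquiv
  rw [e1] at e2
  have h1 := card_alt (S := (Finset.univ : Finset (Fin 7))) (by decide)
  have h2 := card_alt (S := fixIn (Finset.univ : Finset (Fin 7)) (ℓ.φ r)) (by omega)
  rw [← Nat.card_congr (altEquiv _).toEquiv, ← e2, Nat.card_congr (altEquiv _).toEquiv, h5, h1,
    Finset.card_univ, Fintype.card_fin] at h2
  exact absurd h2 (by decide)

/-- a 2-component `cmp r` of type `A₅` of `C_N(r)`, `N = L_y`, cannot move `K` -/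
theorem Out7.pump (h : Out7 M Y t t' K L) (hP7 : A7.Pump7 G) {y x r m : G} {N : Subgroup G} (hy : y ∈ Y)
    (hy1 : y ≠ 1) (hx : x = y ∨ x = y * t) (T : IsTriple x t K) (hN : IsComp (centralizer ({y} : Set G)) N)
    (ℓ : Lab N) (hrr : r * r = 1) (hr1 : r ≠ 1) (hrt : r * t = t * r) (hrY : ∀ z ∈ Y, r * z = z * r)
    (hrK : Fixes r K) (hrN : r ∈ normalizer (N : Set G))
    (h5 : (fixIn (Finset.univ : Finset (Fin 7)) (ℓ.φ r)).card = 5)
    (hm : m ∈ ℓ.cmp r) (hmt : m * t = t * m) (hmK : ¬ Fixes m K) : False := by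
  have hrx : r * x = x * r := by
    rcases hx with rfl | rfl
    · exact hrY _ hy
    · exact Commute.mul_right (hrY y hy : Commute r y) (hrt : Commute r t)
  have hnorm := h.toG.norm
  exact false_of_pump hP7 L T (h.ysq y hy) (hnorm (mem_c (h.toG.ty hy))) (h.yV y hy) (h.y1 y hy hy1) hrr hr1
    hrt hrx (hrY y hy) hrK (ℓ.isComp_cmp_of hN hrN hrr (by omega)) (not_lab_cmp ℓ hrN hrr h5) hm hmt
    (hnorm (mem_c hmt)) hmK

/-- the case of a transposition in `{4, 5}` -/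
theorem Out7.final (h : Out7 M Y t t' K L) (hP7 : A7.Pump7 G) {y x r : G} {N : Subgroup G} (hy : y ∈ Y)
    (hy1 : y ≠ 1) (hx : x = y ∨ x = y * t) (T : IsTriple x t K) (hN : IsComp (centralizer ({y} : Set G)) N)
    (hMN : M ≤ N) (ℓ : Lab N) (hl1 : ℓ.φ t = u1) (hrr : r * r = 1) (hrt : r * t = t * r)
    (hrY : ∀ z ∈ Y, r * z = z * r) (hrK : Fixes r K) (hrN : r ∈ normalizer (N : Set G))
    (hr : ℓ.φ r = swap 4 5) (rk7 : el (FXx x t K) ≤ 4) : False := by
  have htN := le_normalizer (hMN h.tM)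
  have hne : ∀ {a b : G}, ℓ.φ a ≠ ℓ.φ b → a ≠ b := fun h1 h2 => h1 (by rw [h2])
  have hr1 : r ≠ 1 := hne (by rw [hr, ℓ.one]; decide)
  obtain ⟨ρ, hρN, hρρ, htρ, hrρ, hρ⟩ := Nine.exists_inv_lift2 ℓ htN hrN h.tt hrr hrt.symm
    (σ := swap 0 2 * swap 1 3) (by rw [alt_univ, Equiv.Perm.mem_alternatingGroup]; decide) (by decide)
    (by rw [hl1]; decide) (by rw [hr]; decide)
  have hρI : ρ ∈ ℓ.cmp r := by
    refine ℓ.mem_cmp hρN hrρ ?_ (n := 1) (by rw [pow_one, pow_two, hρρ])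
    rw [hr, hρ]
    exact mem_alt_iff.mpr (by decide)
  have hft : Fixes t K := fixes_self' h.comp7.le
  by_cases hf : Fixes ρ K
  · have hρy : ρ * y = y * ρ := comm_c (hN.le hρN)
    have hc : ∀ {g : G}, g * y = y * g → g * t = t * g → g * x = x * g := by
      intro g h1 h2
      rcases hx with rfl | rfl
      · exact h1
      · exact Commute.mul_right (h1 : Commute g y) (h2 : Commute g t)
    have e1 : t ∈ FXx x t K := mem_FXx.mpr ⟨⟨rfl, hft⟩, hc (h.toG.ty hy).symm rfl⟩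
    have e2 : ρ ∈ FXx x t K := mem_FXx.mpr ⟨⟨htρ.symm, hf⟩, hc hρy htρ.symm⟩
    have e3 : r ∈ FXx x t K := mem_FXx.mpr ⟨⟨hrt, hrK⟩, hc (hrY y hy) hrt⟩
    have h8 := L2Inner.card_eight h.tt hρρ hrr htρ hrt.symm hrρ.symm
      (hne (by rw [hl1, ℓ.one]; decide)) (hne (by rw [hρ, ℓ.one]; decide))
      (hne (by rw [hl1, hρ]; decide)) hr1 (hne (by rw [hl1, hr]; decide)) (hne (by rw [hρ, hr]; decide))
      (hne (by rw [hr, ℓ.mul _ _ htN (le_normalizer hρN), hl1, hρ]; decide))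
    have h9 : Elem (L2Inner.jn r (L2Inner.jn ρ (zpowers t))) := by
      refine L2Inner.elem_jn (L2Inner.elem_jn ?_ hρρ ?_) hrr ?_
      · intro a ha
        rcases L2Inner.mem_zpowers_sq h.tt ha with rfl | rfl
        · rw [one_mul]
        · exact h.tt
      · intro a ha
        rcases L2Inner.mem_zpowers_sq h.tt ha with rfl | rfl
        · rw [one_mul, mul_one]
        · exact htρ
      · have h10 : L2Inner.jn ρ (zpowers t) ≤ centralizer ({r} : Set G) :=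
          L2Inner.jn_le (mem_c hrρ.symm) (zpowers_le.mpr (mem_c hrt.symm))
        intro a ha
        exact comm_c (h10 ha)
    have h11 := le_el (L2Inner.jn_le e3 (L2Inner.jn_le e2 (zpowers_le.mpr e1))) h9
    omega
  · exact h.pump hP7 hy hy1 hx T hN ℓ hrr hr1 hrt hrY hrK hrN (by rw [hr]; decide) hρI htρ.symm hf

/-- **(7')** -/
theorem Out7.seven (h : Out7 M Y t t' K L) (hP7 : A7.Pump7 G) {y x : G} (hy : y ∈ Y)
    (hy1 : y ≠ 1) (hx : x = y ∨ x = y * t) (T : IsTriple x t K) (rk7 : el (FXx x t K) ≤ 4) :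
    SevenG (Ev7 t t') M Y t t' K := by
  intro r hrr hrt hrt' hrY hrK hnE
  obtain ⟨N, hN, hMN, hs⟩ := h.comp y hy hy1
  obtain ⟨ℓ, h1, h2⟩ := h.exists_lab hs
  have hE := hnE y hy hy1 N hN hMN hs
  have hG := h.toG
  have hT := nf_of_lab ℓ (hMN h.tM) h1
  have hrN := hG.mem_norm hN hMN hT (hrY y hy) hrt
  have hsg : sign (ℓ.φ r) ≠ 1 := fun h3 => hE ⟨ℓ, h1, h2, h3⟩
  have htN := le_normalizer (hMN h.tM)
  have htN' := le_normalizer (hMN h.tM')
  have hft : Fixes t K := fixes_self' h.comp7.le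
  have hKt : t ∈ normalizer (K : Set G) := hft.1
  have hKt' : t' ∈ normalizer (K : Set G) := hG.norm (mem_c h.cmm.symm)
  have hnt' : ¬ Fixes t' K := by
    rw [← L.fixes_iff hKt', h.ta]; decide
  have hntt : ¬ Fixes (t * t') K := fun h3 => hnt' ((fixes_mul_iff_right hft).mp h3)
  have hr1 : r ≠ 1 := by
    rintro rfl
    rw [ℓ.one] at hsg
    exact hsg (by decide)
  obtain ⟨a, b, c, habc⟩ := h.exists_w3 hMN ℓ h1 h2 hrN hrt hrt'
  rw [habc] at hsg
  rcases a with _ | _ <;> rcases b with _ | _ <;> rcases c with _ | _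
  · exact hsg (by decide)
  · -- `(45)`
    exact h.final hP7 hy hy1 hx T hN hMN ℓ h1 hrr hrt hrY hrK hrN (by rw [habc]; decide) rk7
  · -- `(23)`
    refine h.pump hP7 hy hy1 hx T hN ℓ hrr hr1 hrt hrY hrK hrN (by rw [habc]; decide) (m := t') ?_ h.cmm.symm hnt'
    refine ℓ.mem_cmp (hMN h.tM') hrt' ?_ (n := 1) (by rw [pow_one, pow_two, h.tt'])
    rw [habc, h2]
    exact mem_alt_iff.mpr (by decide)
  · exact hsg (by decide)
  · -- `(01)`
    have hc : Commute r (t * t') := Commute.mul_right (hrt : Commute r t) (hrt' : Commute r t')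
    have htt2 : (t * t') * (t * t') = 1 := by
      calc (t * t') * (t * t') = t * (t' * t) * t' := by group
        _ = (t * t) * (t' * t') := by rw [← h.cmm]; group
        _ = 1 := by rw [h.tt, h.tt', one_mul]
    refine h.pump hP7 hy hy1 hx T hN ℓ hrr hr1 hrt hrY hrK hrN (by rw [habc]; decide) (m := t * t') ?_
      (by rw [mul_assoc, ← h.cmm]) hntt
    refine ℓ.mem_cmp (mul_mem (hMN h.tM) (hMN h.tM')) hc ?_ (n := 1) (by rw [pow_one, pow_two, htt2])
    rw [habc, ℓ.mul _ _ htN htN', h1, h2]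
    exact mem_alt_iff.mpr (by decide)
  · exact hsg (by decide)
  · exact hsg (by decide)
  · -- `(01)(23)(45)`: replace `r` by `t r`
    have hc : Commute t r := hrt.symm
    refine h.final hP7 hy hy1 hx T hN hMN ℓ h1 (r := t * r) ?_ ?_ ?_ (fixes_mul hft hrK) (mul_mem htN hrN)
      (by rw [ℓ.mul _ _ htN hrN, h1, habc]; decide) rk7
    · calc (t * r) * (t * r) = t * (r * t) * r := by group
        _ = (t * t) * (r * r) := by rw [hrt]; group
        _ = 1 := by rw [h.tt, hrr, one_mul]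
    · rw [mul_assoc, hrt, ← mul_assoc]
    · intro z hz
      exact Commute.mul_left ((hG.ty hz).symm : Commute t z) (hrY z hz : Commute r z)

/-! ### `m(Q) = 2` -/

section rank

variable {Ev : Subgroup G → G → Prop}

/-- an involution `j` commuting with `M`, such that `M` lies in a 2-component of `C(j)`, moves `K` -/
theorem OutG.not_fixes (h : OutG Ev M Y t t' K L) {j : G} (hjj : j * j = 1)
    (hjM : ∀ m ∈ M, j * m = m * j) {N : Subgroup G} (hN : IsComp (centralizer ({j} : Set G)) N) (hMN : M ≤ N)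
    (hT : NF t N) : ¬ Fixes j K := by
  intro hf
  have hjt := hjM t h.tM
  have hjt' := hjM t' h.tM'
  obtain ⟨h1, h3⟩ := isComp_cen h.comp7 (mem_c hjt) hjj hf
  obtain ⟨J, hJ⟩ : ∃ J, J = cen K j := ⟨_, rfl⟩
  rw [← hJ] at h1 h3
  rw [inf_comm] at h1
  have htj : t ∈ centralizer ({j} : Set G) := mem_c hjt.symm
  obtain ⟨N1, hN1, -, hor⟩ := McLLyComp.PumpT.exists_pump htj h.tt h1
  have htN1 : t ∈ normalizer (N1 : Set G) := by
    by_cases he : N1 = N
    · rw [he]; exact le_normalizer (hMN h.tM)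
    · exact (hN1.fixes_of_mem hN he (hMN h.tM)).1
  have hJN : J ≤ N1 := by
    rcases hor with ⟨-, h4⟩ | ⟨h4, -⟩
    · exact h4
    · exact absurd (mem_normalizer_iff_cj.mp htN1) h4
  have hKt' : t' ∈ normalizer (K : Set G) := h.norm (mem_c h.cmm.symm)
  have hJt' : t' ∈ normalizer (J : Set G) := hJ ▸ mem_normalizer_cen hKt' hjt'.symm
  by_cases he : N1 = N
  · subst he
    have hp2 : Fact (Nat.Prime 2) := ⟨Nat.prime_two⟩
    obtain ⟨⟨r, hr⟩, hr2⟩ := exists_prime_orderOf_dvd_card' (G := J) 2 h1.even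
    rw [Subgroup.orderOf_mk] at hr2
    have hrr := sq_of_order hr2
    exact hT.1 r (hJN hr) hrr (ne_one_of_order hr2)
      (hT.2 J (hJN.trans le_normalizer) h1.perfect (fun d hd => comm_c (h1.le hd).2) r hr)
  · have h4 := hN1.fixes_of_mem hN he (hMN h.tM')
    have h5 : Fixes t' J := PumpGen.fixes_of_pump h.tt hjt h1 hN1 (mem_c hjt'.symm) (mem_c h.cmm.symm) h4
      (Or.inl hJN)
    have h6 := (fixes_iff_of_sup h3 hJt' hKt').mp h5
    rw [← L.fixes_iff hKt', h.ta] at h6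
    exact absurd h6 (by decide)

/-- **`m(Q) = 2`** -/
theorem OutG.card_le (h : OutG Ev M Y t t' K L) {Q : Subgroup G} (h2 : IsPGroup 2 Q) (hYQ : Y ≤ Q)
    (hQM : ∀ q ∈ Q, ∀ m ∈ M, q * m = m * q)
    (hgood : ∀ j ∈ Q, j * j = 1 → j ≠ 1 → ∃ N, IsComp (centralizer ({j} : Set G)) N ∧ M ≤ N ∧ NF t N)
    {U : Subgroup G} (hUQ : U ≤ Q) (hU : ∀ u ∈ U, u * u = 1) : Nat.card U ≤ 4 := by
  by_contra hcon
  push Not at hcon
  have hfaith : ∀ j ∈ Q, j * j = 1 → Fixes j K → j = 1 := by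
    intro j hj hjj hf
    by_contra hj1
    obtain ⟨N, hN, hMN, hT⟩ := hgood j hj hjj hj1
    exact h.not_fixes hjj (hQM j hj) hN hMN hT hf
  have hQt : ∀ q ∈ Q, q * t = t * q := fun q hq => hQM q hq t h.tM
  have hQK : Q ≤ normalizer (K : Set G) := fun q hq => h.norm (mem_c (hQt q hq))
  have hKt' : t' ∈ normalizer (K : Set G) := h.norm (mem_c h.cmm.symm)
  obtain ⟨f, hf⟩ : ∃ f : ↥U →* P7, ∀ u : ↥U, f u = L.φ (u : G) :=
    ⟨L.hom.comp (inclusion (hUQ.trans hQK)), fun u => rfl⟩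
  have hinj : Function.Injective f := by
    rw [injective_iff_map_eq_one]
    intro u hu
    rw [hf] at hu
    exact Subtype.ext (hfaith u (hUQ u.2) (hU u u.2) ((L.fixes_iff (hQK (hUQ u.2))).mp hu))
  have hcard : Nat.card f.range = Nat.card U :=
    (Nat.card_congr (MonoidHom.ofInjective hinj).toEquiv).symm
  have hta : L2Inner.ta ∈ f.range := by
    refine ta_mem ?_ (by omega) ?_
    · rintro _ ⟨u, rfl⟩
      rw [← map_mul, show u * u = 1 from Subtype.ext (hU u u.2), map_one]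
    · rintro _ ⟨u, rfl⟩
      rw [hf, ← h.ta]
      exact L.comm (hQK (hUQ u.2)) hKt' (hQM u (hUQ u.2) t' h.tM')
  obtain ⟨⟨s, hs⟩, hsa⟩ := hta
  rw [hf] at hsa
  change L.φ s = L2Inner.ta at hsa
  have hsQ := hUQ hs
  -- `s` commutes with `Y`
  have hsY : ∀ z ∈ Y, s * z = z * s := by
    intro z hz
    have hzQ := hYQ hz
    obtain ⟨c, hc⟩ : ∃ c, c = s * z * s⁻¹ * z⁻¹ := ⟨_, rfl⟩
    have hcQ : c ∈ Q := hc ▸ mul_mem (mul_mem (mul_mem hsQ hzQ) (inv_mem hsQ)) (inv_mem hzQ)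
    have hcf : Fixes c K := by
      rw [← L.fixes_iff (hQK hcQ), hc, L.mul _ _ (mul_mem (mul_mem (hQK hsQ) (hQK hzQ)) (inv_mem (hQK hsQ)))
        (inv_mem (hQK hzQ)), L.conj (hQK hsQ) (hQK hzQ), L.inv (hQK hzQ), hsa]
      rcases h.yV z hz with h3 | h3 | h3 | h3 <;> rw [h3] <;> decide
    have hc1 : c = 1 := by
      by_contra hc1
      have hZ : zpowers c ≤ FX t K ⊓ Q := by
        rw [zpowers_le]
        exact ⟨⟨hQt c hcQ, hcf⟩, hcQ⟩
      have hp2 : Fact (Nat.Prime 2) := ⟨Nat.prime_two⟩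
      have hZ2 : IsPGroup 2 (zpowers c) := h2.to_le (hZ.trans inf_le_right)
      obtain ⟨n, hn⟩ := hZ2.exists_card_eq
      have hn0 : n ≠ 0 := by
        rintro rfl
        rw [pow_zero, Subgroup.card_eq_one, zpowers_eq_bot] at hn
        exact hc1 hn
      obtain ⟨⟨r, hr⟩, hr2⟩ := exists_prime_orderOf_dvd_card' (G := zpowers c) 2
        (by rw [hn]; exact dvd_pow_self 2 hn0)
      rw [Subgroup.orderOf_mk] at hr2
      exact ne_one_of_order hr2 (hfaith r (hZ hr).2 (sq_of_order hr2) (hZ hr).1.2)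
    rw [hc, mul_inv_eq_one, mul_inv_eq_iff_eq_mul] at hc1
    exact hc1
  obtain ⟨y, hy, -, -, hy1, -⟩ := exists_gens h.ycard
  obtain ⟨N, hN, hMN, hs', hT⟩ := h.comp y hy hy1
  have hsN := h.mem_norm hN hMN hT (hsY y hy) (hQt s hsQ)
  have hsM : Fixes s M := by
    refine ⟨mem_normalizer_iff_cj.mpr (TMCBase.cj_of_comm fun m hm => mem_c (hQM s hsQ m hm).symm), fun m hm => ?_⟩
    rw [commutatorElement_eq_one_iff_mul_comm.mpr (hQM s hsQ m hm)]
    exact one_mem _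
  have hsf : Fixes s N := (fixes_iff_of_sup hs' hsM.1 hsN).mp hsM
  have hsYm := h.rk y hy hy1 N hN hMN s (hU s hs) (hQt s hsQ) hsY hsf
  have h3 := h.yV s hsYm
  rw [hsa] at h3
  rcases h3 with h3 | h3 | h3 | h3 <;> exact absurd h3 (by decide)

end rank

/-- **(6)-(8) for `M / O(M) ≅ A₇`** -/
theorem Out7.rank_of (h : Out7 M Y t t' K L) (hP7 : A7.Pump7 G)
    (tri : ∃ y ∈ Y, y ≠ 1 ∧ ∃ x, (x = y ∨ x = y * t) ∧ IsTriple x t K) {Q : Subgroup G} (h2 : IsPGroup 2 Q)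
    (hYQ : Y ≤ Q) (hQM : ∀ q ∈ Q, ∀ m ∈ M, q * m = m * q)
    (hgood : ∀ j ∈ Q, j * j = 1 → j ≠ 1 → ∃ N, IsComp (centralizer ({j} : Set G)) N ∧ M ≤ N ∧ M ⊔ core N = N)
    (hrk : ∀ (x' e : G) (N : Subgroup G), Mu.T7 x' e N → el (FXx x' e N) ≤ el Q) :
    SectionalPRankLE 2 4 G := by
  obtain ⟨y, hy, hy1, x, hx, T⟩ := tri
  have hG := h.toG
  have hft : Fixes t K := fixes_self' h.comp7.le
  have hT7 : Mu.T7 x t K := by
    refine ⟨T, ⟨L⟩, ?_⟩
    have hyy := h.ysq y hy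
    have hty := hG.ty hy
    rcases h.yK y hy with h1 | h1
    · refine ⟨y, h1, ?_⟩
      rcases hx with rfl | rfl
      · rw [mul_inv_cancel]; exact fixes_one K
      · rw [hty, mul_inv_cancel_right]; exact hft
    · refine ⟨y * t, h1, ?_⟩
      rcases hx with rfl | rfl
      · rw [hty, mul_inv_rev, mul_inv_cancel_left]
        exact fixes_inv hft
      · rw [mul_inv_cancel]; exact fixes_one K
  have hel : el Q ≤ 4 := by
    unfold el
    apply csSup_le
    · exact ⟨_, ⊥, bot_le, fun x hx => by rw [mem_bot.mp hx, one_mul], rfl⟩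
    · rintro n ⟨A, hA, hE, rfl⟩
      refine hG.card_le h2 hYQ hQM (fun j hj hjj hj1 => ?_) hA hE
      obtain ⟨N, hN, hMN, hs⟩ := hgood j hj hjj hj1
      obtain ⟨ℓ, h1, -⟩ := h.exists_lab hs
      exact ⟨N, hN, hMN, nf_of_lab ℓ (hMN h.tM) h1⟩
  exact hG.rank (h.seven hP7 hy hy1 hx T ((hrk x t K hT7).trans hel))

/-- the same, from the output of SETUP -/
theorem Out7.rank_of_pre {Q : Subgroup G} {l k : G} (h : Out7 M Y t t' K L) (hP7 : A7.Pump7 G)
    (tri : ∃ y ∈ Y, y ≠ 1 ∧ ∃ x, (x = y ∨ x = y * t) ∧ IsTriple x t K) (P : Pre7 l k M Q) (hYQ : Y ≤ Q) :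
    SectionalPRankLE 2 4 G := by
  refine h.rank_of hP7 tri P.two hYQ P.comm (fun j hj hjj hj1 => ?_) P.rk
  obtain ⟨N, hN, h1, h2⟩ := P.good j hj (orderOf_eq_prime (by rw [pow_two, hjj]) hj1)
  exact ⟨N, hN.tri.comp, h1, h2⟩

end Cfsg.Agent.UGT.A7.M1.Bad
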