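import Cfsg.Agent.UGT.A7.M1.Five

/-!
# CANON with generating four-groups, end

`Pkg M Q`, weak 2-balance on all `Y V` (`Gd M V`) and the statement (A) (`P3.Tor M Y`) ⊢ `∃ N₀, Cls0 N₀`.
-/

set_option autoImplicit false
set_option linter.unusedSectionVars false
set_option linter.unusedVariables false

open Cfsg Subgroup
open Cfsg.Agent.SignalizersComponents Cfsg.Agent.Lib
open Cfsg.Agent.SignalizersComponents.IntrinsicBasic
open Cfsg.Agent.Intrinsic.Basic Cfsg.Agent.Intrinsic.Cen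
open Cfsg.Agent.UGT.Triple Cfsg.Agent.UGT.TMCSyl
open Cfsg.Agent.UGT.L2Inner
open Cfsg.Agent.UGT.L2i (cj_of_comm)
open scoped commutatorElement

universe u

namespace Cfsg.Agent.UGT.A7.M1

variable {G : Type u} [Group G] [Finite G] {M Q Y V W : Subgroup G}

namespace Pkg

variable (P : Pkg M Q)
include P

theorem bp (FT : ∀ Y : Subgroup G, Odd (Nat.card Y) → Group.IsSolvable Y) (hW : PW M Q W)
    (hY : Four Y) (hYQ : Y ≤ Q) (hT : P3.Tor M Y) : Bp M Y W := by
  have F := P.frame hY hYQ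
  obtain ⟨V, hV⟩ := P.gd
  obtain ⟨s, hs, hs1, -⟩ := hY.exists_ne 1
  have e := hW.eq s (hYQ hs) (hY.elem s hs) hs1 V hV
  have fw := hW.fw Y hY hYQ
  have hD := F.s_le hV.four hV.le hs
  have hD8 := F.card_s hV.four hV.le hs hs1
  refine ⟨F, P.gd, ?_, ?_, ?_, ?_, hT, FT⟩
  · rw [← e]
    exact F.M_le fw hV hD hD8
  · rw [← e]
    intro y hy
    refine fw.mem_of_normalizes (cj_of_comm fun d hd => ?_)
    exact (F.elem hV.four hV.le).comm (mem_sup_left hy) (hD hd)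
  · intro s' hs' hs'1
    rw [← e]
    exact F.core_le_norm fw hV hD hD8 hs'
  · intro V' hV' B hB hB4 z hz e' he'
    refine hW.delta Y V' hY hYQ hV' B hB hB4 (commutator_mem_commutator ?_ he')
    have h1 : zpowers z ≤ signalizerDelta 2 B := by
      refine Func52.le_delta fun d hd hd1 => ?_
      rw [zpowers_le]
      exact hz d hd hd1
    exact h1 (mem_zpowers z)

/-- **(5)** -/
theorem five (FT : ∀ Y : Subgroup G, Odd (Nat.card Y) → Group.IsSolvable Y) (hW : PW M Q W)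
    (hT : ∀ Y : Subgroup G, Four Y → Y ≤ Q → P3.Tor M Y) :
    ∀ z ∈ Q, orderOf z = 2 → ∀ c ∈ core (centralizer ({z} : Set G)), ∀ m ∈ M, ⁅c, m⁆ ∈ W := by
  intro z hz hz2 c hc m hm
  obtain ⟨Y, hY, hYQ, hzY⟩ := P.exists_four_of hz hz2
  refine (P.bp FT hW hY hYQ (hT Y hY hYQ)).bprime hzY ?_ c hc m hm
  rintro rfl
  rw [orderOf_one] at hz2
  exact absurd hz2 (by norm_num)

/-- **CANON** from weak 2-balance on all `Y V`, `Gd M V`, and the statement (A) -/
theorem canon_of (FT : ∀ Y : Subgroup G, Odd (Nat.card Y) → Group.IsSolvable Y)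
    (H : ∀ Y V : Subgroup G, Four Y → Y ≤ Q → Gd M V → Func52.Hyp (Y ⊔ V))
    (hT : ∀ Y : Subgroup G, Four Y → Y ≤ Q → P3.Tor M Y) :
    ∃ N₀ : Subgroup G, M ≤ N₀ ∧ M ⊔ core N₀ = N₀ ∧ Cls0 N₀ :=
  P.exists_cls FT H fun W hW => P.five FT hW hT

end Pkg

end Cfsg.Agent.UGT.A7.M1
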