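import Cfsg.Agent.UGT.A7.M1.WBGen
import Cfsg.Agent.UGT.L2Inner.Bad7
import Cfsg.Agent.UGT.L2Inner.P3Elem

/-!
# The bad configuration (bb #12930), generic type: (1)

`Sit GG F M Y V`: the setting; `E = Y V`.  `JY M Y j`: `j` fixes `L_y / O(L_y)` for all `y ∈ Y#`.

* `Sit.jy_of`: one `y` suffices.
* `Sit.good`: the pump-up of `L_y` in `C(j)` is trivial for the involutions `j` of `C(E)` with `JY M Y j`.
* `Sit.star_j`: `V` fixes the 2-components of `C(c t) ∩ C(j)`.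
-/

set_option autoImplicit false
set_option linter.unusedSectionVars false

open Cfsg Subgroup
open Cfsg.Agent.SignalizersComponents Cfsg.Agent.Lib
open Cfsg.Agent.SignalizersComponents.IntrinsicBasic
open Cfsg.Agent.SignalizersComponents.PLayerAut
open Cfsg.Agent.Intrinsic.Basic Cfsg.Agent.Intrinsic.Cen Cfsg.Agent.Intrinsic.Diag
open Cfsg.Agent.McLLyComp.Act
open Cfsg.Agent.UGT.Triple (IsTriple)
open Cfsg.Agent.UGT.TriBase Cfsg.Agent.UGT.TMCBase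
open Cfsg.Agent.UGT.L2Inner (comm_of_sq order_two isPGroup_of_sq exists_gens fixes_of_comm_core jn four_of Four
  self_mem_jn le_jn mem_zpowers_sq)
open scoped commutatorElement

namespace Cfsg.Agent.UGT.A7.M1.Cfg7

universe u

variable {G : Type u} [Group G]

/-- the setting -/
structure Sit (GG : Subgroup G) (F : G → Subgroup G → Prop) (M Y V : Subgroup G) : Prop extends Fr M Y V where
  fam : Fam GG F
  famY : ∀ y ∈ Y, y ≠ 1 → ∃ N, F y N ∧ M ≤ N ∧ M ⊔ core N = N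
  gt : ∀ y N, F y N → GT N
  gg : ∀ j, (∀ e ∈ Y ⊔ V, j * e = e * j) → j ∈ GG

/-- `j` fixes all `L_y` -/
def JY (M Y : Subgroup G) (j : G) : Prop :=
  ∀ y ∈ Y, y ≠ 1 → ∀ N, IsComp (centralizer ({y} : Set G)) N → M ≤ N → Fixes j N

variable [Finite G] {GG : Subgroup G} {F : G → Subgroup G → Prop} {M Y V : Subgroup G}

/-- a 2-subgroup of `L` commuting with `y` lies in `cen L y` -/
theorem le_cen {L W : Subgroup G} {y : G} (hW : ∀ v ∈ W, v * v = 1) (hWL : W ≤ L) (hWy : ∀ v ∈ W, v * y = y * v) :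
    W ≤ cen L y := by
  intro v hv
  exact PComponents.mem_pElem (n := 1) ⟨hWL hv, mem_c (hWy v hv)⟩ (by rw [pow_one, pow_two, hW v hv])

namespace Sit

variable (S : Sit GG F M Y V)

include S

theorem exists_v : ∃ v ∈ V, v * v = 1 ∧ v ≠ 1 := by
  obtain ⟨v, hv, -, -, hv1, -, -⟩ := exists_gens S.pcard
  exact ⟨v, hv, S.psq v hv, hv1⟩

theorem uniq {y : G} (hy : y ∈ Y) (hy1 : y ≠ 1) {N N' : Subgroup G} (hN : IsComp (centralizer ({y} : Set G)) N)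
    (hN' : IsComp (centralizer ({y} : Set G)) N') (hM : M ≤ N) (hM' : M ≤ N') : N = N' := by
  obtain ⟨v, hv, hvv, hv1⟩ := S.exists_v
  obtain ⟨L, hL, hML, -, hT⟩ := S.comp y hy hy1
  have h1 := eq_of_inv hL hN hT.nf (hML (S.pm hv)) (hM (S.pm hv)) hvv hv1
  have h2 := eq_of_inv hL hN' hT.nf (hML (S.pm hv)) (hM' (S.pm hv)) hvv hv1
  exact h1.symm.trans h2

theorem gtN {y : G} (hy : y ∈ Y) (hy1 : y ≠ 1) {N : Subgroup G} (hN : IsComp (centralizer ({y} : Set G)) N)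
    (hM : M ≤ N) : M ⊔ core N = N ∧ GT N := by
  obtain ⟨L, hL, hML, hs, hT⟩ := S.comp y hy hy1
  obtain rfl := S.uniq hy hy1 hL hN hML hM
  exact ⟨hs, hT⟩

theorem fY {y c : G} (hy : y ∈ Y) (hy1 : y ≠ 1) (hc : c ∈ Y) {N : Subgroup G}
    (hN : IsComp (centralizer ({y} : Set G)) N) (hM : M ≤ N) : Fixes c N := by
  obtain ⟨v, hv, hvv, hv1⟩ := S.exists_v
  obtain ⟨hs, hT⟩ := S.gtN hy hy1 hN hM
  exact S.toYF.fixes_Y hy hc (S.pm hv) hvv hv1 hN hM hs hT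

/-- `cen L_y y' = cen L_{y'} y` -/
theorem cen_eq {y y' : G} (hy : y ∈ Y) (hy1 : y ≠ 1) (hy' : y' ∈ Y) (hy1' : y' ≠ 1) {N N' : Subgroup G}
    (hN : IsComp (centralizer ({y} : Set G)) N) (hM : M ≤ N)
    (hN' : IsComp (centralizer ({y'} : Set G)) N') (hM' : M ≤ N') : cen N y' = cen N' y := by
  obtain ⟨v, hv, hvv, hv1⟩ := S.exists_v
  obtain ⟨hs, hT⟩ := S.gtN hy hy1 hN hM
  have hyy' := comm_of_sq S.ysq hy hy'
  have f1 := S.fY hy hy1 hy' hN hM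
  have f2 := S.fY hy' hy1' hy hN' hM'
  have c1 := isComp_cen' hN (S.ysq y' hy') hyy'.symm f1
  have s1 := sup_cen' hN (S.ysq y' hy') hyy'.symm f1
  have c2 := isComp_cen' hN' (S.ysq y hy) hyy' f2
  rw [inf_comm] at c2
  have e1 : V ≤ cen N y' := le_cen S.psq (S.pm.trans hM) fun p hp => (S.yp hy' hp).symm
  have e2 : V ≤ cen N' y := le_cen S.psq (S.pm.trans hM') fun p hp => (S.yp hy hp).symm
  refine eq_of_inv c1 c2 (fun w hw hww hw1 hf => ?_) (e1 hv) (e2 hv) hvv hv1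
  have hwN := cen_le _ _ hw
  exact hT.nf w hwN hww hw1 ((fixes_iff_of_sup s1 hf.1 (le_normalizer hwN)).mp hf)

/-- one `y ∈ Y#` suffices for `JY` -/
theorem jy_of {j : G} (hjY : ∀ y ∈ Y, j * y = y * j) {y₀ : G} (hy₀ : y₀ ∈ Y) (h1 : y₀ ≠ 1) {N₀ : Subgroup G}
    (hN₀ : IsComp (centralizer ({y₀} : Set G)) N₀) (hM₀ : M ≤ N₀) (hj : Fixes j N₀) : JY M Y j := by
  intro y hy hy1 N hN hM
  obtain ⟨v, hv, hvv, hv1⟩ := S.exists_v
  by_cases hyy : y = y₀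
  · subst hyy
    obtain rfl := S.uniq hy hy1 hN hN₀ hM hM₀
    exact hj
  have hc := S.cen_eq hy₀ h1 hy hy1 hN₀ hM₀ hN hM
  have hcomm := comm_of_sq S.ysq hy₀ hy
  have f1 := S.fY hy₀ h1 hy hN₀ hM₀
  have h2 : Fixes j (cen N₀ y) := fixes_cen hN₀ (S.ysq y hy) hcomm.symm f1 hj (hjY y hy)
  rw [hc] at h2
  have s2 := sup_cen' hN (S.ysq y₀ hy₀) hcomm (S.fY hy hy1 hy₀ hN hM)
  obtain ⟨-, hT⟩ := S.gtN hy hy1 hN hM
  have e2 : V ≤ cen N y₀ := le_cen S.psq (S.pm.trans hM) fun p hp => (S.yp hy₀ hp).symm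
  have hjN : j ∈ normalizer (N : Set G) := by
    rw [mem_normalizer_iff_cj]
    refine (eq_of_inv hN (isComp_cj_of_mem hN (mem_c (hjY y hy))) hT.nf (cen_le _ _ (e2 hv)) ?_ hvv hv1).symm
    have h3 : cj j (cen N y₀) ≤ cj j N := cj_mono (cen_le _ _)
    rw [mem_normalizer_iff_cj.mp h2.1] at h3
    exact h3 (e2 hv)
  exact (fixes_iff_of_sup s2 h2.1 hjN).mp h2

/-- an element of `C(y) ∩ C(v)`, `v ∈ V#`, normalizes `L_y` -/
theorem mem_norm {y : G} (hy : y ∈ Y) (hy1 : y ≠ 1) {N : Subgroup G} (hN : IsComp (centralizer ({y} : Set G)) N)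
    (hM : M ≤ N) {g v : G} (hv : v ∈ V) (hv1 : v ≠ 1) (hgy : g * y = y * g) (hgv : g * v = v * g) :
    g ∈ normalizer (N : Set G) :=
  normalizes_of_comm hN (S.gtN hy hy1 hN hM).2.nf (hM (S.pm hv)) (S.psq v hv) hv1 (mem_c hgy) hgv

omit S in
/-- a subgroup of `diag X J y` fixes the other 2-components -/
theorem fixes_of_le_diag {X J J' D : Subgroup G} {y : G} (hJ : IsComp X J) (hy : y ∈ X) (hyy : y * y = 1)
    (hne : cj y J ≠ J) (hJ' : IsComp X J') (h1 : J' ≠ J) (h2 : J' ≠ cj y J) (hD : D ≤ diag X J y) :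
    ∀ d ∈ D, Fixes d J' := by
  intro d hd
  obtain ⟨h3, -⟩ := exists_diag hJ hy hyy hne
  exact fixes_of_comm_core hJ' (h3.le (hD hd)).1 fun l hl => comm_diag_of_ne hJ hy hyy hne hJ' h1 h2 (hD hd) hl

/-- the swap of the bad case is the same for all `y ∈ Y#` -/
theorem bad_swap {j : G} (jj : j * j = 1) (j1 : j ≠ 1) (hjE : ∀ e ∈ Y ⊔ V, j * e = e * j) (hJ : JY M Y j)
    {y₀ : G} (hy₀ : y₀ ∈ Y) (hy01 : y₀ ≠ 1) {N₀ : Subgroup G} (hN₀ : F y₀ N₀) (hM₀ : M ≤ N₀) {J : Subgroup G}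
    (hB : BadW F y₀ N₀ j J) {y₁ : G} (hy₁ : y₁ ∈ Y) (hy11 : y₁ ≠ 1) : cj y₁ J = cj y₀ J := by
  have hjY : ∀ y ∈ Y, j * y = y * j := fun y hy => hjE y ((le_sup_left : Y ≤ Y ⊔ V) hy)
  have hjG := S.gg j hjE
  obtain ⟨N₁, hN₁, hM₁, -⟩ := S.famY y₁ hy₁ hy11
  have k0 := S.fam.comp hN₀
  have k1 := S.fam.comp hN₁
  have j0 := hJ y₀ hy₀ hy01 N₀ k0 hM₀
  have j1' := hJ y₁ hy₁ hy11 N₁ k1 hM₁
  have hcomm := comm_of_sq S.ysq hy₀ hy₁
  have hjy0 := hjY y₀ hy₀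
  have hjy1 := hjY y₁ hy₁
  have f1 := S.fY hy₀ hy01 hy₁ k0 hM₀
  have hyy0 := S.ysq y₀ hy₀
  have hyy1 := S.ysq y₁ hy₁
  obtain ⟨D, hD⟩ : ∃ D, D = cen (cen N₀ y₁) j := ⟨_, rfl⟩
  have hD0 : D ≤ cen N₀ j := by rw [hD, cen_cen_comm]; exact cen_le _ _
  have hD1 : D ≤ cen N₁ j := by
    rw [hD, S.cen_eq hy₀ hy01 hy₁ hy11 k0 hM₀ k1 hM₁, cen_cen_comm]; exact cen_le _ _
  have cj0 := isComp_cen' k0 jj hjy0 j0
  have hDs : D ⊔ core (cen N₀ j) = cen N₀ j := by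
    rw [hD, cen_cen_comm]
    have h2 : Fixes y₁ (cen N₀ j) := fixes_cen k0 jj hjy0 j0 f1 hjy1.symm
    exact (isComp_cen cj0 (v := y₁) ⟨mem_c hcomm.symm, mem_c hjy1.symm⟩ hyy1 h2).2
  have hJc := S.fam.comp hB.fam
  have y0C : y₀ ∈ centralizer ({j} : Set G) := mem_c hjy0.symm
  have y1C : y₁ ∈ centralizer ({j} : Set G) := mem_c hjy1.symm
  -- `D` fixes neither `J` nor `J ^ y₀`
  have nD : ∀ {X : Subgroup G}, BadW F y₀ N₀ j X → ¬ ∀ d ∈ D, Fixes d X := by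
    intro X hX h
    have hXc := S.fam.comp hX.fam
    apply not_fixes_diag hXc y0C hyy0 hX.ne
    rw [← hX.eq]
    intro m hm
    obtain ⟨d, hd, hdm⟩ := exists_mul_of_sup hDs hm
    have h1 : m = d * (d⁻¹ * m) := by group
    rw [h1]
    refine fixes_mul (h d hd) (hXc.fixes_of_core ?_)
    have h2 : core (cen N₀ j) ≤ core (centralizer ({j} : Set G)) := by
      rw [hX.eq]
      obtain ⟨-, -, -, h4, -⟩ := exists_diag hXc y0C hyy0 hX.ne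
      rw [h4]; exact inf_le_right
    exact h2 hdm
  have n1 := nD hB
  have n2 := nD (hB.swap S.fam hyy0 hjy0)
  rcases S.fam.pump hN₁ j hjG jj j1 hjy1 j1' with ⟨J₁, hJ₁, hs⟩ | ⟨J₁, hB₁⟩
  · exfalso
    have hle : D ≤ J₁ := hD1.trans (by rw [← hs]; exact le_sup_left)
    have hJ₁c := S.fam.comp hJ₁
    have e1 : J = J₁ := by
      by_contra hne
      exact n1 fun d hd => hJc.fixes_of_mem hJ₁c hne (hle hd)
    have e2 : cj y₀ J = J₁ := by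
      by_contra hne
      exact n2 fun d hd => (S.fam.comp hB.fam').fixes_of_mem hJ₁c hne (hle hd)
    exact hB.ne (e2.trans e1.symm)
  · have hle : D ≤ diag (centralizer ({j} : Set G)) J₁ y₁ := by rw [← hB₁.eq]; exact hD1
    have hJ₁c := S.fam.comp hB₁.fam
    have e1 : J = J₁ ∨ J = cj y₁ J₁ := by
      by_contra hcon
      push Not at hcon
      exact n1 (fixes_of_le_diag hJ₁c y1C hyy1 hB₁.ne hJc hcon.1 hcon.2 hle)
    have e2 : cj y₀ J = J₁ ∨ cj y₀ J = cj y₁ J₁ := by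
      by_contra hcon
      push Not at hcon
      exact n2 (fixes_of_le_diag hJ₁c y1C hyy1 hB₁.ne (S.fam.comp hB.fam') hcon.1 hcon.2 hle)
    rcases e1 with e1 | e1
    · rcases e2 with e2 | e2
      · exact absurd (e2.trans e1.symm) hB.ne
      · rw [e2, e1]
    · rcases e2 with e2 | e2
      · rw [e2, e1, cj_cj_self hyy1]
      · exact absurd (e2.trans e1.symm) hB.ne

/-- **(1)** the pump-up of `L_y` in `C(j)` is trivial -/
theorem good {j : G} (jj : j * j = 1) (j1 : j ≠ 1) (hjE : ∀ e ∈ Y ⊔ V, j * e = e * j) (hJ : JY M Y j)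
    {y₀ : G} (hy₀ : y₀ ∈ Y) (hy01 : y₀ ≠ 1) {N₀ : Subgroup G} (hN₀ : F y₀ N₀) (hM₀ : M ≤ N₀) : Good F N₀ j := by
  have hjy0 : j * y₀ = y₀ * j := hjE y₀ ((le_sup_left : Y ≤ Y ⊔ V) hy₀)
  rcases S.fam.pump hN₀ j (S.gg j hjE) jj j1 hjy0 (hJ y₀ hy₀ hy01 N₀ (S.fam.comp hN₀) hM₀) with h | ⟨J, hB⟩
  · exact h
  exfalso
  obtain ⟨a, ha, b, hb, ha1, hb1, hab⟩ := exists_gens S.ycard
  obtain ⟨y₁, hy₁, hy11, hne⟩ : ∃ y₁ ∈ Y, y₁ ≠ 1 ∧ y₁ ≠ y₀ := by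
    by_cases h : a = y₀
    · exact ⟨b, hb, hb1, fun h' => hab (h.trans h'.symm)⟩
    · exact ⟨a, ha, ha1, h⟩
  have h1 := S.bad_swap jj j1 hjE hJ hy₀ hy01 hN₀ hM₀ hB hy₁ hy11
  have h2 := S.bad_swap jj j1 hjE hJ hy₀ hy01 hN₀ hM₀ hB (mul_mem hy₀ hy₁) (by
    intro h
    apply hne
    have h3 := S.ysq y₀ hy₀
    calc y₁ = (y₀ * y₀) * y₁ := by rw [h3, one_mul]
      _ = y₀ * (y₀ * y₁) := by group
      _ = y₀ := by rw [h, mul_one])
  rw [cj_mul] at h2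
  have h3 := cj_injective _ h2
  rw [h1] at h3
  exact hB.ne h3

/-- **(1)**, (*) for `j` -/
theorem star_j {j : G} (jj : j * j = 1) (j1 : j ≠ 1) (hjE : ∀ e ∈ Y ⊔ V, j * e = e * j) (hJ : JY M Y j)
    {c t : G} (hc : c ∈ Y) (ht : t ∈ V) (ht1 : t ≠ 1) {I : Subgroup G}
    (hI : IsComp (centralizer ({c * t} : Set G) ⊓ centralizer ({j} : Set G)) I) {v : G} (hv : v ∈ V) :
    Fixes v I := by
  by_cases hjY' : j ∈ Y
  · exact S.toFr.star hc ht ht1 hjY' j1 hI hv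
  have hjY : ∀ y ∈ Y, j * y = y * j := fun y hy => hjE y ((le_sup_left : Y ≤ Y ⊔ V) hy)
  have hjV : ∀ p ∈ V, j * p = p * j := fun y hy => hjE y ((le_sup_right : V ≤ Y ⊔ V) hy)
  obtain ⟨a, ha, -, -, ha1, -, -⟩ := exists_gens S.ycard
  obtain ⟨y₀, hy₀, hy01, hcy⟩ : ∃ y₀ ∈ Y, y₀ ≠ 1 ∧ (c = 1 ∨ c = y₀) := by
    by_cases h : c = 1
    · exact ⟨a, ha, ha1, Or.inl h⟩
    · exact ⟨c, hc, h, Or.inr rfl⟩
  obtain ⟨N₀, hN₀, hM₀, -⟩ := S.famY y₀ hy₀ hy01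
  have hyy0 := S.ysq y₀ hy₀
  have k0 := S.fam.comp hN₀
  have hjy0 := hjY y₀ hy₀
  have f0 := hJ y₀ hy₀ hy01 N₀ k0 hM₀
  have hjne : j ≠ y₀ := fun h => hjY' (h ▸ hy₀)
  have h4 := four_of hyy0 jj hjy0.symm hy01 j1 hjne
  have hy₀' : y₀ ∈ jn j (zpowers y₀) := le_jn _ _ (mem_zpowers y₀)
  have hj' : j ∈ jn j (zpowers y₀) := self_mem_jn _ _
  have hcen : ∀ m ∈ cen N₀ j, y₀ * m = m * y₀ ∧ j * m = m * j := fun m hm =>
    ⟨(comm_c (k0.le (cen_le _ _ hm))).symm, (comm_of_mem_cen hm).symm⟩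
  -- `y₀ j`
  have jj' : y₀ * j * (y₀ * j) = 1 := h4.elem _ (mul_mem hy₀' hj')
  have j1'' : y₀ * j ≠ 1 := by
    intro h
    apply hjne
    calc j = (y₀ * y₀) * j := by rw [hyy0, one_mul]
      _ = y₀ * (y₀ * j) := by group
      _ = y₀ := by rw [h, mul_one]
  have hjE' : ∀ e ∈ Y ⊔ V, y₀ * j * e = e * (y₀ * j) := by
    intro e he
    rw [mul_assoc, hjE e he, ← mul_assoc, S.toFr.E_comm ((le_sup_left : Y ≤ Y ⊔ V) hy₀) he, mul_assoc]
  have hJ' : JY M Y (y₀ * j) := fun y hy hy1 N hN hM =>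
    fixes_mul (S.fY hy hy1 hy₀ hN hM) (hJ y hy hy1 N hN hM)
  have hceq : cen N₀ (y₀ * j) = cen N₀ j := by
    have key : ∀ m ∈ N₀, (m ∈ centralizer ({y₀ * j} : Set G) ↔ m ∈ centralizer ({j} : Set G)) := by
      intro m hm
      have h1 : m * y₀ = y₀ * m := comm_c (k0.le hm)
      constructor
      · intro h2
        have h3 := comm_c h2
        refine mem_c ?_
        have h5 : y₀ * (m * j) = y₀ * (j * m) := by
          rw [← mul_assoc, ← h1, mul_assoc, h3, mul_assoc]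
        exact mul_left_cancel h5
      · intro h2
        have h3 := comm_c h2
        refine mem_c ?_
        rw [← mul_assoc, h1, mul_assoc, h3, mul_assoc]
    apply le_antisymm
    · exact PComponents.pElem_mono (le_inf inf_le_left fun m hm => (key m hm.1).mp hm.2)
    · exact PComponents.pElem_mono (le_inf inf_le_left fun m hm => (key m hm.1).mpr hm.2)
  obtain ⟨J, hJF, hJs⟩ := S.good jj j1 hjE hJ hy₀ hy01 hN₀ hM₀
  obtain ⟨J', hJF', hJs'⟩ := S.good jj' j1'' hjE' hJ' hy₀ hy01 hN₀ hM₀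
  rw [hceq] at hJs'
  have Y' : YF (cen N₀ j) (jn j (zpowers y₀)) := by
    refine ⟨h4.elem, h4.card, ?_, ?_⟩
    · intro z hz m hm
      obtain ⟨e1, e2⟩ := hcen m hm
      rcases h4.mem_cases hy₀' hj' hy01 j1 hjne hz with rfl | rfl | rfl | rfl
      · rw [one_mul, mul_one]
      · exact e1
      · exact e2
      · rw [mul_assoc, e2, ← mul_assoc, e1, mul_assoc]
    · intro z hz hz1
      rcases h4.mem_cases hy₀' hj' hy01 j1 hjne hz with rfl | rfl | rfl | rfl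
      · exact absurd rfl hz1
      · exact ⟨N₀, k0, cen_le _ _, sup_cen' k0 jj hjy0 f0, S.gt _ _ hN₀⟩
      · exact ⟨J, S.fam.comp hJF, by rw [← hJs]; exact le_sup_left, hJs, S.gt _ _ hJF⟩
      · exact ⟨J', S.fam.comp hJF', by rw [← hJs']; exact le_sup_left, hJs', S.gt _ _ hJF'⟩
  have hVc : V ≤ cen N₀ j := le_cen S.psq (S.pm.trans hM₀) fun p hp => (hjV p hp).symm
  refine Y'.star (hVc ht) (S.psq t ht) ht1 ?_ hj' j1 hI (hVc hv) (comm_of_sq S.psq hv ht)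
  rcases hcy with rfl | rfl
  · exact one_mem _
  · exact hy₀'

end Sit

end Cfsg.Agent.UGT.A7.M1.Cfg7
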