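import Cfsg.Agent.StdAlt.Roots

/-!
# Elements of odd order of `S₇` commuting with a four-group

* `main`: `σ ≠ 1` of odd order commuting with the four-group `{1, a, b, a b}`: some element of the four-group is a
  transposition, or `a`, `b`, `a b` have a common support of four points.
-/

set_option autoImplicit false

open Equiv Equiv.Perm

namespace Cfsg.Agent.UGT.A7.M1.OddFix

variable {α : Type*} {σ a b : Perm α}

theorem fix_of_sq_of_odd {ρ : Perm α} {n : ℕ} (hn : Odd n) (hρ : ρ ^ n = 1) {i : α}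
    (h : ρ (ρ i) = i) : ρ i = i := by
  obtain ⟨k, rfl⟩ := hn
  have h1 : ∀ m : ℕ, (ρ ^ (2 * m)) i = i := by
    intro m
    induction m with
    | zero => simp
    | succ m ih =>
      rw [show 2 * (m + 1) = 2 * m + 2 by ring, pow_add, Perm.mul_apply, pow_two, Perm.mul_apply, h, ih]
  have h2 := congrArg (fun g : Perm α => g i) hρ
  simp only [Perm.one_apply] at h2
  rw [show 2 * k + 1 = 1 + 2 * k by ring, pow_add, Perm.mul_apply, h1, pow_one] at h2
  exact h2

theorem zpow_odd {n : ℕ} (hσ : σ ^ n = 1) (k : ℤ) : (σ ^ k) ^ n = 1 := by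
  rw [← zpow_natCast, ← zpow_mul, mul_comm, zpow_mul, zpow_natCast, hσ, one_zpow]

/-- an involution commuting with `σ` fixes the points whose `σ`-cycle it preserves -/
theorem fix_of_sameCycle {n : ℕ} (hn : Odd n) (hσ : σ ^ n = 1) (haa : a * a = 1) (hc : a * σ = σ * a)
    {i : α} (h : SameCycle σ i (a i)) : a i = i := by
  obtain ⟨k, hk⟩ := h
  have hck : a * σ ^ k = σ ^ k * a := (Commute.zpow_right (show Commute a σ from hc) k).eq
  rw [← hk]
  refine fix_of_sq_of_odd hn (zpow_odd hσ k) ?_
  have h1 : a ((σ ^ k) i) = (σ ^ k) (a i) := congrArg (fun g : Perm α => g i) hck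
  calc (σ ^ k) ((σ ^ k) i) = (σ ^ k) (a i) := by rw [hk]
    _ = a ((σ ^ k) i) := h1.symm
    _ = a (a i) := by rw [hk]
    _ = i := congrArg (fun g : Perm α => g i) haa

/-- three points of the cycle of a moved point -/
theorem pow_ne {n : ℕ} (hn : Odd n) (hσ : σ ^ n = 1) {i : α} (hi : σ i ≠ i) :
    ∀ k l : Fin 3, (σ ^ (k : ℕ)) i = (σ ^ (l : ℕ)) i → k = l := by
  have h2 : (σ ^ 2) i ≠ i := fun h => hi (fix_of_sq_of_odd hn hσ (by rwa [pow_two] at h))
  have h3 : (σ ^ 2) i ≠ σ i := by
    intro h
    rw [pow_two, Perm.mul_apply] at h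
    exact hi (σ.injective h)
  intro k l h
  fin_cases k <;> fin_cases l
  · rfl
  · exact absurd h.symm (by simpa using hi)
  · exact absurd h.symm (by simpa using h2)
  · exact absurd h (by simpa using hi)
  · rfl
  · exact absurd h.symm (by simpa using h3)
  · exact absurd h (by simpa using h2)
  · exact absurd h (by simpa using h3)
  · rfl

/-- the points `σ^k (f p)` are different -/
theorem inj {n : ℕ} (hn : Odd n) (hσ : σ ^ n = 1) {m : ℕ} {f : Fin m → α} (hf : ∀ p, σ (f p) ≠ f p)
    (hd : ∀ p q, p ≠ q → ¬ SameCycle σ (f p) (f q)) :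
    Function.Injective fun x : Fin m × Fin 3 => (σ ^ (x.2 : ℕ)) (f x.1) := by
  rintro ⟨p, k⟩ ⟨q, l⟩ h
  simp only at h
  by_cases hpq : p = q
  · subst hpq
    rw [pow_ne hn hσ (hf p) k l h]
  · exfalso
    apply hd p q hpq
    have h1 : SameCycle σ (f p) ((σ ^ (k : ℕ)) (f p)) := ⟨k, by rw [zpow_natCast]⟩
    have h2 : SameCycle σ (f q) ((σ ^ (l : ℕ)) (f q)) := ⟨l, by rw [zpow_natCast]⟩
    rw [h] at h1
    exact h1.trans h2.symm

variable {σ a b : Perm (Fin 7)}

/-- a permutation of seven points fixing six points is the identity -/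
theorem eq_one_of_six {g : Perm (Fin 7)} {f : Fin 2 × Fin 3 → Fin 7} (hf : Function.Injective f)
    (h : ∀ x, g (f x) = f x) : g = 1 := by
  rw [← card_support_le_one]
  have h1 : g.support ⊆ Finset.univ \ (Finset.univ.map ⟨f, hf⟩) := by
    intro x hx
    rw [Finset.mem_sdiff]
    refine ⟨Finset.mem_univ _, fun h2 => ?_⟩
    obtain ⟨y, -, rfl⟩ := Finset.mem_map.mp h2
    exact (mem_support.mp hx) (h y)
  refine (Finset.card_le_card h1).trans ?_
  rw [Finset.card_sdiff_of_subset (Finset.subset_univ _), Finset.card_map]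
  simp

/-- **Claim 1** -/
theorem fix_of_moved {n : ℕ} (hn : Odd n) (hσ : σ ^ n = 1) (haa : a * a = 1) (hbb : b * b = 1)
    (hab : a * b = b * a) (hac : a * σ = σ * a) (hbc : b * σ = σ * b) (hb1 : b ≠ 1)
    (hab1 : a * b ≠ 1) {i : Fin 7} (hi : σ i ≠ i) : a i = i := by
  by_contra hai
  have hmv : ∀ {g : Perm (Fin 7)}, g * σ = σ * g → σ (g i) ≠ g i := by
    intro g hg h
    apply hi
    apply g.injective
    rw [← h]
    exact congrArg (fun g : Perm (Fin 7) => g i) hg
  have hnc : ¬ SameCycle σ i (a i) := fun h => hai (fix_of_sameCycle hn hσ haa hac h)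
  -- the six points
  have hinj := inj (f := ![i, a i]) hn hσ (by
    intro p; fin_cases p
    · exact hi
    · exact hmv hac) (by
    intro p q hpq
    fin_cases p <;> fin_cases q
    · exact absurd rfl hpq
    · exact hnc
    · exact fun h => hnc h.symm
    · exact absurd rfl hpq)
  have hpw : ∀ {g : Perm (Fin 7)}, g * σ = σ * g → g * a = a * g → g i = i →
      ∀ x : Fin 2 × Fin 3, g ((σ ^ (x.2 : ℕ)) (![i, a i] x.1)) = (σ ^ (x.2 : ℕ)) (![i, a i] x.1) := by
    rintro g hg hga hgi ⟨p, k⟩
    have hck : g * σ ^ (k : ℕ) = σ ^ (k : ℕ) * g := (Commute.pow_right (show Commute g σ from hg) k).eq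
    have h1 : ∀ j, g ((σ ^ (k : ℕ)) j) = (σ ^ (k : ℕ)) (g j) := fun j =>
      congrArg (fun g : Perm (Fin 7) => g j) hck
    rw [h1]
    congr 1
    fin_cases p
    · exact hgi
    · show g (a i) = a i
      have : g (a i) = a (g i) := congrArg (fun g : Perm (Fin 7) => g i) hga
      rw [this, hgi]
  -- `b i` is in one of the two cycles
  by_cases hbi : b i = i
  · exact hb1 (eq_one_of_six hinj (hpw hbc hab.symm hbi))
  have hnb : ¬ SameCycle σ i (b i) := fun h => hbi (fix_of_sameCycle hn hσ hbb hbc h)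
  have habb : (a * b) * (a * b) = 1 := by
    calc (a * b) * (a * b) = a * (b * a) * b := by group
      _ = (a * a) * (b * b) := by rw [← hab]; group
      _ = 1 := by rw [haa, hbb, one_mul]
  have habc : (a * b) * σ = σ * (a * b) := by
    rw [mul_assoc, hbc, ← mul_assoc, hac, mul_assoc]
  by_cases h3 : SameCycle σ (a i) (b i)
  · -- `a b` fixes `i`
    obtain ⟨k, hk⟩ := h3
    have hck : a * σ ^ k = σ ^ k * a := (Commute.zpow_right (show Commute a σ from hac) k).eq
    have h4 : (a * b) i = i := by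
      refine fix_of_sameCycle hn hσ habb habc ⟨k, ?_⟩
      rw [Perm.mul_apply, ← hk]
      have h5 : a ((σ ^ k) (a i)) = (σ ^ k) (a (a i)) := congrArg (fun g : Perm (Fin 7) => g (a i)) hck
      have h6 : a (a i) = i := congrArg (fun g : Perm (Fin 7) => g i) haa
      rw [h5, h6]
    refine hab1 (eq_one_of_six hinj (hpw habc ?_ h4))
    rw [mul_assoc, ← hab]
  · have h9 := inj (f := ![i, a i, b i]) hn hσ (by
      intro p; fin_cases p
      · exact hi
      · exact hmv hac
      · exact hmv hbc) (by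
      intro p q hpq
      fin_cases p <;> fin_cases q
      · exact absurd rfl hpq
      · exact hnc
      · exact hnb
      · exact fun h => hnc h.symm
      · exact absurd rfl hpq
      · exact h3
      · exact fun h => hnb h.symm
      · exact fun h => h3 h.symm
      · exact absurd rfl hpq)
    have h10 := Fintype.card_le_of_injective _ h9
    simp at h10

/-- the support of an involution has an even number of points -/
theorem even_support (haa : a * a = 1) : Even a.support.card := by
  have h1 := Equiv.Perm.two_dvd_card_support (σ := a) (by rw [pow_two, haa])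
  exact even_iff_two_dvd.mpr h1

theorem three_le_support {n : ℕ} (hn : Odd n) (hσ : σ ^ n = 1) (hσ1 : σ ≠ 1) : 3 ≤ σ.support.card := by
  obtain ⟨i, hi⟩ : ∃ i, σ i ≠ i := by
    by_contra hcon
    push Not at hcon
    exact hσ1 (Equiv.ext hcon)
  have hsub : (Finset.univ.map ⟨fun k : Fin 3 => (σ ^ (k : ℕ)) i, fun k l h => pow_ne hn hσ hi k l h⟩) ⊆
      σ.support := by
    intro x hx
    obtain ⟨k, -, rfl⟩ := Finset.mem_map.mp hx
    rw [mem_support]
    intro h
    apply hi
    apply (σ ^ (k : ℕ)).injective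
    have : σ ((σ ^ (k : ℕ)) i) = (σ ^ (k : ℕ)) (σ i) := by
      rw [← Perm.mul_apply, ← Perm.mul_apply, ← pow_succ', ← pow_succ]
    rw [← this]
    exact h
  have := Finset.card_le_card hsub
  rwa [Finset.card_map, Finset.card_univ, Fintype.card_fin] at this

/-- **elements of odd order commuting with a four-group** -/
theorem main {n : ℕ} (hn : Odd n) (hσ : σ ^ n = 1) (hσ1 : σ ≠ 1) (haa : a * a = 1) (hbb : b * b = 1)
    (hab : a * b = b * a) (hac : a * σ = σ * a) (hbc : b * σ = σ * b) (ha1 : a ≠ 1) (hb1 : b ≠ 1)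
    (hab1 : a * b ≠ 1) (hat : a.support.card ≠ 2) (hbt : b.support.card ≠ 2)
    (habt : (a * b).support.card ≠ 2) :
    ∃ T : Finset (Fin 7), T.card = 4 ∧ a.support = T ∧ b.support = T ∧ (a * b).support = T ∧
      σ.support = Finset.univ \ T := by
  have habb : (a * b) * (a * b) = 1 := by
    calc (a * b) * (a * b) = a * (b * a) * b := by group
      _ = (a * a) * (b * b) := by rw [← hab]; group
      _ = 1 := by rw [haa, hbb, one_mul]
  have h3 := three_le_support hn hσ hσ1
  have h4 : (Finset.univ \ σ.support).card ≤ 4 := by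
    rw [Finset.card_sdiff_of_subset (Finset.subset_univ _), Finset.card_univ, Fintype.card_fin]
    omega
  have key : ∀ g : Perm (Fin 7), g * g = 1 → g ≠ 1 → g.support.card ≠ 2 → (∀ i, σ i ≠ i → g i = i) →
      g.support = Finset.univ \ σ.support ∧ g.support.card = 4 := by
    intro g hgg hg1 hg2 hg
    have h5 : g.support ⊆ Finset.univ \ σ.support := by
      intro x hx
      rw [Finset.mem_sdiff]
      exact ⟨Finset.mem_univ _, fun h => (mem_support.mp hx) (hg x (mem_support.mp h))⟩
    have h6 := Finset.card_le_card h5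
    have h7 := even_support hgg
    have h8 : g.support.card ≠ 0 := fun h => hg1 (card_support_eq_zero.mp h)
    obtain ⟨m, hm⟩ := h7
    have h9 : g.support.card = 4 := by omega
    exact ⟨Finset.eq_of_subset_of_card_le h5 (by omega), h9⟩
  obtain ⟨e1, c1⟩ := key a haa ha1 hat fun i hi => fix_of_moved hn hσ haa hbb hab hac hbc hb1 hab1 hi
  obtain ⟨e2, -⟩ := key b hbb hb1 hbt fun i hi => fix_of_moved hn hσ hbb haa hab.symm hbc hac ha1
    (by rwa [← hab]) hi
  obtain ⟨e3, -⟩ := key (a * b) habb hab1 habt fun i hi => by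
    rw [Perm.mul_apply, fix_of_moved hn hσ hbb haa hab.symm hbc hac ha1 (by rwa [← hab]) hi,
      fix_of_moved hn hσ haa hbb hab hac hbc hb1 hab1 hi]
  refine ⟨_, e1 ▸ c1, e1, e2, e3, ?_⟩
  rw [Finset.sdiff_sdiff_eq_self (Finset.subset_univ _)]

end Cfsg.Agent.UGT.A7.M1.OddFix
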