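import Cfsg.Agent.UGT.L2Inner.Bad7
import Cfsg.Agent.UGT.A7.M1.OddFix

/-!
# Permutations commuting with a regular four-group on four of seven points

* `VT` : the subgroup `V₄ × ⟨ta⟩`;
* `perm_dich` : `a`, `b` generate a four-group with support `T`, `|T| = 4`; an involution `r` commuting with `a`, `b`
  is `1`, `a`, `b`, `a b` or conjugate to an element of `V₄ ta` (with `a ↦ b1`, `b ↦ b2`).
-/

set_option autoImplicit false

open Equiv Equiv.Perm
open Cfsg.Agent.UGT.L2Inner

namespace Cfsg.Agent.UGT.A7.M1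

theorem isV_mul {σ τ : P7} (hσ : IsV σ) (hτ : IsV τ) : IsV (σ * τ) := by
  rcases hσ with rfl | rfl | rfl | rfl <;> rcases hτ with rfl | rfl | rfl | rfl <;>
    unfold IsV b1 b2 b3 <;> decide

theorem isV_inv {σ : P7} (hσ : IsV σ) : σ⁻¹ = σ := by
  rcases hσ with rfl | rfl | rfl | rfl <;> decide

theorem isV_ta {σ : P7} (hσ : IsV σ) : σ * ta = ta * σ := by
  rcases hσ with rfl | rfl | rfl | rfl <;> decide

theorem ta_ta : ta * ta = 1 := by decide

/-- `V₄ × ⟨ta⟩` -/
def VT : Subgroup P7 where
  carrier := {σ | IsV σ ∨ IsV (σ * ta)}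
  one_mem' := Or.inl (Or.inl rfl)
  mul_mem' := by
    rintro σ τ hσ hτ
    rcases hσ with hσ | hσ <;> rcases hτ with hτ | hτ
    · exact Or.inl (isV_mul hσ hτ)
    · exact Or.inr (by rw [mul_assoc]; exact isV_mul hσ hτ)
    · right
      have h1 : σ * τ * ta = (σ * ta) * τ := by rw [mul_assoc, isV_ta hτ, ← mul_assoc]
      rw [h1]
      exact isV_mul hσ hτ
    · left
      have h1 : σ * τ = (σ * ta) * (τ * ta) := by
        have h2 := isV_ta hτ
        calc σ * τ = σ * (τ * (ta * ta)) := by rw [ta_ta, mul_one]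
          _ = σ * ((τ * ta) * ta) := by group
          _ = σ * (ta * (τ * ta)) := by rw [h2]
          _ = _ := by group
      rw [h1]
      exact isV_mul hσ hτ
  inv_mem' := by
    rintro σ (hσ | hσ)
    · left
      rw [isV_inv hσ]; exact hσ
    · right
      have h1 := isV_inv hσ
      rw [mul_inv_rev] at h1
      have h2 : σ⁻¹ * ta = σ * ta := by
        have h3 := isV_ta hσ
        calc σ⁻¹ * ta = (ta * ta) * σ⁻¹ * ta := by rw [ta_ta, one_mul]
          _ = ta * (ta⁻¹ * σ⁻¹) * ta := by
            rw [show ta⁻¹ = ta by decide]; group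
          _ = ta * (σ * ta) * ta := by rw [h1]
          _ = (σ * ta) * ta * ta := by rw [← h3]
          _ = σ * ta := by rw [mul_assoc, ta_ta, mul_one]
      rw [h2]
      exact hσ

theorem mem_VT {σ : P7} : σ ∈ VT ↔ IsV σ ∨ IsV (σ * ta) := Iff.rfl

theorem app {a b : P7} (h : a = b) (i : Fin 7) : a i = b i := congrArg (fun g : P7 => g i) h

theorem perm_dich {a b r : P7} {T : Finset (Fin 7)} (hT : T.card = 4) (haa : a * a = 1) (hbb : b * b = 1)
    (hab : a * b = b * a) (ha : a.support = T) (hb : b.support = T) (hc : (a * b).support = T)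
    (hrr : r * r = 1) (har : a * r = r * a) (hbr : b * r = r * b) :
    (r = 1 ∨ r = a ∨ r = b ∨ r = a * b) ∨
      ∃ h : P7, a * h = h * b1 ∧ b * h = h * b2 ∧ ∃ v, IsV v ∧ r * h = h * (v * ta) := by
  obtain ⟨x, hx⟩ : ∃ x, x ∈ T := Finset.card_pos.mp (by omega)
  have mv : ∀ {g : P7}, g.support = T → ∀ {i : Fin 7}, i ∈ T → g i ≠ i := fun hg i hi =>
    mem_support.mp (by rw [hg]; exact hi)
  have fx : ∀ {g : P7}, g.support = T → ∀ {i : Fin 7}, i ∉ T → g i = i := fun hg i hi =>
    notMem_support.mp (by rw [hg]; exact hi)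
  have st : ∀ {g : P7}, g.support = T → ∀ {i : Fin 7}, i ∈ T → g i ∈ T := by
    intro g hg i hi
    rw [← hg] at hi ⊢
    exact apply_mem_support.mpr hi
  have haa' : ∀ i, a (a i) = i := fun i => app haa i
  have hbb' : ∀ i, b (b i) = i := fun i => app hbb i
  have hab' : ∀ i, b (a i) = a (b i) := fun i => (app hab i).symm
  have har' : ∀ i, r (a i) = a (r i) := fun i => (app har i).symm
  have hbr' : ∀ i, r (b i) = b (r i) := fun i => (app hbr i).symm
  have hrr' : ∀ i, r (r i) = i := fun i => app hrr i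
  have e1 := mv ha hx
  have e2 := mv hb hx
  have e3 : a (b x) ≠ x := mv hc hx
  have e4 : a x ≠ b x := fun h => e3 (by rw [← h, haa'])
  have e5 : a x ≠ a (b x) := fun h => e2 (a.injective h).symm
  have e6 : b x ≠ a (b x) := fun h => e1 (by
    have := congrArg b h
    rw [hbb', hab', hbb'] at this
    exact this.symm)
  have hTeq : T = {x, a x, b x, a (b x)} := by
    symm
    apply Finset.eq_of_subset_of_card_le
    · intro y hy
      simp only [Finset.mem_insert, Finset.mem_singleton] at hy
      rcases hy with rfl | rfl | rfl | rfl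
      · exact hx
      · exact st ha hx
      · exact st hb hx
      · exact st ha (st hb hx)
    · rw [hT, Finset.card_insert_of_notMem, Finset.card_insert_of_notMem, Finset.card_insert_of_notMem,
        Finset.card_singleton]
      · simpa using e6
      · simp only [Finset.mem_insert, Finset.mem_singleton, not_or]
        exact ⟨e4, e5⟩
      · simp only [Finset.mem_insert, Finset.mem_singleton, not_or]
        exact ⟨e1.symm, e2.symm, e3.symm⟩
  have hmemT : ∀ i, i ∈ T ↔ i = x ∨ i = a x ∨ i = b x ∨ i = a (b x) := by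
    intro i
    rw [hTeq]; simp
  -- `r x = v x`
  have hrT : r x ∈ T := by
    rw [← ha, mem_support]
    intro h
    rw [← har'] at h
    exact e1 (r.injective h)
  obtain ⟨v, hv, hvx, hva, hvb, hvv, hvT⟩ : ∃ v : P7, (v = 1 ∨ v = a ∨ v = b ∨ v = a * b) ∧ r x = v x ∧
      a * v = v * a ∧ b * v = v * b ∧ v * v = 1 ∧ (∀ i, i ∉ T → v i = i) := by
    rcases (hmemT _).mp hrT with h | h | h | h
    · exact ⟨1, Or.inl rfl, h, by rw [one_mul, mul_one], by rw [one_mul, mul_one], one_mul 1, fun i _ => rfl⟩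
    · exact ⟨a, Or.inr (Or.inl rfl), h, rfl, hab.symm, haa, fun i hi => fx ha hi⟩
    · exact ⟨b, Or.inr (Or.inr (Or.inl rfl)), h, hab, rfl, hbb, fun i hi => fx hb hi⟩
    · refine ⟨a * b, Or.inr (Or.inr (Or.inr rfl)), h, ?_, ?_, ?_, fun i hi => fx hc hi⟩
      · rw [mul_assoc, ← hab]
      · rw [← mul_assoc, ← hab, mul_assoc]
      · calc (a * b) * (a * b) = a * (b * a) * b := by group
          _ = (a * a) * (b * b) := by rw [← hab]; group
          _ = 1 := by rw [haa, hbb, one_mul]
  have hvr : v * r = r * v := by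
    rcases hv with rfl | rfl | rfl | rfl
    · rw [one_mul, mul_one]
    · exact har
    · exact hbr
    · rw [mul_assoc, hbr, ← mul_assoc, har, mul_assoc]
  obtain ⟨τ, hτ⟩ : ∃ τ, τ = v * r := ⟨_, rfl⟩
  have hττ : τ * τ = 1 := by
    rw [hτ]
    calc (v * r) * (v * r) = v * (r * v) * r := by group
      _ = (v * v) * (r * r) := by rw [← hvr]; group
      _ = 1 := by rw [hvv, hrr, one_mul]
  have hrτ : r = v * τ := by rw [hτ, ← mul_assoc, hvv, one_mul]
  have hτa : ∀ i, τ (a i) = a (τ i) := by
    intro i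
    have h : τ * a = a * τ := by rw [hτ, mul_assoc, ← har, ← mul_assoc, ← hva, mul_assoc]
    exact app h i
  have hτb : ∀ i, τ (b i) = b (τ i) := by
    intro i
    have h : τ * b = b * τ := by rw [hτ, mul_assoc, ← hbr, ← mul_assoc, ← hvb, mul_assoc]
    exact app h i
  have hτx : τ x = x := by
    rw [hτ, Perm.mul_apply, hvx]
    exact app hvv x
  have hτT : ∀ i ∈ T, τ i = i := by
    intro i hi
    rcases (hmemT i).mp hi with rfl | rfl | rfl | rfl
    · exact hτx
    · rw [hτa, hτx]
    · rw [hτb, hτx]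
    · rw [hτa, hτb, hτx]
  by_cases hτ1 : τ = 1
  · left
    rw [hrτ, hτ1, mul_one]
    exact hv
  right
  -- the three other points
  obtain ⟨p, hp⟩ : ∃ p, τ p ≠ p := by
    by_contra hcon
    push Not at hcon
    exact hτ1 (Equiv.ext hcon)
  have hpT : p ∉ T := fun h => hp (hτT p h)
  have hττ' : ∀ i, τ (τ i) = i := fun i => app hττ i
  have hqT : τ p ∉ T := fun h => by
    have := hτT _ h
    rw [hττ'] at this
    exact hp this.symm
  obtain ⟨m, hm⟩ : ∃ m, m ∉ T ∪ {p, τ p} := by
    by_contra hcon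
    push Not at hcon
    have h1 : (Finset.univ : Finset (Fin 7)) ⊆ T ∪ {p, τ p} := fun i _ => hcon i
    have h2 := Finset.card_le_card h1
    have h3 := Finset.card_union_le T {p, τ p}
    have h4 := Finset.card_le_two (a := p) (b := τ p)
    rw [Finset.card_univ, Fintype.card_fin] at h2
    omega
  simp only [Finset.mem_union, Finset.mem_insert, Finset.mem_singleton, not_or] at hm
  obtain ⟨hmT, hmp, hmq⟩ := hm
  have hinj : Function.Injective ![x, a x, b x, a (b x), p, τ p, m] := by
    have hT' : ∀ i, i ∉ T → i ≠ x ∧ i ≠ a x ∧ i ≠ b x ∧ i ≠ a (b x) := by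
      intro i hi
      rw [hmemT] at hi
      push Not at hi
      exact hi
    obtain ⟨p1, p2, p3, p4⟩ := hT' p hpT
    obtain ⟨q1, q2, q3, q4⟩ := hT' _ hqT
    obtain ⟨m1, m2, m3, m4⟩ := hT' m hmT
    intro i j hij
    fin_cases i <;> fin_cases j <;> first | rfl | (exfalso; simp at hij; first
      | exact e1 hij | exact e1 hij.symm | exact e2 hij | exact e2 hij.symm | exact e3 hij | exact e3 hij.symm
      | exact e4 hij | exact e4 hij.symm | exact e5 hij | exact e5 hij.symm | exact e6 hij | exact e6 hij.symm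
      | exact p1 hij | exact p1 hij.symm | exact p2 hij | exact p2 hij.symm | exact p3 hij | exact p3 hij.symm
      | exact p4 hij | exact p4 hij.symm | exact q1 hij | exact q1 hij.symm | exact q2 hij | exact q2 hij.symm
      | exact q3 hij | exact q3 hij.symm | exact q4 hij | exact q4 hij.symm | exact m1 hij | exact m1 hij.symm
      | exact m2 hij | exact m2 hij.symm | exact m3 hij | exact m3 hij.symm | exact m4 hij | exact m4 hij.symm
      | exact hp hij | exact hp hij.symm | exact hmp hij | exact hmp hij.symm | exact hmq hij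
      | exact hmq hij.symm)
  obtain ⟨h, hh⟩ : ∃ h : P7, ∀ i, h i = ![x, a x, b x, a (b x), p, τ p, m] i :=
    ⟨Equiv.ofBijective _ (Finite.injective_iff_bijective.mp hinj), fun i => rfl⟩
  have h0 : h 0 = x := hh 0
  have h1 : h 1 = a x := hh 1
  have h2 : h 2 = b x := hh 2
  have h3 : h 3 = a (b x) := hh 3
  have h4 : h 4 = p := hh 4
  have h5 : h 5 = τ p := hh 5
  have h6 : h 6 = m := hh 6
  have hτm : τ m = m := by
    obtain ⟨j, hj⟩ := h.surjective (τ m)
    have hTm : τ m ∉ T := fun hc => by
      have := hτT _ hc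
      rw [hττ'] at this
      rw [← this] at hc
      exact hmT hc
    rw [hmemT] at hTm
    push Not at hTm
    obtain ⟨t1, t2, t3, t4⟩ := hTm
    fin_cases j
    · exact absurd (hj.symm.trans h0) t1
    · exact absurd (hj.symm.trans h1) t2
    · exact absurd (hj.symm.trans h2) t3
    · exact absurd (hj.symm.trans h3) t4
    · have e : τ m = p := hj.symm.trans h4
      exact absurd (by rw [← e, hττ']) hmq
    · have e : τ m = τ p := hj.symm.trans h5
      exact absurd (τ.injective e) hmp
    · exact hj.symm.trans h6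
  have ka : a * h = h * b1 := by
    ext i
    congr 1
    rw [Perm.mul_apply, Perm.mul_apply]
    fin_cases i
    · show a (h 0) = h (b1 0)
      rw [show b1 0 = 1 by decide, h0, h1]
    · show a (h 1) = h (b1 1)
      rw [show b1 1 = 0 by decide, h0, h1, haa']
    · show a (h 2) = h (b1 2)
      rw [show b1 2 = 3 by decide, h2, h3]
    · show a (h 3) = h (b1 3)
      rw [show b1 3 = 2 by decide, h2, h3, haa']
    · show a (h 4) = h (b1 4)
      rw [show b1 4 = 4 by decide, h4]; exact fx ha hpT
    · show a (h 5) = h (b1 5)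
      rw [show b1 5 = 5 by decide, h5]; exact fx ha hqT
    · show a (h 6) = h (b1 6)
      rw [show b1 6 = 6 by decide, h6]; exact fx ha hmT
  have kb : b * h = h * b2 := by
    ext i
    congr 1
    rw [Perm.mul_apply, Perm.mul_apply]
    fin_cases i
    · show b (h 0) = h (b2 0)
      rw [show b2 0 = 2 by decide, h0, h2]
    · show b (h 1) = h (b2 1)
      rw [show b2 1 = 3 by decide, h1, h3, hab']
    · show b (h 2) = h (b2 2)
      rw [show b2 2 = 0 by decide, h2, h0, hbb']
    · show b (h 3) = h (b2 3)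
      rw [show b2 3 = 1 by decide, h3, h1, hab', hbb']
    · show b (h 4) = h (b2 4)
      rw [show b2 4 = 4 by decide, h4]; exact fx hb hpT
    · show b (h 5) = h (b2 5)
      rw [show b2 5 = 5 by decide, h5]; exact fx hb hqT
    · show b (h 6) = h (b2 6)
      rw [show b2 6 = 6 by decide, h6]; exact fx hb hmT
  have kt : τ * h = h * ta := by
    ext i
    congr 1
    rw [Perm.mul_apply, Perm.mul_apply]
    fin_cases i
    · show τ (h 0) = h (ta 0)
      rw [show ta 0 = 0 by decide, h0, hτx]
    · show τ (h 1) = h (ta 1)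
      rw [show ta 1 = 1 by decide, h1, hτa, hτx]
    · show τ (h 2) = h (ta 2)
      rw [show ta 2 = 2 by decide, h2, hτb, hτx]
    · show τ (h 3) = h (ta 3)
      rw [show ta 3 = 3 by decide, h3, hτa, hτb, hτx]
    · show τ (h 4) = h (ta 4)
      rw [show ta 4 = 5 by decide, h4, h5]
    · show τ (h 5) = h (ta 5)
      rw [show ta 5 = 4 by decide, h4, h5, hττ']
    · show τ (h 6) = h (ta 6)
      rw [show ta 6 = 6 by decide, h6, hτm]
  refine ⟨h, ka, kb, ?_⟩
  have fin : ∀ v' : P7, IsV v' → v * h = h * v' → ∃ v, IsV v ∧ r * h = h * (v * ta) := by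
    intro v' hv' hvh
    refine ⟨v', hv', ?_⟩
    calc r * h = v * (τ * h) := by rw [hrτ]; group
      _ = v * (h * ta) := by rw [kt]
      _ = (v * h) * ta := by group
      _ = h * (v' * ta) := by rw [hvh]; group
  rcases hv with rfl | rfl | rfl | rfl
  · exact fin 1 (Or.inl rfl) (by rw [one_mul, mul_one])
  · exact fin b1 (Or.inr (Or.inl rfl)) ka
  · exact fin b2 (Or.inr (Or.inr (Or.inl rfl))) kb
  · refine fin (b1 * b2) (isV_mul (Or.inr (Or.inl rfl)) (Or.inr (Or.inr (Or.inl rfl)))) ?_
    calc a * b * h = a * (b * h) := by group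
      _ = (a * h) * b2 := by rw [kb]; group
      _ = h * (b1 * b2) := by rw [ka]; group

end Cfsg.Agent.UGT.A7.M1
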