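import Cfsg.Agent.UGT.A7.M1.CfgBase
import Cfsg.Agent.UGT.A7.M1.PermDich

/-!
# The bad configuration (bb #12930), generic type: the kernel and (1)

`Cx`: the setting `Sit` with a bad `A₇` (`Bad7`), `w = c t`, `c ∈ Y`, `t ∈ V#`.

* `Cx.ker`: the elements of `E = Y V` acting trivially on `K / O(K)` are `1`, `w`.
* `Cx.one`: an involution `j` of `C(E)` fixing all `L_y` normalizes `K` and acts nontrivially; if `φ j = ta`, then
  `φ v ∈ {1, ta}` for all `v ∈ V`.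
-/

set_option autoImplicit false
set_option linter.unusedSectionVars false

open Cfsg Subgroup Equiv Equiv.Perm
open Cfsg.Agent.SignalizersComponents Cfsg.Agent.Lib
open Cfsg.Agent.SignalizersComponents.IntrinsicBasic
open Cfsg.Agent.SignalizersComponents.PLayerAut
open Cfsg.Agent.Intrinsic.Basic Cfsg.Agent.Intrinsic.Cen Cfsg.Agent.Intrinsic.Diag
open Cfsg.Agent.McLLyComp.Act
open Cfsg.Agent.UAlt
open Cfsg.Agent.UGT.Triple (IsTriple)
open Cfsg.Agent.UGT.TriBase Cfsg.Agent.UGT.TMCBase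
open Cfsg.Agent.UGT.L2Inner
open scoped commutatorElement

namespace Cfsg.Agent.UGT.A7.M1.Cfg7

universe u

/-! ### permutations -/

theorem coe_VT : (VT : Set P7) = (({1, b1, b2, b3, ta, b1 * ta, b2 * ta, b3 * ta} : Finset P7) : Set P7) := by
  ext σ
  simp only [SetLike.mem_coe, mem_VT, Finset.coe_insert, Finset.coe_singleton, Set.mem_insert_iff,
    Set.mem_singleton_iff]
  have key : ∀ τ : P7, σ * ta = τ ↔ σ = τ * ta := by
    intro τ
    constructor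
    · rintro rfl
      rw [mul_assoc, ta_ta, mul_one]
    · rintro rfl
      rw [mul_assoc, ta_ta, mul_one]
  unfold IsV
  rw [key, key, key, key, one_mul]
  tauto

theorem card_VT : Nat.card ↥VT = 8 := by
  have h1 : Nat.card ↥VT = (VT : Set P7).ncard := rfl
  rw [h1, coe_VT, Set.ncard_coe_finset]
  decide

theorem mem_VT_cases {σ : P7} (h : σ ∈ VT) : σ = 1 ∨ σ = b1 ∨ σ = b2 ∨ σ = b3 ∨ σ = ta ∨ σ = b1 * ta ∨
    σ = b2 * ta ∨ σ = b3 * ta := by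
  have h1 : σ ∈ (VT : Set P7) := h
  rw [coe_VT] at h1
  simpa using h1

theorem ext7 {σ τ : P7} (h0 : σ 0 = τ 0) (h1 : σ 1 = τ 1) (h2 : σ 2 = τ 2) (h3 : σ 3 = τ 3) (h4 : σ 4 = τ 4)
    (h5 : σ 5 = τ 5) (h6 : σ 6 = τ 6) : σ = τ := by
  apply Equiv.ext
  intro i
  fin_cases i
  exacts [h0, h1, h2, h3, h4, h5, h6]

/-- `C(V₄ × ⟨ta⟩) = V₄ × ⟨ta⟩` -/
theorem mem_VT_of_comm {σ : P7} (h1 : σ * b1 = b1 * σ) (h2 : σ * b2 = b2 * σ) (ht : σ * ta = ta * σ) : σ ∈ VT := by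
  have e1 : ∀ i, σ (b1 i) = b1 (σ i) := fun i => app h1 i
  have e2 : ∀ i, σ (b2 i) = b2 (σ i) := fun i => app h2 i
  have et : ∀ i, σ (ta i) = ta (σ i) := fun i => app ht i
  have f1 : ∀ k : Fin 7, b1 k = k → k = 4 ∨ k = 5 ∨ k = 6 := by decide
  have f2 : ∀ k : Fin 7, ta k = k → k ≠ 4 ∧ k ≠ 5 := by decide
  have f3 : ∀ k : Fin 7, b1 k ≠ k → k = 0 ∨ k = 1 ∨ k = 2 ∨ k = 3 := by decide
  have s6 : σ 6 = 6 := by
    have a1 := f1 (σ 6) (by rw [← e1]; rfl)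
    have a2 := f2 (σ 6) (by rw [← et]; rfl)
    tauto
  have s4 : σ 4 = 4 ∨ σ 4 = 5 := by
    have a1 := f1 (σ 4) (by rw [← e1]; rfl)
    have a2 : σ 4 ≠ 6 := fun h => by
      have := σ.injective (h.trans s6.symm)
      exact absurd this (by decide)
    tauto
  have s5 : σ 5 = ta (σ 4) := by rw [← et]; rfl
  have s0 : σ 0 = 0 ∨ σ 0 = 1 ∨ σ 0 = 2 ∨ σ 0 = 3 := by
    apply f3
    rw [← e1]
    intro h
    exact absurd (σ.injective h) (by decide)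
  have s1 : σ 1 = b1 (σ 0) := by rw [← e1]; rfl
  have s2 : σ 2 = b2 (σ 0) := by rw [← e2]; rfl
  have s3 : σ 3 = b1 (b2 (σ 0)) := by rw [← e2, ← e1]; rfl
  have hV : ∀ τ : P7, τ ∈ VT → σ = τ → σ ∈ VT := fun τ h h' => h' ▸ h
  have m1 : IsV b1 := Or.inr (Or.inl rfl)
  have m2 : IsV b2 := Or.inr (Or.inr (Or.inl rfl))
  have m3 : IsV b3 := Or.inr (Or.inr (Or.inr rfl))
  have mt : ∀ τ, IsV τ → τ * ta ∈ VT := fun τ h => Or.inr (by rwa [mul_assoc, ta_ta, mul_one])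
  rcases s4 with s4 | s4 <;> rw [s4] at s5 <;> rcases s0 with s0 | s0 | s0 | s0 <;> rw [s0] at s1 s2 s3
  · exact hV 1 (one_mem _) (ext7 s0 s1 s2 s3 s4 s5 s6)
  · exact hV b1 (Or.inl m1) (ext7 s0 s1 s2 s3 s4 s5 s6)
  · exact hV b2 (Or.inl m2) (ext7 s0 s1 s2 s3 s4 s5 s6)
  · exact hV b3 (Or.inl m3) (ext7 s0 s1 s2 s3 s4 s5 s6)
  · exact hV (1 * ta) (mt 1 (Or.inl rfl)) (ext7 s0 s1 s2 s3 s4 s5 s6)
  · exact hV (b1 * ta) (mt b1 m1) (ext7 s0 s1 s2 s3 s4 s5 s6)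
  · exact hV (b2 * ta) (mt b2 m2) (ext7 s0 s1 s2 s3 s4 s5 s6)
  · exact hV (b3 * ta) (mt b3 m3) (ext7 s0 s1 s2 s3 s4 s5 s6)

variable {G : Type u} [Group G]

/-- the setting with a bad `A₇` -/
structure Cx (GG : Subgroup G) (F : G → Subgroup G → Prop) (M Y V : Subgroup G) (w x : G) (K : Subgroup G)
    (c t : G) (L : Lab K) : Prop extends Sit GG F M Y V where
  bad : Bad7 Y V w x K L
  cY : c ∈ Y
  tV : t ∈ V
  t1 : t ≠ 1
  wct : w = c * t

variable [Finite G] {GG : Subgroup G} {F : G → Subgroup G → Prop} {M Y V : Subgroup G} {w x : G} {K : Subgroup G}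
  {c t : G} {L : Lab K}

theorem exists_cx (S : Sit GG F M Y V) (B : Bad7 Y V w x K L) : ∃ c t, Cx GG F M Y V w x K c t L := by
  obtain ⟨c, hc, t, ht, h⟩ := S.toFr.mem_E.mp B.wE
  refine ⟨c, t, S, B, hc, ht, ?_, h⟩
  rintro rfl
  rw [mul_one] at h
  exact B.wY (h ▸ hc)

namespace Cx

variable (C : Cx GG F M Y V w x K c t L)

include C

theorem ww : w * w = 1 := C.toFr.E_sq C.bad.wE

theorem w1 : w ≠ 1 := fun h => C.bad.wY (h ▸ one_mem _)

theorem compK : IsComp (centralizer ({w} : Set G)) K := C.bad.tri.comp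

theorem eN {e : G} (he : e ∈ Y ⊔ V) : e ∈ normalizer (K : Set G) := C.bad.nrm he

theorem eX {e : G} (he : e ∈ Y ⊔ V) : e ∈ centralizer ({w} : Set G) := mem_c (C.toFr.E_comm he C.bad.wE)

theorem yE {y : G} (hy : y ∈ Y) : y ∈ Y ⊔ V := (le_sup_left : Y ≤ Y ⊔ V) hy

theorem vE {y : G} (hy : y ∈ V) : y ∈ Y ⊔ V := (le_sup_right : V ≤ Y ⊔ V) hy

theorem φw : L.φ w = 1 := (L.fixes_iff (C.eN C.bad.wE)).mpr (fixes_self' C.compK.le)

theorem φVT {e : G} (he : e ∈ Y ⊔ V) : L.φ e ∈ VT := C.bad.img e he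

theorem exists_φ {σ : P7} (hσ : σ ∈ VT) : ∃ e ∈ Y ⊔ V, L.φ e = σ := by
  rcases hσ with h | h
  · exact (C.bad.sur σ h).1
  · obtain ⟨e, he, h1⟩ := (C.bad.sur _ h).2
    refine ⟨e, he, ?_⟩
    rw [h1, mul_assoc, ta_ta, mul_one]

/-- the kernel of the action of `E` -/
theorem ker {e : G} (he : e ∈ Y ⊔ V) (h : L.φ e = 1) : e = 1 ∨ e = w := by
  let f : ↥(Y ⊔ V) →* P7 := L.hom.comp (inclusion C.bad.nrm)
  have hf : ∀ z : ↥(Y ⊔ V), f z = L.φ z := fun z => rfl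
  have hr : f.range = VT := by
    ext σ
    constructor
    · rintro ⟨z, rfl⟩
      rw [hf]
      exact C.φVT z.2
    · intro hσ
      obtain ⟨e, he, h1⟩ := C.exists_φ hσ
      exact ⟨⟨e, he⟩, h1⟩
  have h1 := Subgroup.card_eq_card_quotient_mul_card_subgroup f.ker
  rw [Nat.card_congr (QuotientGroup.quotientKerEquivRange f).toEquiv, hr, card_VT, C.toFr.E_card] at h1
  have h2 : Nat.card ↥f.ker = 2 := by omega
  by_contra hcon
  push Not at hcon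
  have hw : (⟨w, C.bad.wE⟩ : ↥(Y ⊔ V)) ∈ f.ker := by
    rw [MonoidHom.mem_ker, hf]; exact C.φw
  have he' : (⟨e, he⟩ : ↥(Y ⊔ V)) ∈ f.ker := by
    rw [MonoidHom.mem_ker, hf]; exact h
  have h3 : ({1, ⟨w, C.bad.wE⟩, ⟨e, he⟩} : Set ↥(Y ⊔ V)) ⊆ f.ker := by
    rintro z (rfl | rfl | rfl)
    exacts [one_mem _, hw, he']
  have h4 := Set.ncard_le_ncard h3 (Set.toFinite _)
  have h5 : (f.ker : Set ↥(Y ⊔ V)).ncard = 2 := h2
  have h6 : ({1, ⟨w, C.bad.wE⟩, ⟨e, he⟩} : Set ↥(Y ⊔ V)).ncard = 3 := by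
    rw [Set.ncard_insert_of_notMem, Set.ncard_insert_of_notMem, Set.ncard_singleton]
    · intro h7
      exact hcon.2 (congrArg Subtype.val (Set.mem_singleton_iff.mp h7)).symm
    · rintro (h7 | h7)
      · exact C.w1 (congrArg Subtype.val h7).symm
      · exact hcon.1 (congrArg Subtype.val h7).symm
  omega

/-- some element of `V` does not fix `K` -/
theorem not_fix : ∃ v ∈ V, ¬ Fixes v K := by
  by_contra hcon
  push Not at hcon
  obtain ⟨e, he, h1⟩ := C.exists_φ (Or.inr (Or.inl ta_ta) : ta ∈ VT)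
  obtain ⟨y, hy, v, hv, rfl⟩ := C.toFr.mem_E.mp he
  rw [L.mul _ _ (C.eN (C.yE hy)) (C.eN (C.vE hv)), (L.fixes_iff (C.eN (C.vE hv))).mpr (hcon v hv), mul_one] at h1
  exact C.bad.yt y hy h1

theorem star {j : G} (jj : j * j = 1) (j1 : j ≠ 1) (hjE : ∀ e ∈ Y ⊔ V, j * e = e * j) (hJ : JY M Y j)
    {I : Subgroup G} (hI : IsComp (centralizer ({w} : Set G) ⊓ centralizer ({j} : Set G)) I) {v : G} (hv : v ∈ V) :
    Fixes v I := by
  rw [C.wct] at hI
  exact C.toSit.star_j jj j1 hjE hJ C.cY C.tV C.t1 hI hv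

/-- **(1)** -/
theorem one {j : G} (jj : j * j = 1) (j1 : j ≠ 1) (hjE : ∀ e ∈ Y ⊔ V, j * e = e * j) (hJ : JY M Y j) :
    j ∈ normalizer (K : Set G) ∧ L.φ j ≠ 1 ∧ (L.φ j = ta → ∀ v ∈ V, L.φ v = 1 ∨ L.φ v = ta) := by
  obtain ⟨v₀, hv₀, hv₀K⟩ := C.not_fix
  have hjX : j ∈ centralizer ({w} : Set G) := mem_c (hjE w C.bad.wE)
  have hjN : j ∈ normalizer (K : Set G) := by
    by_contra hn
    have hne : cj j K ≠ K := fun h => hn (mem_normalizer_iff_cj.mpr h)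
    obtain ⟨h1, -, -, h4, -⟩ := exists_diag C.compK hjX jj hne
    have hf := C.star jj j1 hjE hJ h1 hv₀
    have hvj : v₀ * j = j * v₀ := (hjE v₀ (C.vE hv₀)).symm
    refine hv₀K (fixes_of_comm_diag C.compK hjX jj hne (C.eX (C.vE hv₀)) (C.eN (C.vE hv₀)) ?_ fun m hm => ?_)
    · rw [mem_normalizer_iff_cj, ← cj_mul, hvj, cj_mul, mem_normalizer_iff_cj.mp (C.eN (C.vE hv₀))]
    · have h6 := hf.2 m hm
      rw [h4] at h6
      exact h6.2
  refine ⟨hjN, fun h => ?_, fun h v hv => ?_⟩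
  · have hjF : Fixes j K := (L.fixes_iff hjN).mp h
    obtain ⟨h1, h3⟩ := isComp_cen C.compK hjX jj hjF
    have h4 := C.star jj j1 hjE hJ h1 hv₀
    exact hv₀K ((fixes_iff_of_sup h3 h4.1 (C.eN (C.vE hv₀))).mp h4)
  · have h5 : 5 ≤ (fixIn (Finset.univ : Finset (Fin 7)) (L.φ j)).card := by rw [h]; decide
    have h3 : (fixIn (Finset.univ : Finset (Fin 7)) (L.φ j)).card ≠ 3 := by rw [h]; decide
    have hI := L.isComp_cmp_of C.compK hjN jj h5
    have hf := C.star jj j1 hjE hJ hI hv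
    obtain ⟨σ, hσ, hs⟩ : ∃ σ : P7, σ ∈ alt (fixIn (Finset.univ : Finset (Fin 7)) (L.φ j)) ∧
        σ = swap 0 1 * swap 1 6 := by
      refine ⟨_, ?_, rfl⟩
      rw [h]
      refine ⟨mem_alternatingGroup.mpr (by decide), ?_⟩
      intro i hi
      revert hi
      revert i
      decide
    obtain ⟨k, hk, hkσ⟩ := L.cmp_lift hjN jj h5 hσ
    have hkK : k ∈ normalizer (K : Set G) := le_normalizer (L.cmp_le j hk)
    have hvN := C.eN (C.vE hv)
    have h6 : ⁅v, k⁆ ∈ core K := by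
      have h7 := hf.2 k hk
      have h8 : core (L.cmp j) ≤ core (K ⊓ centralizer ({j} : Set G)) :=
        (L.isComp_cmp hjN jj h5).core_le_core
      exact L.core_cent_le hjN jj h3 (h8 h7)
    have h7 : L.φ ⁅v, k⁆ = 1 := (L.core_iff _ (core_le K h6)).mpr h6
    rw [commutatorElement_def, L.mul _ _ (mul_mem (mul_mem hvN hkK) (inv_mem hvN)) (inv_mem hkK),
      L.conj hvN hkK, L.inv hkK, mul_inv_eq_one, mul_inv_eq_iff_eq_mul, hkσ, hs] at h7
    rcases mem_VT_cases (C.φVT (C.vE hv)) with e | e | e | e | e | e | e | e <;> rw [e] at h7 ⊢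
    · exact Or.inl rfl
    · exact absurd h7 (by decide)
    · exact absurd h7 (by decide)
    · exact absurd h7 (by decide)
    · exact Or.inr rfl
    · exact absurd h7 (by decide)
    · exact absurd h7 (by decide)
    · exact absurd h7 (by decide)

end Cx

end Cfsg.Agent.UGT.A7.M1.Cfg7
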