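import Cfsg.Agent.UGT.A7.M1.Sys
import Cfsg.Agent.UGT.L2i.ClsSide

/-!
# The classes of `N₀`: the side, from `Cls0` (no (Gam))

`side0`: `H`, `W = O(H)`, `F N = N O(H)` for `N` in the class of `N₀`; `side0_ok`, `ind0_iff`, `side0_t2`, `side0_t4`.
-/

set_option autoImplicit false

open Cfsg Subgroup
open Cfsg.Agent.SignalizersComponents Cfsg.Agent.Lib
open Cfsg.Agent.SignalizersComponents.IntrinsicBasic
open Cfsg.Agent.SignalizersComponents.IntrinsicIntr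
open Cfsg.Agent.SignalizersComponents.PLayerAut
open Cfsg.Agent.Intrinsic.Basic Cfsg.Agent.Intrinsic.Cen Cfsg.Agent.Intrinsic.Diag
open Cfsg.Agent.McLLyComp.Act
open Cfsg.Agent.UGT.TMCBase
open Cfsg.Agent.UGT.L2i.ClsCov Cfsg.Agent.UGT.L2i.ClsRel
open Cfsg.Agent.UGT.L2i.ClsSide (exists_pi exists_equiv)
open scoped commutatorElement

namespace Cfsg.Agent.UGT.A7.M1

universe u v

variable {G : Type u} [Group G] {Q : Type v} [Group Q]

variable [Finite G] {N0 : Subgroup G}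

/-- the side of the class of `N₀` -/
noncomputable def side0 (C : Cls0 N0) (e : (↥N0 ⧸ oddCore ↥N0) ≃* Q) :
    TT.Side G Q ↥((Cls0.sys C).cls (self_mem_Cj N0)) where
  H := (Cls0.sys C).H (self_mem_Cj N0)
  W := core ((Cls0.sys C).H (self_mem_Cj N0))
  F N := N.1 ⊔ core ((Cls0.sys C).H (self_mem_Cj N0))
  π N := (exists_pi ((Cls0.sys C).isComp_H (self_mem_Cj N0) N.2)
    (Classical.choice (exists_equiv e N.2.1))).choose

theorem side0_ok (C : Cls0 N0) (e : (↥N0 ⧸ oddCore ↥N0) ≃* Q) : (side0 C e).Ok where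
  WF _ := le_sup_right
  FH N := sup_le ((Cls0.sys C).le_H (self_mem_Cj N0) N.2) (core_le _)
  odd := odd_card_core _
  nW h hh x hx := conj_mem_core (le_normalizer hh) hx
  map_mul N := (exists_pi ((Cls0.sys C).isComp_H (self_mem_Cj N0) N.2)
    (Classical.choice (exists_equiv e N.2.1))).choose_spec.1
  surj N := (exists_pi ((Cls0.sys C).isComp_H (self_mem_Cj N0) N.2)
    (Classical.choice (exists_equiv e N.2.1))).choose_spec.2.1
  ker N := (exists_pi ((Cls0.sys C).isComp_H (self_mem_Cj N0) N.2)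
    (Classical.choice (exists_equiv e N.2.1))).choose_spec.2.2.1
  comm := by
    intro N N' hne x hx y hy
    have hN := (Cls0.sys C).isComp_H (self_mem_Cj N0) N.2
    have hN' := (Cls0.sys C).isComp_H (self_mem_Cj N0) N'.2
    have hne' : N.1 ≠ N'.1 := fun h => hne (Subtype.ext h)
    have h1 : N'.1 ⊔ core ((Cls0.sys C).H (self_mem_Cj N0)) ≤ KN N.1 :=
      sup_le (fun z hz => hN.fixes_of_mem hN' hne' hz) (fun z hz => hN.fixes_of_core hz)
    have h2 := (((Cls0.sys C).fixes_iff (self_mem_Cj N0) N.2).mpr (h1 hy)).2 x hx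
    have h3 := inv_mem h2
    have h4 : (y * x * y⁻¹ * x⁻¹)⁻¹ = x * y * x⁻¹ * y⁻¹ := by group
    rwa [h4] at h3
  perm := by
    intro h hh N
    refine ⟨⟨cj h N.1, (Cls0.sys C).cj_mem_cls (self_mem_Cj N0) N.2 hh⟩, fun x hx => ?_⟩
    change h * x * h⁻¹ ∈ cj h N.1 ⊔ core ((Cls0.sys C).H (self_mem_Cj N0))
    have hN := (Cls0.sys C).isComp_H (self_mem_Cj N0) N.2
    change x ∈ N.1 ⊔ core ((Cls0.sys C).H (self_mem_Cj N0)) at hx
    rw [sup_comm] at hx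
    obtain ⟨c, hc, n, hn, rfl⟩ := SL.exists_mul_of_mem_sup
      (fun b hb a ha => conj_mem_core (le_normalizer (hN.le hb)) ha) hx
    have h1 : h * (c * n) * h⁻¹ = (h * c * h⁻¹) * (h * n * h⁻¹) := by group
    rw [h1]
    exact mul_mem (mem_sup_right (conj_mem_core (le_normalizer hh) hc)) (mem_sup_left (conj_mem_cj hn))
  t1 := by
    intro N y hy hc hyy hy1 c hcy
    have hf := ((Cls0.sys C).fixes_iff (self_mem_Cj N0) N.2).mp ⟨hy, hc⟩
    exact (Cls0.sys C).t1 (self_mem_Cj N0) N.2 (order_of_sq hyy hy1) hf hcy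

theorem ind0_iff (C : Cls0 N0) (e : (↥N0 ⧸ oddCore ↥N0) ≃* Q) (N : ↥((Cls0.sys C).cls (self_mem_Cj N0))) {y : G} :
    (side0 C e).Ind N y 1 ↔ Fixes y N.1 := by
  rw [(side0_ok C e).ind_one_iff]
  exact (Cls0.sys C).fixes_iff (self_mem_Cj N0) N.2

/-- **(T2)** in the form of `TT.noAdj_conj` -/
theorem side0_t2 (C : Cls0 N0) (e : (↥N0 ⧸ oddCore ↥N0) ≃* Q) (g : G) (i j : ↥((Cls0.sys C).cls (self_mem_Cj N0))) (y : G)
    (h1 : (side0 C e).Ind i y 1) (h2 : (side0 C e).Ind j (g⁻¹ * y * g) 1) (hyy : y * y = 1) (hy1 : y ≠ 1) :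
    g ∈ (side0 C e).H := by
  rw [ind0_iff] at h1 h2
  have h3 := h2.cj g
  rw [show g * (g⁻¹ * y * g) * g⁻¹ = y by group] at h3
  exact (Cls0.sys C).t2 (self_mem_Cj N0) i.2 j.2 (order_of_sq hyy hy1) h1 h3

omit [Finite G] in
/-- a four-group acting trivially on `N / O(N)` -/
theorem four_of_Cj0 (C : Cls0 N0) {N : Subgroup G} (hN : N ∈ Cj N0) :
    ∃ a b : G, Fixes a N ∧ Fixes b N ∧ a * a = 1 ∧ b * b = 1 ∧ a * b = b * a ∧ a ≠ 1 ∧ b ≠ 1 ∧ a ≠ b := by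
  obtain ⟨g, rfl⟩ := hN
  obtain ⟨a, b, ha, hb, aa, bb, ab, a1, b1, hne⟩ := C.four
  have hinj : ∀ x y : G, g * x * g⁻¹ = g * y * g⁻¹ → x = y := fun x y h => (MulAut.conj g).injective h
  have hmul : ∀ x y : G, g * x * g⁻¹ * (g * y * g⁻¹) = g * (x * y) * g⁻¹ := fun x y => by group
  have h1 : g * 1 * g⁻¹ = (1 : G) := by group
  refine ⟨g * a * g⁻¹, g * b * g⁻¹, ha.cj g, hb.cj g, ?_, ?_, ?_, ?_, ?_, ?_⟩
  · rw [hmul, aa, h1]
  · rw [hmul, bb, h1]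
  · rw [hmul, hmul, ab]
  · intro h; exact a1 (hinj a 1 (by rw [h, h1]))
  · intro h; exact b1 (hinj b 1 (by rw [h, h1]))
  · intro h; exact hne (hinj a b h)

theorem side0_t4 (C : Cls0 N0) (e : (↥N0 ⧸ oddCore ↥N0) ≃* Q) (i : ↥((Cls0.sys C).cls (self_mem_Cj N0))) :
    ∃ a b, (side0 C e).Ind i a 1 ∧ (side0 C e).Ind i b 1 ∧ a * a = 1 ∧ b * b = 1 ∧ a * b = b * a ∧
      a ≠ 1 ∧ b ≠ 1 ∧ a ≠ b := by
  obtain ⟨a, b, ha, hb, h⟩ := four_of_Cj0 C i.2.1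
  exact ⟨a, b, (ind0_iff C e i).mpr ha, (ind0_iff C e i).mpr hb, h⟩

end Cfsg.Agent.UGT.A7.M1
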