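import Cfsg.Agent.UGT.TMC
import Cfsg.Agent.UGT.Iface
import Cfsg.Agent.UGT.SLEnd
import Cfsg.Agent.UGT.A7.Star
import Cfsg.Agent.UAlt.ClB

/-!
# P0 (SETUP) for `A₇`, part 1: the family of the triples of type `A₇` is closed under pump-up (bb #14042)

The family is `Mu.T7 x t N`: `(x, t, N)` is a triple of type `A₇`.
-/

set_option autoImplicit false

open Cfsg Subgroup Equiv
open Cfsg.Agent.SignalizersComponents Cfsg.Agent.Lib
open Cfsg.Agent.SignalizersComponents.IntrinsicBasic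
open Cfsg.Agent.SignalizersComponents.IntrinsicIntr
open Cfsg.Agent.SignalizersComponents.PLayerAut
open Cfsg.Agent.Intrinsic.Basic Cfsg.Agent.Intrinsic.Cen Cfsg.Agent.Intrinsic.Diag
open Cfsg.Agent.McLLyComp.Act
open Cfsg.Agent.UGT.TMCBase Cfsg.Agent.UGT.TMCSyl Cfsg.Agent.UGT.TMCMax Cfsg.Agent.UGT.TMCBad
open Cfsg.Agent.UGT.Triple (IsTriple)
open Cfsg.Agent.UGT.Iface (Bar IsInner)
open Cfsg.Agent.UGT.A7.Mu (T7 M7 IsA7)
open Cfsg.Agent.UAlt
open scoped commutatorElement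

universe u

namespace Cfsg.Agent.UGT.A7.M1

variable {G : Type u} [Group G]

/-- `{g ∈ X : [g, r] ∈ O(X)}` -/
def cmod (X : Subgroup G) {r : G} (hr : r ∈ X) : Subgroup G :=
  ((centralizer ({QuotientGroup.mk' (oddCore ↥X) ⟨r, hr⟩} : Set (↥X ⧸ oddCore ↥X))).comap
    (QuotientGroup.mk' (oddCore ↥X))).map X.subtype

theorem mem_cmod {X : Subgroup G} {r : G} (hr : r ∈ X) {g : G} :
    g ∈ cmod X hr ↔ g ∈ X ∧ ⁅g, r⁆ ∈ core X := by
  constructor
  · rintro ⟨⟨y, hy⟩, h, rfl⟩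
    refine ⟨hy, (commutator_mem_core_iff hy hr).mpr ?_⟩
    exact mem_centralizer_singleton_iff.mp h
  · rintro ⟨hg, h⟩
    refine ⟨⟨g, hg⟩, ?_, rfl⟩
    exact mem_centralizer_singleton_iff.mpr ((commutator_mem_core_iff hg hr).mp h)

section

variable {x a : G} {L : Subgroup G}

/-- the square of the element of `L` acting as `x` lies in `O(L)`, and it commutes with `x` modulo `O(L)` -/
theorem sq_of_inner (_ : IsComp (centralizer ({a} : Set G)) L) (hZ : center (Bar L) = ⊥)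
    (hx : x * x = 1) (hxL : x ∈ normalizer (L : Set G)) {r : G} (hr : r ∈ L)
    (hf : Fixes (x * r⁻¹) L) : r * r ∈ core L ∧ ⁅x, r⁆ ∈ core L := by
  constructor
  · have h1 : Fixes (r * r) L := by
      have h2 : Fixes (x * (x * r⁻¹)⁻¹ * x⁻¹) L := fixes_conj (fixes_inv hf) hxL
      have h3 := fixes_mul (fixes_inv hf) h2
      have h4 : (x * r⁻¹)⁻¹ * (x * (x * r⁻¹)⁻¹ * x⁻¹) = r * (r * (x * x)⁻¹) := by group
      rw [h4, hx] at h3
      simpa using h3
    have h2 := (mk_center_iff (L.mul_mem hr hr)).mpr h1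
    have h3 : (QuotientGroup.mk' (oddCore ↥L)) ⟨r * r, L.mul_mem hr hr⟩ ∈ center (Bar L) := h2
    rw [hZ, mem_bot] at h3
    exact (mem_core_iff (L.mul_mem hr hr)).mpr ((QuotientGroup.eq_one_iff _).mp h3)
  · have h1 := hf.2 r hr
    have h2 : ⁅x, r⁆ = ⁅x * r⁻¹, r⁆ := by
      rw [commutatorElement_def, commutatorElement_def]; group
    rw [h2]
    exact h1

end

variable [Finite G] {x a : G} {L : Subgroup G}

/-- **Lifting the inner part of `x`.** -/
theorem exists_l (T : IsTriple x a L) (hZ : center (Bar L) = ⊥) (hin : IsInner x L) {Q : Subgroup G}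
    (hQ2 : IsPGroup 2 ↥Q) (hQa : ∀ q ∈ Q, q * a = a * q) (hQx : ∀ q ∈ Q, q * x = x * q)
    (hQL : ∀ q ∈ Q, Fixes q L) :
    ∃ l ∈ L, l * l = 1 ∧ l ≠ 1 ∧ (∀ q ∈ Q, q * l = l * q) ∧ x * l = l * x ∧ Fixes (x * l) L := by
  have h2 : Fact (Nat.Prime 2) := ⟨Nat.prime_two⟩
  have hx2 := Triple.sq_of_order T.invx
  obtain ⟨r, hr, hf⟩ := hin
  obtain ⟨h1, h3⟩ := sq_of_inner T.comp hZ hx2 T.x_mem hr hf
  have hrX : r ∈ centralizer ({a} : Set G) := T.comp.le hr
  obtain ⟨P, hP⟩ : ∃ P, P = Q ⊔ zpowers x := ⟨_, rfl⟩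
  have hxP : x ∈ P := hP ▸ mem_sup_right (mem_zpowers x)
  have hP2 : IsPGroup 2 ↥P := by
    rw [hP]
    have h4 : IsPGroup 2 ↥(zpowers x) := by
      have : Nat.card (zpowers x) = 2 ^ 1 := by rw [Nat.card_zpowers, T.invx]; norm_num
      exact IsPGroup.of_card this
    refine hQ2.to_sup_of_normal_left' h4 ?_
    rw [zpowers_le]
    apply mem_normalizer_iff_cj.mpr
    exact cj_of_comm fun q hq => mem_c (hQx q hq)
  have hPle : P ≤ cmod (centralizer ({a} : Set G)) hrX := by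
    rw [hP]
    refine sup_le (fun q hq => ?_) ?_
    · exact (mem_cmod hrX).mpr ⟨mem_c (hQa q hq), T.comp.core_le_core ((hQL q hq).2 r hr)⟩
    · rw [zpowers_le]
      exact (mem_cmod hrX).mpr ⟨mem_c T.comm.symm, T.comp.core_le_core h3⟩
  obtain ⟨w, hw, hww, hwr, hwP⟩ := exists_lift T.comp
    (fun p hp => ((mem_cmod hrX).mp (hPle hp)).1) hP2 hr (T.comp.core_le_core h1)
    (fun p hp => ((mem_cmod hrX).mp (hPle hp)).2)
  have hfw : Fixes (x * w) L := by
    have h4 : x * w = (x * r⁻¹) * ((r * r) * (r⁻¹ * w)) := by group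
    rw [h4]
    refine fixes_mul hf (fixes_mul (T.comp.fixes_of_core (T.comp.core_le_core h1))
      (T.comp.fixes_of_core hwr))
  refine ⟨w, hw, hww, ?_, fun q hq => hwP q (hP ▸ mem_sup_left hq), hwP x hxP, hfw⟩
  rintro rfl
  rw [mul_one] at hfw
  exact T.not_fixes hfw

omit [Finite G] in
/-- `A₇` has trivial centre -/
theorem ctr_of_lab (M : M7 L) : center (Bar L) = ⊥ := by
  rw [eq_bot_iff]
  intro z hz
  obtain ⟨⟨r, hr⟩, rfl⟩ := QuotientGroup.mk'_surjective (oddCore ↥L) z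
  have h1 := (mk_center_iff hr).mp hz
  have h2 := (M.fixes_iff h1.1).mpr h1
  exact (QuotientGroup.eq_one_iff _).mpr ((mem_core_iff hr).mp ((M.core_iff r hr).mp h2))

theorem root_ne_one {σ : Perm (Fin 7)} (h : Cfsg.Agent.StdAlt.Roots.IsRoot σ) : σ ≠ 1 := by
  rintro rfl
  have h2 := h.2
  rw [Equiv.Perm.support_one, Finset.card_empty] at h2
  omega

/-- every involution of `A₇` commutes with another one -/
theorem four_of_lab (M : M7 L) (e : Bar L) (hee : e * e = 1) (he1 : e ≠ 1) :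
    ∃ f : Bar L, f * f = 1 ∧ f ≠ 1 ∧ f ≠ e ∧ e * f = f * e := by
  obtain ⟨⟨r, hr⟩, rfl⟩ := QuotientGroup.mk'_surjective (oddCore ↥L) e
  have key : ∀ (s : G) (hs : s ∈ L), (QuotientGroup.mk' (oddCore ↥L)) ⟨s, hs⟩ = 1 ↔ M.φ s = 1 := by
    intro s hs
    rw [M.core_iff s hs, mem_core_iff hs]
    exact QuotientGroup.eq_one_iff _
  have h1 : M.φ r * M.φ r = 1 := by
    rw [← map_mul] at hee
    rw [← M.mul _ _ (le_normalizer hr) (le_normalizer hr)]
    exact (key _ (L.mul_mem hr hr)).mp hee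
  have h2 : M.φ r ≠ 1 := fun h => he1 ((key r hr).mpr h)
  have hroot := Star.isRoot_of_even h1 h2 (by
    have := M.mem_alt r hr
    rwa [alt_univ] at this)
  obtain ⟨β, hβ, hαβ, hc⟩ := Cfsg.Agent.UAlt.ClB.exists_four_root hroot
  obtain ⟨s, hs, rfl⟩ := M.lift β (by rw [alt_univ]; exact even_of_isRoot hβ)
  have hrN := le_normalizer (H := L) hr
  have hsN := le_normalizer (H := L) hs
  refine ⟨(QuotientGroup.mk' (oddCore ↥L)) ⟨s, hs⟩, ?_, ?_, ?_, ?_⟩
  · rw [← map_mul]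
    refine (key _ (L.mul_mem hs hs)).mpr ?_
    rw [M.mul _ _ hsN hsN, hβ.1]
  · exact fun h => (root_ne_one hβ) ((key s hs).mp h)
  · intro h
    have h3 : (QuotientGroup.mk' (oddCore ↥L)) ⟨r * s, L.mul_mem hr hs⟩ = 1 := by
      have : (⟨r * s, L.mul_mem hr hs⟩ : ↥L) = ⟨r, hr⟩ * ⟨s, hs⟩ := rfl
      rw [this, map_mul, h]
      exact hee
    have h4 := (key _ _).mp h3
    rw [M.mul _ _ hrN hsN] at h4
    exact (root_ne_one hαβ) h4
  · rw [← map_mul, ← map_mul]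
    refine (mk_eq_iff (L.mul_mem hr hs) (L.mul_mem hs hr)).mpr ?_
    rw [← M.eq_iff (L.mul_mem hr hs) (L.mul_mem hs hr), M.mul _ _ hrN hsN, M.mul _ _ hsN hrN]
    exact hc

omit [Finite G] in
/-- conjugates of the family -/
theorem cj7 {t : G} {N : Subgroup G} (h : T7 x t N) (g : G) :
    T7 (g * x * g⁻¹) (g * t * g⁻¹) (IntrinsicBasic.cj g N) := by
  obtain ⟨M⟩ := h.a7
  refine ⟨h.tri.cj g, ⟨M.cj g⟩, ?_⟩
  obtain ⟨r, hr, hf⟩ := h.inn
  refine ⟨g * r * g⁻¹, conj_mem_cj hr, ?_⟩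
  have h2 := hf.cj g
  have h3 : (g * x * g⁻¹) * (g * r * g⁻¹)⁻¹ = g * (x * r⁻¹) * g⁻¹ := by group
  rw [h3]
  exact h2

omit [Finite G] in
theorem cj7' {t : G} {N : Subgroup G} (h : T7 x t N) {g : G} (hg : g * x = x * g) :
    T7 x (g * t * g⁻¹) (IntrinsicBasic.cj g N) := by
  have h1 := cj7 h g
  rwa [conj_of_comm hg] at h1

omit [Finite G] in
/-- `|A₇|` -/
theorem card_of_lab (M : M7 L) : Nat.card (Bar L) = 2520 := by
  obtain ⟨f, hf⟩ : ∃ f : ↥L →* ↥(alternatingGroup (Fin 7)), Function.Surjective f ∧ f.ker = oddCore ↥L := by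
    refine ⟨(MulEquiv.subgroupCongr (alt_univ)).toMonoidHom.comp M.homK, ?_, ?_⟩
    · exact (MulEquiv.subgroupCongr alt_univ).surjective.comp M.homK_surjective
    · rw [← M.ker_homK]
      ext y
      rw [MonoidHom.mem_ker, MonoidHom.mem_ker, MonoidHom.comp_apply]
      exact (MulEquiv.subgroupCongr (alt_univ (α := Fin 7))).map_eq_one_iff
  rw [Nat.card_congr ((QuotientGroup.quotientMulEquivOfEq hf.2.symm).trans
    (QuotientGroup.quotientKerEquivOfSurjective _ hf.1)).toEquiv]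
  exact Star.card_alt_seven

/-- the family is closed under pump-up -/
theorem fam7 (hP : Mu.Pump7 G) (x : G) : Fam (centralizer ({x} : Set G)) (T7 x) where
  mem h := mem_c h.tri.comm
  sq h := Triple.sq_of_order h.tri.inva
  comp h := h.tri.comp
  conj h g hg := cj7' h (comm_c hg)
  pump := by
    intro t N hN y hyx hyy hy1 hyt hf
    have hy : orderOf y = 2 := orderOf_eq_prime (by rw [pow_two, hyy]) hy1
    have hyx' : y * x = x * y := comm_c hyx
    obtain ⟨M⟩ := hN.a7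
    obtain ⟨hc, hs⟩ := isComp_cen hN.tri.comp (mem_c hyt) hyy hf
    obtain ⟨J, hJ, ⟨M'⟩, hor⟩ := hP x t y N hN hy hyt hyx' hf
    have hJ7 : T7 x y J := Star.T7.of_lab hJ M'
    rcases hor with ⟨-, hle⟩ | ⟨hne, heq⟩
    · left
      refine ⟨J, hJ7, sup_of_card hle ?_⟩
      obtain ⟨e, -⟩ := exists_quotEquiv hs
      change Nat.card (Bar J) ≤ Nat.card (Bar (cen N y))
      rw [card_of_lab M', Nat.card_congr e.toEquiv]
      exact (card_of_lab M).ge
    · right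
      refine ⟨J, hJ7, ?_, hne, heq⟩
      have h5 := cj7' hJ7 (g := t) hN.tri.comm
      rwa [conj_of_comm hyt.symm] at h5

end Cfsg.Agent.UGT.A7.M1
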