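import Cfsg.Agent.UGT.A7.M1.Lab7
import Cfsg.Agent.UGT.Func52

/-!
# Weak 2-balance for `M / O(M) ≅ A₇`, world `W7`

`YF7 M Y`, `Gd M V`, no bad configuration `Bad7 Y V`:

* `comm_fixes`: `[z, e]` fixes the 2-components moved by `z ∈ Δ(D) ∩ C(c)`.
* `w2`, `b3`: weak 2-balance on `E = Y V`; `hyp : Func52.Hyp (Y ⊔ V)`.
-/

set_option autoImplicit false
set_option linter.unusedSectionVars false

open Cfsg Subgroup Equiv Equiv.Perm
open Cfsg.Agent.UAlt (Mod fixIn alt sym mem_fixIn apply_of_comm_alt)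
open Cfsg.Agent.SignalizersComponents Cfsg.Agent.Lib
open Cfsg.Agent.SignalizersComponents.IntrinsicBasic
open Cfsg.Agent.SignalizersComponents.PLayerAut
open Cfsg.Agent.Intrinsic.Basic Cfsg.Agent.Intrinsic.Cen Cfsg.Agent.Intrinsic.Diag
open Cfsg.Agent.McLLyComp.Act
open Cfsg.Agent.UGT.Triple Cfsg.Agent.UGT.TriBase
open Cfsg.Agent.UGT.L2Inner (order_two exists_gens exists_not_mem P7 b1 b2 ta IsV Four Bad7)
open Cfsg.Agent.UGT.A7.Dg (phi_core)
open scoped commutatorElement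

namespace Cfsg.Agent.UGT.A7.M1

universe u

variable {G : Type u} [Group G] [Finite G] {M Y V D K : Subgroup G}

/-- the labels of `z ∈ Δ(D) ∩ C(c)` and of `D#` -/
theorem fix_eq (L : Lab K) {c z x y : G} (Tx : IsTriple x c K) (Ty : IsTriple y c K)
    (hzx : z ∈ core (centralizer ({x} : Set G))) (hzy : z ∈ core (centralizer ({y} : Set G)))
    (hzc : z * c = c * z) (hf : ¬ Fixes z K) :
    fixIn (Finset.univ : Finset (Fin 7)) (L.φ x) = fixIn Finset.univ (L.φ y) := by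
  refine eq_of_alt (L.card_of_triple Tx) (L.card_of_triple Ty) (phi_core Tx L hzx hzc) (phi_core Ty L hzy hzc) ?_
  intro h
  exact hf ((L.fixes_iff (Tx.mem_normalizer_of_core hzx (mem_c hzc))).mp h)

/-- data: `D ≤ E` a four-group, `z ∈ Δ(D) ∩ C(c)` moves the 2-component `K` of `C(c)` -/
structure Mv (Y V D : Subgroup G) (c z : G) (K : Subgroup G) : Prop where
  DE : D ≤ Y ⊔ V
  D4 : Nat.card D = 4
  cE : c ∈ Y ⊔ V
  c1 : c ≠ 1
  hz : ∀ d ∈ D, d ≠ 1 → z ∈ core (centralizer ({d} : Set G))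
  hzc : z ∈ centralizer ({c} : Set G)
  comp : IsComp (centralizer ({c} : Set G)) K
  nf : ¬ Fixes z K

namespace Mv

variable {c z : G} (h : Mv Y V D c z K) (hF : YF7 M Y) (hG : Gd M V) (hW : W7 G)
include h hF hG hW

theorem tri {d : G} (hd : d ∈ D) (hd1 : d ≠ 1) : IsTriple d c K :=
  (hF.fr hG.four hG.le).triple (h.DE hd) hd1 h.cE h.c1 h.comp (h.hz d hd hd1) h.hzc h.nf

/-- the labels and the action of `E` -/
theorem exists_lab : Nonempty (Lab K) := by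
  obtain ⟨a, ha, b, hb, ha1, hb1, hab⟩ := exists_gens h.D4
  have hF' := hF.fr hG.four hG.le
  refine lab_of_three hW (h.tri hF hG hW ha ha1) (h.tri hF hG hW hb hb1)
    (h.tri hF hG hW (mul_mem ha hb) fun h1 => hab ?_)
  have h2 := eq_inv_of_mul_eq_one_left h1
  rwa [inv_eq_of_mul_eq_one_left (hF'.E_sq (h.DE hb))] at h2

theorem bad0 (L : Lab K) : Bad0 Y V D c K where
  cE := h.cE
  c1 := h.c1
  comp := h.comp
  type := KT.of_lab L
  DE := h.DE
  D4 := h.D4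
  nrm := fun d hd => by
    by_cases h1 : d = 1
    · rw [h1]; exact one_mem _
    · exact (h.tri hF hG hW hd h1).x_mem
  nfx := fun d hd hd1 => (h.tri hF hG hW hd hd1).not_fixes

theorem norm_E : Y ⊔ V ≤ normalizer (K : Set G) := by
  obtain ⟨L⟩ := h.exists_lab hF hG hW
  exact (hF.fr hG.four hG.le).claim (h.bad0 hF hG hW L)

theorem fixIn_eq (L : Lab K) {x y : G} (hx : x ∈ D) (hx1 : x ≠ 1) (hy : y ∈ D) (hy1 : y ≠ 1) :
    fixIn (Finset.univ : Finset (Fin 7)) (L.φ x) = fixIn Finset.univ (L.φ y) :=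
  fix_eq L (h.tri hF hG hW hx hx1) (h.tri hF hG hW hy hy1) (h.hz x hx hx1) (h.hz y hy hy1) (comm_c h.hzc) h.nf

/-- `c ∉ Y` -/
theorem c_notin : c ∉ Y := by
  intro hc
  obtain ⟨L⟩ := h.exists_lab hF hG hW
  have F := hF.fr hG.four hG.le
  have B := h.bad0 hF hG hW L
  obtain ⟨hMK, hs, hT⟩ := F.step0 B hc
  obtain ⟨a, ha, -, -, ha1, -, -⟩ := exists_gens h.D4
  obtain ⟨t, ht, ht1, -⟩ := hG.four.exists_ne 1
  have hYf : ∀ y ∈ Y, Fixes y K := fun y hy =>
    hF.toYF.fixes_Y hc hy (hG.le ht) (hG.four.elem t ht) ht1 h.comp hMK hs hT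
  have hDY : ∀ d ∈ D, d ∈ Y → d = 1 := by
    intro d hd hdY
    by_contra h1
    exact B.nfx d hd h1 (hYf d hdY)
  have hmul := L2Inner.meet_or_mul (E := Y ⊔ V) h.DE (le_sup_left : Y ≤ Y ⊔ V)
    (by rw [h.D4, F.ycard, F.E_card])
  have hmul' : ∀ e ∈ Y ⊔ V, ∃ d ∈ D, ∃ y ∈ Y, e = d * y := by
    rcases hmul with ⟨g, hg, hgY, hg1⟩ | h1
    · exact absurd (hDY g hg hgY) hg1
    · exact h1
  refine not_reg (hG.sup hMK hs) L (L.card_of_triple (h.tri hF hG hW ha ha1)) fun v hv hv1 => ?_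
  obtain ⟨d, hd, y, hy, hvdy⟩ := hmul' v (mem_sup_right hv)
  have hd1 : d ≠ 1 := by
    rintro rfl
    rw [one_mul] at hvdy
    exact hv1 (F.inf_eq (hvdy ▸ hy) hv)
  have h2 : L.φ v = L.φ d := by
    rw [hvdy, L.mul _ _ (B.nrm d hd) (hYf y hy).1, (L.fixes_iff (hYf y hy).1).mpr (hYf y hy), mul_one]
  rw [h2]
  exact h.fixIn_eq hF hG hW L hd hd1 ha ha1

theorem exists_cv : ∃ c₁ ∈ Y, ∃ v ∈ V, v ≠ 1 ∧ c = c₁ * v := by
  have F := hF.fr hG.four hG.le
  obtain ⟨c₁, hc₁, v, hv, e⟩ := F.mem_E.mp h.cE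
  refine ⟨c₁, hc₁, v, hv, ?_, e⟩
  rintro rfl
  rw [mul_one] at e
  exact h.c_notin hF hG hW (e ▸ hc₁)

/-- no `y ∈ Y#` fixes `K` -/
theorem not_fixes_Y {y : G} (hy : y ∈ Y) (hy1 : y ≠ 1) : ¬ Fixes y K := by
  intro hf
  have F := hF.fr hG.four hG.le
  obtain ⟨c₁, hc₁, v, hv, hv1, rfl⟩ := h.exists_cv hF hG hW
  obtain ⟨h1, h3⟩ := isComp_cen h.comp (mem_c (F.E_comm (mem_sup_left hy) h.cE)) (hF.ysq y hy) hf
  have hV : ∀ p ∈ V, Fixes p K := by
    intro p hp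
    have h4 := F.star hc₁ hv hv1 hy hy1 h1 hp
    exact (fixes_iff_of_sup h3 h4.1 (h.norm_E hF hG hW (mem_sup_right hp))).mp h4
  obtain ⟨d, hd, hd1, h4⟩ := F.exists_meet h.DE h.D4 (e := y) (mem_sup_left hy) (fun h5 => hy1 (F.inf_eq hy h5))
  refine (h.tri hF hG hW hd hd1).not_fixes ?_
  rcases h4 with h4 | h4
  · exact hV d h4
  · have h5 := fixes_mul (hV _ h4) hf
    rwa [mul_assoc, hF.ysq y hy, mul_one] at h5

/-- no `y ∈ Y` acts as a transposition -/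
theorem not_ta (L : Lab K) {y : G} (hy : y ∈ Y) : L.φ y ≠ ta := by
  intro hta
  have F := hF.fr hG.four hG.le
  have hE := h.norm_E hF hG hW
  have hy1 : y ≠ 1 := by
    rintro rfl
    rw [L.one] at hta
    exact absurd hta.symm b_facts.2.2.2.2.2.2.2.2.2.2.2.2.2.2.2.2
  obtain ⟨c₁, hc₁, v, hv, hv1, rfl⟩ := h.exists_cv hF hG hW
  have h5 : 5 ≤ (fixIn (Finset.univ : Finset (Fin 7)) (L.φ y)).card := by rw [hta, ta_fix]; rfl
  have hyN := hE (mem_sup_left hy)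
  have hJ := L.isComp_cmp_of h.comp hyN (hF.ysq y hy) h5
  have hV : ∀ p ∈ V, L.φ p = 1 ∨ L.φ p = ta := by
    intro p hp
    have h4 := F.star hc₁ hv hv1 hy hy1 hJ hp
    refine one_or_ta fun x hx => ?_
    rw [← hta] at hx
    exact L.apply_of_fixes_cmp hyN (hF.ysq y hy) h5 (hE (mem_sup_right hp)) h4 hx
  obtain ⟨d, hd, hd1, h4⟩ := F.exists_meet h.DE h.D4 (e := y) (mem_sup_left hy) (fun h5 => hy1 (F.inf_eq hy h5))
  have hT := h.tri hF hG hW hd hd1
  have hd3 := L.card_of_triple hT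
  have hdn : L.φ d ≠ 1 := fun h1 => hT.not_fixes ((L.fixes_iff hT.x_mem).mp h1)
  have hdt : L.φ d ≠ ta := by
    intro h1
    rw [h1, ta_fix] at hd3
    exact absurd hd3 (by decide)
  rcases h4 with h4 | h4
  · rcases hV d h4 with h6 | h6
    · exact hdn h6
    · exact hdt h6
  · have h7 : L.φ (d * y) = L.φ d * ta := by rw [L.mul _ _ hT.x_mem hyN, hta]
    have tt : ta * ta = 1 := b_facts.2.2.2.2.2.2.2.2.2.2.2.2.2.2.2.1
    rcases hV _ h4 with h6 | h6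
    · rw [h7] at h6
      apply hdt
      have h8 := eq_inv_of_mul_eq_one_left h6
      rwa [inv_eq_of_mul_eq_one_left tt] at h8
    · rw [h7] at h6
      exact hdn (mul_eq_right.mp h6)

/-- `[z, e]` fixes the 2-components moved by `z` -/
theorem comm_fixes (no7 : ∀ (w x : G) (K : Subgroup G) (L : Lab K), ¬ Bad7 Y V w x K L) {e : G}
    (he : e ∈ Y ⊔ V) : Fixes ⁅z, e⁆ K := by
  obtain ⟨L⟩ := h.exists_lab hF hG hW
  have F := hF.fr hG.four hG.le
  have hE := h.norm_E hF hG hW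
  obtain ⟨a, ha, b, hb, ha1, hb1, hab⟩ := exists_gens h.D4
  have Ta := h.tri hF hG hW ha ha1
  have Tb := h.tri hF hG hW hb hb1
  have hne : L.φ a ≠ L.φ b := by
    intro h1
    have hab1 : a * b ≠ 1 := fun h2 => hab (by
      have h3 := eq_inv_of_mul_eq_one_left h2
      rwa [inv_eq_of_mul_eq_one_left (F.E_sq (h.DE hb))] at h3)
    refine (h.tri hF hG hW (mul_mem ha hb) hab1).not_fixes ?_
    rw [← L.fixes_iff (mul_mem Ta.x_mem Tb.x_mem), L.mul _ _ Ta.x_mem Tb.x_mem, h1,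
      L.sq Tb.x_mem (F.E_sq (h.DE hb))]
  obtain ⟨L', g, -, f1, f2, hd⟩ := lab_dich L hE (fun e he => F.E_sq he) (h.DE ha) (h.DE hb)
    (L.card_of_triple Ta) (h.fixIn_eq hF hG hW L hb hb1 ha ha1) hne
  have hzN := Ta.mem_normalizer_of_core (h.hz a ha ha1) h.hzc
  rcases hd with hd | ⟨hd, hsur⟩
  · have hzm := phi_core Ta L' (h.hz a ha ha1) (comm_c h.hzc)
    rw [f1, b1_fix] at hzm
    have hc := V_comm_fix (hd e he) fun x hx => hzm.2 x hx
    have heN := hE he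
    have hN : ⁅z, e⁆ ∈ normalizer (K : Set G) := by
      rw [commutatorElement_def]
      exact mul_mem (mul_mem (mul_mem hzN heN) (inv_mem hzN)) (inv_mem heN)
    rw [← L'.fixes_iff hN, commutatorElement_def, L'.mul _ _ (mul_mem (mul_mem hzN heN) (inv_mem hzN)) (inv_mem heN),
      L'.conj hzN heN, L'.inv heN, ← hc, mul_inv_cancel_right, mul_inv_cancel]
  · exact absurd
      { wE := h.cE
        wY := h.c_notin hF hG hW
        xE := h.DE ha
        tri := Ta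
        nrm := hE
        img := hd
        sur := hsur
        xV := Or.inr (Or.inl f1)
        y1 := fun y hy hy1 h1 => h.not_fixes_Y hF hG hW hy hy1 ((L'.fixes_iff (hE (mem_sup_left hy))).mp h1)
        yt := fun y hy => h.not_ta hF hG hW L' hy } (no7 c a K L')

end Mv

section main

variable (hF : YF7 M Y) (hG : Gd M V) (hW : W7 G)
include hF hG hW

/-- **weak 2-balance, rank 3** -/
theorem b3 {U : Subgroup G} (hU : U ≤ Y ⊔ V) (hU4 : 4 < Nat.card U) {c : G} (hc : c ∈ Y ⊔ V)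
    (hc1 : c ≠ 1) {z : G} (hz : ∀ f ∈ U, f ≠ 1 → z ∈ core (centralizer ({f} : Set G)))
    (hzc : z ∈ centralizer ({c} : Set G)) : z ∈ core (centralizer ({c} : Set G)) := by
  have F := hF.fr hG.four hG.le
  by_contra hn
  obtain ⟨u₁, hu₁, h11, -, -, -⟩ := exists_not_mem hU4 1 1
  obtain ⟨u₂, hu₂, h21, h22, -, -⟩ := exists_not_mem hU4 u₁ u₁
  obtain ⟨K, hK, hf⟩ := Res.Base.exists_moved (H := centralizer ({c} : Set G)) (x := u₁)
    (mem_c (F.E_comm (hU hu₁) hc)) (order_two (F.E_sq (hU hu₁)) h11)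
    (inf_le_core (hz u₁ hu₁ h11) hzc) hn
  have T : ∀ u ∈ U, u ≠ 1 → IsTriple u c K := fun u hu hu1 =>
    F.triple (hU hu) hu1 hc hc1 hK (hz u hu hu1) hzc hf
  have h12 : u₁ * u₂ ≠ 1 := by
    intro h1
    apply h22
    have h2 := eq_inv_of_mul_eq_one_right h1
    rwa [inv_eq_of_mul_eq_one_left (F.E_sq (hU hu₁))] at h2
  obtain ⟨L⟩ := lab_of_three hW (T u₁ hu₁ h11) (T u₂ hu₂ h21) (T _ (mul_mem hu₁ hu₂) h12)
  have hUN : ∀ u ∈ U, u ∈ normalizer (K : Set G) := by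
    intro u hu
    by_cases h1 : u = 1
    · rw [h1]; exact one_mem _
    · exact (T u hu h1).x_mem
  obtain ⟨g, hg⟩ := exists_conj_b1 (L.sq (hUN u₁ hu₁) (F.E_sq (hU hu₁))) (L.card_of_triple (T u₁ hu₁ h11))
  obtain ⟨L', hL'⟩ := exists_relabel L g
  have f1 : L'.φ u₁ = b1 := by rw [hL']; exact hg
  have hV : ∀ u ∈ U, IsV (L'.φ u) := by
    intro u hu
    by_cases h1 : u = 1
    · rw [h1, L'.one]; exact Or.inl rfl
    · right
      refine root_same (L'.sq (hUN u hu) (F.E_sq (hU hu))) ?_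
      rw [fix_eq L' (T u hu h1) (T u₁ hu₁ h11) (hz u hu h1) (hz u₁ hu₁ h11) (comm_c hzc) hf, f1, b1_fix]
  have hinj : Function.Injective (fun u : ↥U => (⟨L'.φ u, by
      have := hV u u.2
      simp only [Finset.mem_insert, Finset.mem_singleton]
      exact this⟩ : ↥({1, b1, b2, L2Inner.b3} : Finset P7))) := by
    rintro ⟨u, hu⟩ ⟨v, hv⟩ huv
    have h1 : L'.φ u = L'.φ v := congrArg Subtype.val huv
    by_contra hne
    have h2 : u * v ≠ 1 := by
      intro h3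
      apply hne
      have h4 := eq_inv_of_mul_eq_one_left h3
      rw [inv_eq_of_mul_eq_one_left (F.E_sq (hU hv))] at h4
      exact Subtype.ext h4
    refine (T _ (mul_mem hu hv) h2).not_fixes ?_
    rw [← L'.fixes_iff (mul_mem (hUN u hu) (hUN v hv)), L'.mul _ _ (hUN u hu) (hUN v hv), h1,
      L'.sq (hUN v hv) (F.E_sq (hU hv))]
  have h1 := Nat.card_le_card_of_injective _ hinj
  rw [Nat.card_eq_fintype_card (α := ↥({1, b1, b2, L2Inner.b3} : Finset P7)), Fintype.card_coe] at h1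
  have h2 : ({1, b1, b2, L2Inner.b3} : Finset P7).card ≤ 4 := Finset.card_le_four
  omega

/-- **weak 2-balance, rank 2** -/
theorem w2 (no7 : ∀ (w x : G) (K : Subgroup G) (L : Lab K), ¬ Bad7 Y V w x K L)
    {D : Subgroup G} (hD : D ≤ Y ⊔ V) (hD4 : Nat.card D = 4) {c : G} (hc : c ∈ Y ⊔ V)
    (hc1 : c ≠ 1) {z : G} (hz : ∀ d ∈ D, d ≠ 1 → z ∈ core (centralizer ({d} : Set G)))
    (hzc : z ∈ centralizer ({c} : Set G)) {e : G} (he : e ∈ Y ⊔ V) :
    ⁅z, e⁆ ∈ core (centralizer ({c} : Set G)) := by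
  have F := hF.fr hG.four hG.le
  have hec : e ∈ centralizer ({c} : Set G) := mem_c (F.E_comm he hc)
  have hw : ∀ d ∈ D, d ≠ 1 → ⁅z, e⁆ ∈ core (centralizer ({d} : Set G)) := by
    intro d hd hd1
    have h3 := conj_core (mem_c (F.E_comm he (hD hd))) (inv_mem (hz d hd hd1))
    have h4 : ⁅z, e⁆ = z * (e * z⁻¹ * e⁻¹) := by
      rw [commutatorElement_def]; group
    rw [h4]
    exact mul_mem (hz d hd hd1) h3
  by_cases hcD : c ∈ D
  · exact hw c hcD hc1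
  by_contra hn
  obtain ⟨d, hd, -, -, hd1, -, -⟩ := exists_gens hD4
  have hwc : ⁅z, e⁆ ∈ centralizer ({c} : Set G) := by
    rw [commutatorElement_def]
    exact mul_mem (mul_mem (mul_mem hzc hec) (inv_mem hzc)) (inv_mem hec)
  obtain ⟨K, hK, hf⟩ := Res.Base.exists_moved (H := centralizer ({c} : Set G)) (x := d)
    (mem_c (F.E_comm (hD hd) hc)) (order_two (F.E_sq (hD hd)) hd1)
    (inf_le_core (hw d hd hd1) hwc) hn
  -- `z` fixes `K`
  have hzK : Fixes z K := by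
    by_contra h
    exact hf ((⟨hD, hD4, hc, hc1, hz, hzc, hK, h⟩ : Mv Y V D c z K).comm_fixes hF hG hW no7 he)
  have hK' : IsComp (centralizer ({c} : Set G)) (cj e⁻¹ K) := isComp_cj_of_mem hK (inv_mem hec)
  have hK'K : cj e (cj e⁻¹ K) = K := by
    rw [← cj_mul, mul_inv_cancel, cj_one]
  have hzK' : ¬ Fixes z (cj e⁻¹ K) := by
    intro h
    apply hf
    have h1 := (fixes_inv h).cj e
    rw [hK'K] at h1
    have h2 := fixes_mul hzK h1
    have h3 : ⁅z, e⁆ = z * (e * z⁻¹ * e⁻¹) := by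
      rw [commutatorElement_def]; group
    rwa [h3]
  have heK' : e ∈ normalizer (cj e⁻¹ K : Set G) :=
    (⟨hD, hD4, hc, hc1, hz, hzc, hK', hzK'⟩ : Mv Y V D c z (cj e⁻¹ K)).norm_E hF hG hW he
  rw [mem_normalizer_iff_cj, hK'K] at heK'
  rw [← heK'] at hzK'
  exact hzK' hzK

/-- **weak 2-balance on `E = Y V`** -/
theorem hyp (no7 : ∀ (w x : G) (K : Subgroup G) (L : Lab K), ¬ Bad7 Y V w x K L) : Func52.Hyp (Y ⊔ V) where
  elem := ⟨⟨⟨fun a b => Subtype.ext ((hF.fr hG.four hG.le).E_comm a.2 b.2)⟩⟩, fun a ha => by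
    rw [pow_two]; exact (hF.fr hG.four hG.le).E_sq ha⟩
  card := (hF.fr hG.four hG.le).E_card.ge
  w2 := by
    intro D hD hD4 c hc hc1
    rw [commutator_le]
    rintro z ⟨hz, hzc⟩ e he
    exact w2 hF hG hW no7 hD hD4 hc hc1 (fun d hd hd1 => Func52.delta_le hd hd1 hz) hzc he
  b3 := by
    rintro U hU hU8 c hc hc1 z ⟨hz, hzc⟩
    exact b3 hF hG hW hU (by omega) hc hc1 (fun d hd hd1 => Func52.delta_le hd hd1 hz) hzc

end main

end Cfsg.Agent.UGT.A7.M1
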