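import Cfsg.Agent.UGT.A7.M1.Node7
import Cfsg.Agent.UGT.A7.M1.WB7
import Cfsg.Agent.UGT.A7.NodeA7
import Cfsg.Agent.UGT.Trich

/-!
# Glue for the theorem on `A₇`-triples of rank at least two (bb #14042), the assembly
-/

set_option autoImplicit false
set_option linter.unusedSectionVars false

open Cfsg Subgroup Equiv
open Cfsg.Agent.SignalizersComponents Cfsg.Agent.Lib
open Cfsg.Agent.SignalizersComponents.IntrinsicBasic
open Cfsg.Agent.Intrinsic.Basic Cfsg.Agent.Intrinsic.Cen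
open Cfsg.Agent.UGT.Triple (IsTriple)
open Cfsg.Agent.UGT.Iface (Bar IsInner MinCex)
open Cfsg.Agent.UGT.A7.Mu (T7 M7 IsA7 FF BetaP)
open Cfsg.Agent.UAlt
open Cfsg.Agent.UGT.L2Inner (Four four_of jn L2T)
open Cfsg.Agent.UGT.InUList (PK4 Excl K4End)

universe u

namespace Cfsg.Agent.UGT.A7.M1

/-- the end for bad configurations -/
def BadEnd (G : Type u) [Group G] : Prop :=
  ∀ (l k : G) (M Q : Subgroup G), Pre7 l k M Q → ∀ (Y V : Subgroup G) (w x : G) (K : Subgroup G) (L : Lab K),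
    Four Y → Y ≤ Q → k ∈ Y → Gd M V → l ∈ V → L2Inner.Bad7 Y V w x K L → SectionalPRankLE 2 4 G

/-- the end for classes -/
def ClsEnd (G : Type u) [Group G] : Prop :=
  ∀ N₀ : Subgroup G, Cls0 N₀ → Nonempty (Lab N₀) → SectionalPRankLE 2 4 G

variable {G : Type u} [Group G] [Finite G] {L M Q Y V : Subgroup G} {l k : G}

/-- a terminal triple of rank at least two -/
theorem Pre7.rank (FT : ∀ Y : Subgroup G, Odd (Nat.card Y) → Group.IsSolvable Y) (hW : W7 G)
    (hBad : BadEnd G) (hEnd : ClsEnd G) (h : Pre7 l k M Q)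
    (hr : ∃ a ∈ Q, ∃ b ∈ Q, orderOf a = 2 ∧ orderOf b = 2 ∧ a * b = b * a ∧ a ≠ b) :
    SectionalPRankLE 2 4 G := by
  by_contra hn
  obtain ⟨N₀, hC, hL⟩ := h.exists_cls FT (rep_of_w7 hW)
    (fun l k h Y V w x K L hY hYQ hk hV hl hB => hn (hBad l k M Q h Y V w x K L hY hYQ hk hV hl hB))
    (fun Y V hY hYQ hV hno => hyp (h.yf7 hY hYQ) hV hW hno) hr
  exact hn (hEnd N₀ hC hL)

/-- **(beta')**, or the sectional 2-rank is at most 4 -/
theorem beta_or_rank (FT : ∀ Y : Subgroup G, Odd (Nat.card Y) → Group.IsSolvable Y) (hW : W7 G)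
    (hBad : BadEnd G) (hEnd : ClsEnd G) : BetaP G ∨ SectionalPRankLE 2 4 G := by
  rcases beta_or (Star.muPump (PumpPlug.pump7_of hW)) with h | ⟨l, k, M, Q, h, hr⟩
  · exact Or.inl h
  · exact Or.inr (h.rank FT hW hBad hEnd hr)

/-- **N6** -/
theorem nodeA7_of_ends (FT : ∀ (G : Type u) [Group G] [Finite G] (Y : Subgroup G), Odd (Nat.card Y) → Group.IsSolvable Y)
    (k4 : PK4.{u}) (hE : Excl.{u} K4End)
    (hBad : ∀ (G : Type u) [Group G] [Finite G], W7 G → A7.Pump7 G → BadEnd G)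
    (hEnd : ∀ (G : Type u) [Group G] [Finite G] (X : Subgroup G), oddCore G = ⊥ → X.Normal → IsSimpleGroup X →
      centralizer (X : Set G) = ⊥ → ClsEnd G) : Nodes.NodeA7'.{u} := by
  refine nodeA7_of_beta k4 hE fun G _ _ hG hr hW => ?_
  rcases beta_or_rank (FT G) hW (hBad G hW (PumpPlug.pump7_of hW)) (hEnd G (generalizedFittingSubgroup G)
    (RankFrame.odd_of_minCex hG hr _ (Lib.Cores.pPrimeCore_normal 2)
      (Nat.Coprime.odd_of_right (Lib.Cores.pPrimeCore_coprime 2))) Trich.normal_fs hG.simple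
    (Trich.centralizer_fs hG)) with h | h
  · exact h
  · exact absurd (GH.Rank.of_subgroup h _) hr

end Cfsg.Agent.UGT.A7.M1
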