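import Cfsg.Agent.UGT.A7.M1.Supply
import Cfsg.Agent.UGT.P3.BPrime
import Cfsg.Agent.UGT.L2i.Five

/-!
# CANON with generating four-groups, (5): `[O(C(y)), M] ≤ W`

`Bp M Y W`: the frame, `M, Y, O(C(y)) ≤ N(W)` (`y ∈ Y#`), `[Δ(B), Y V] ≤ W` for `B ≤ Y V` of order 4, `V ≤ M` a generating
four-group (`Gd M V`), and (A) (`P3.Tor`).  As `L2i/Five.lean`, without (Gam).
-/

set_option autoImplicit false
set_option linter.unusedSectionVars false
set_option linter.unusedVariables false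

open Cfsg Subgroup
open Cfsg.Agent.SignalizersComponents Cfsg.Agent.Lib
open Cfsg.Agent.SignalizersComponents.IntrinsicBasic
open Cfsg.Agent.SignalizersComponents.PLayerAut
open Cfsg.Agent.Intrinsic.Basic Cfsg.Agent.Intrinsic.Cen Cfsg.Agent.Intrinsic.Diag
open Cfsg.Agent.McLLyComp.Act
open Cfsg.Agent.UGT.TMCBase
open Cfsg.Agent.UGT.L2Inner (jn)
open Cfsg.Agent.UGT.L2i (four_iff)
open scoped commutatorElement

namespace Cfsg.Agent.UGT.A7.M1

universe u

variable {G : Type u} [Group G]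

/-- the hypotheses of (5) -/
structure Bp (M Y W : Subgroup G) : Prop where
  frame : Frame M Y
  gd : ∃ V, Gd M V
  M_le : M ≤ normalizer (W : Set G)
  Y_le : Y ≤ normalizer (W : Set G)
  core_le : ∀ {s : G}, s ∈ Y → s ≠ 1 → core (centralizer ({s} : Set G)) ≤ normalizer (W : Set G)
  del : ∀ {V : Subgroup G}, Gd M V → ∀ {B : Subgroup G}, B ≤ Y ⊔ V → Nat.card B = 4 →
    ∀ {z : G}, P3.Del B z → ∀ {e : G}, e ∈ Y ⊔ V → ⁅z, e⁆ ∈ W
  tor : P3.Tor M Y
  sol : ∀ X : Subgroup G, Odd (Nat.card X) → Group.IsSolvable X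

variable [Finite G] {M Y W : Subgroup G}

/-! ### tools -/

theorem exists_pi (M : Subgroup G) : ∃ π : ↥M →* (↥M ⧸ oddCore ↥M), Function.Surjective π ∧
    ∀ m : M, π m = 1 ↔ (m : G) ∈ core M := by
  refine ⟨QuotientGroup.mk' (oddCore ↥M), QuotientGroup.mk'_surjective _, fun m => ?_⟩
  rw [mem_core_iff m.2]
  exact QuotientGroup.eq_one_iff _

/-- a normal subgroup of `M` not contained in `O(M)` is `M` -/
theorem normal_le (hM : IsComp M M) (hs : IsSimpleGroup (↥M ⧸ oddCore ↥M)) {N : Subgroup G} (hNM : N ≤ M)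
    (hn : ∀ m ∈ M, ∀ n ∈ N, m * n * m⁻¹ ∈ N) {n₀ : G} (h0 : n₀ ∈ N) (h0' : n₀ ∉ core M) : M ≤ N := by
  obtain ⟨π, hπ, hker⟩ := exists_pi M
  have hNn : (N.subgroupOf M).Normal := ⟨fun n hn' m => hn m m.2 n hn'⟩
  have h1 : ((N.subgroupOf M).map π).Normal := hNn.map π hπ
  have h2 : (N.subgroupOf M).map π = ⊤ := by
    refine h1.eq_bot_or_eq_top.resolve_left fun hb => h0' ?_
    have h3 : π ⟨n₀, hNM h0⟩ = 1 := by
      have : π ⟨n₀, hNM h0⟩ ∈ (N.subgroupOf M).map π := ⟨_, h0, rfl⟩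
      rwa [hb, mem_bot] at this
    exact (hker _).mp h3
  refine hM.le_of_two fun k hk n hkn => ?_
  have h3 : π ⟨k, hk⟩ ∈ (N.subgroupOf M).map π := by rw [h2]; trivial
  obtain ⟨n', hn', hkn'⟩ := h3
  have hc : ((n'⁻¹ * ⟨k, hk⟩ : M) : G) ∈ core M := by
    rw [← hker, map_mul, map_inv, hkn', inv_mul_cancel]
  obtain ⟨c, hc'⟩ : ∃ c : M, c = n'⁻¹ * ⟨k, hk⟩ := ⟨_, rfl⟩
  rw [← hc'] at hc
  obtain ⟨r, hr⟩ : ∃ r, r = Nat.card (core M) := ⟨_, rfl⟩
  have hrodd : Odd r := hr ▸ odd_card_core M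
  have hcr : c ^ r = 1 := by
    apply Subtype.ext
    have h4 : ((⟨(c : G), hc⟩ : core M)) ^ r = 1 := by rw [hr]; exact pow_card_eq_one'
    have h5 := congrArg Subtype.val h4
    simpa using h5
  have hk' : (⟨k, hk⟩ : M) = n' * c := by rw [hc']; group
  have h4 : (QuotientGroup.mk' (N.subgroupOf M)) ⟨k, hk⟩ ^ r = 1 := by
    have hmk : QuotientGroup.mk' (N.subgroupOf M) n' = 1 :=
      (QuotientGroup.eq_one_iff (N := N.subgroupOf M) n').mpr hn'
    rw [hk', map_mul, hmk, one_mul, ← map_pow, hcr, map_one]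
  have h5 : (QuotientGroup.mk' (N.subgroupOf M)) ⟨k, hk⟩ ^ (2 ^ n) = 1 := by
    rw [← map_pow]
    have : (⟨k, hk⟩ : M) ^ (2 ^ n) = 1 := Subtype.ext hkn
    rw [this, map_one]
  have h6 : (QuotientGroup.mk' (N.subgroupOf M)) ⟨k, hk⟩ = 1 := by
    have hcop : Nat.Coprime r (2 ^ n) := by
      apply Nat.Coprime.pow_right
      exact (Nat.coprime_two_right).mpr hrodd
    have h7 : orderOf ((QuotientGroup.mk' (N.subgroupOf M)) ⟨k, hk⟩) ∣ Nat.gcd r (2 ^ n) :=
      Nat.dvd_gcd (orderOf_dvd_of_pow_eq_one h4) (orderOf_dvd_of_pow_eq_one h5)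
    rw [hcop] at h7
    exact orderOf_eq_one_iff.mp (Nat.dvd_one.mp h7)
  have h8 : (⟨k, hk⟩ : M) ∈ N.subgroupOf M :=
    (QuotientGroup.eq_one_iff (N := N.subgroupOf M) (⟨k, hk⟩ : M)).mp h6
  exact h8

theorem exists_inv (hM : IsComp M M) : ∃ m ∈ M, m * m = 1 ∧ m ≠ 1 := by
  have h2p : Fact (Nat.Prime 2) := ⟨Nat.prime_two⟩
  obtain ⟨x, hx⟩ := exists_prime_orderOf_dvd_card' 2 hM.even
  refine ⟨x, x.2, ?_, ?_⟩
  · have h1 : x ^ 2 = 1 := by rw [← hx, pow_orderOf_eq_one]
    rw [pow_two] at h1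
    exact congrArg Subtype.val h1
  · intro h1
    have h2 : x = 1 := Subtype.ext h1
    rw [h2, orderOf_one] at hx
    exact absurd hx (by norm_num)

/-- `M` is generated by its involutions -/
theorem le_of_inv (hM : IsComp M M) (hs : IsSimpleGroup (↥M ⧸ oddCore ↥M)) {T : Subgroup G}
    (hT : ∀ m ∈ M, m * m = 1 → m ≠ 1 → m ∈ T) : M ≤ T := by
  obtain ⟨N, hN⟩ : ∃ N, N = Subgroup.closure {m : G | m ∈ M ∧ m * m = 1} := ⟨_, rfl⟩
  have hNM : N ≤ M := by
    rw [hN, Subgroup.closure_le]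
    exact fun m hm => hm.1
  have hNT : N ≤ T := by
    rw [hN, Subgroup.closure_le]
    intro m hm
    by_cases h1 : m = 1
    · rw [h1]; exact T.one_mem
    · exact hT m hm.1 hm.2 h1
  obtain ⟨m₀, hm₀, hm₀2, hm₀1⟩ := exists_inv hM
  refine (normal_le hM hs hNM ?_ (n₀ := m₀) ?_ (P3.not_mem_core_of_sq hm₀2 hm₀1)).trans hNT
  · intro m hm n hn
    rw [hN] at hn ⊢
    induction hn using Subgroup.closure_induction with
    | mem x hx =>
      refine Subgroup.subset_closure ⟨mul_mem (mul_mem hm hx.1) (inv_mem hm), ?_⟩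
      calc m * x * m⁻¹ * (m * x * m⁻¹) = m * (x * x) * m⁻¹ := by group
        _ = 1 := by rw [hx.2]; group
    | one => simp
    | mul x y _ _ hx hy =>
      have : m * (x * y) * m⁻¹ = (m * x * m⁻¹) * (m * y * m⁻¹) := by group
      rw [this]; exact mul_mem hx hy
    | inv x _ hx =>
      have : m * x⁻¹ * m⁻¹ = (m * x * m⁻¹)⁻¹ := by group
      rw [this]; exact inv_mem hx
  · rw [hN]
    exact Subgroup.subset_closure ⟨hm₀, hm₀2⟩

/-- if `[x, v] ∈ W` for all involutions `v` of `M` then `[x, m] ∈ W` for all `m ∈ M` -/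
theorem comm_of_inv (hM : IsComp M M) (hs : IsSimpleGroup (↥M ⧸ oddCore ↥M)) (hMW : M ≤ normalizer (W : Set G))
    {x : G} (hx : ∀ v ∈ M, v * v = 1 → v ≠ 1 → ⁅x, v⁆ ∈ W) : ∀ m ∈ M, ⁅x, m⁆ ∈ W := by
  have h1 : M ≤ P3.stabComm M W hMW x := le_of_inv hM hs fun m hm h1 h2 => ⟨hm, hx m hm h1 h2⟩
  exact fun m hm => (h1 hm).2

theorem Frame.four3 (F : Frame M Y) : P3.Four Y := four_iff.mpr F.four

theorem Frame.fixes' (F : Frame M Y) {y : G} (hy : y ∈ Y) : Fixes y M :=
  TriBase.fixes_self' fun m hm => mem_c (F.comm m hm y hy)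

theorem Frame.not_mem' (F : Frame M Y) {y : G} (hy : y ∈ Y) (hyM : y ∈ M) : y = 1 :=
  L2i.eq_one_of_fixes F.facts.simple F.facts.nab hyM (F.fixes' hy) (F.four3.sq y hy)

theorem Frame.through (F : Frame M Y) (hg : ∃ V, Gd M V) {v : G} (hv : v ∈ M) (hvv : v * v = 1) (hv1 : v ≠ 1) :
    ∃ V, Gd M V ∧ v ∈ V := exists_gd_of F.facts hg hv hvv hv1

/-- **(2)(i)**: `C_{O(C(y))}(y')` centralizes `M` modulo `W` -/
theorem Bp.comm_one (h : Bp M Y W) {y y' : G} (hy : y ∈ Y)
    (hy1 : y ≠ 1) (hy' : y' ∈ Y) {z : G} (hz : z ∈ core (centralizer ({y} : Set G)))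
    (hne : y' ≠ 1) (hne' : y' ≠ y) (hzy : z * y' = y' * z) : ∀ m ∈ M, ⁅z, m⁆ ∈ W := by
  have hf := h.frame
  have hM := hf.self
  have hsim := hf.facts.simple
  have hzyy : z * y = y * z := comm_c (Intrinsic.Basic.core_le _ hz)
  refine comm_of_inv hM hsim h.M_le fun v hv hvv hv1 => ?_
  have hvC : v ∈ centralizer ({y} : Set G) := (mem_c (hf.comm _ hv _ hy) : _ ∈ centralizer ({y} : Set G))
  have hcO : ⁅z, v⁆ ∈ core (centralizer ({y} : Set G)) := by
    rw [commutatorElement_def, mul_assoc, mul_assoc, ← mul_assoc v]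
    exact mul_mem hz (Triple.conj_core hvC (inv_mem hz))
  have hdel : P3.Del Y ⁅z, v⁆ := by
    intro b hb hb1
    by_cases hby : b = y
    · rw [hby]; exact hcO
    obtain ⟨L, hL, hML, hs⟩ := hf.ex b hb hb1
    have hLc := hL
    -- `z` commutes with `b`
    have hzb : z * b = b * z := by
      have h4 := hf.four3.eq_quad hy hy' hy1 hne (Ne.symm hne')
      rw [h4] at hb
      rcases hb with rfl | rfl | rfl | rfl
      · exact absurd rfl hb1
      · exact absurd rfl hby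
      · exact hzy
      · calc z * (y * y') = (z * y) * y' := by group
          _ = y * (z * y') := by rw [hzyy]; group
          _ = y * y' * z := by rw [hzy]; group
    have hfz : Fixes z L := by
      by_contra hno
      have hT : Triple.IsTriple y b L :=
        ⟨P3.orderOf_of_sq (hf.four3.sq y hy) hy1, P3.orderOf_of_sq (hf.four3.sq b hb) hb1, hf.four3.comm hb hy,
          hLc, z, hz, mem_c hzb, hno⟩
      exact hT.not_fixes (P3.fixes_of_centralizes hf.self hLc hs (hf.four3.comm hy hb)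
        (fun m hm => (hf.comm m hm y hy).symm))
    exact hLc.core_le_core (hfz.2 v (hML hv))
  obtain ⟨V, hV, hvV⟩ := hf.through h.gd hv hvv hv1
  have h1 : ⁅⁅z, v⁆, v⁆ ∈ W := h.del hV (B := Y) le_sup_left hf.four3.card hdel
    (mem_sup_right hvV)
  exact P3.mem_of_comm_mem (odd_card_core _) hcO hvv (P3.inv_commutator hvv) h1

/-- **(2) = (B')**: `[O(C(y)), M] ≤ W` for `y ∈ Y#` -/
theorem Bp.bprime (h : Bp M Y W) {y : G} (hy : y ∈ Y)
    (hy1 : y ≠ 1) : ∀ x ∈ core (centralizer ({y} : Set G)), ∀ m ∈ M, ⁅x, m⁆ ∈ W := by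
  have hf := h.frame
  have hM := hf.self
  have hsim := hf.facts.simple
  obtain ⟨y', hy', hy'1, hne⟩ := hf.four3.exists_ne y
  obtain ⟨t, ht, htt, ht1, s, hs, hst, hsc, htor⟩ := h.tor
  have hMW := h.M_le
  have hYW := h.Y_le
  obtain ⟨O, hO⟩ : ∃ O, O = core (centralizer ({y} : Set G)) := ⟨_, rfl⟩
  have hOW : O ≤ normalizer (W : Set G) := by rw [hO]; exact h.core_le hy hy1
  have hOodd : Odd (Nat.card O) := by rw [hO]; exact odd_card_core _
  have hOy : ∀ x ∈ O, x * y = y * x := by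
    intro x hx
    rw [hO] at hx
    exact comm_c (Intrinsic.Basic.core_le _ hx)
  have hC0 : ∀ z ∈ O, z * y' = y' * z → ∀ m ∈ M, ⁅z, m⁆ ∈ W := by
    intro z hz hzy
    rw [hO] at hz
    exact h.comm_one hy hy1 hy' hz hy'1 hne hzy
  have hMO : M ≤ normalizer (O : Set G) := by
    rw [hO]
    exact fun m hm => le_normalizer_core _ ((mem_c (hf.comm _ hm _ hy) : _ ∈ centralizer ({y} : Set G)))
  have hy'O : y' ∈ normalizer (O : Set G) := by
    rw [hO]
    exact le_normalizer_core _ (mem_c (hf.four3.comm hy' hy))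
  rw [← hO]
  have hty' : t * y' = y' * t := hf.comm t ht y' hy'
  have hyy := hf.four3.sq y hy
  have hyy' := hf.four3.sq y' hy'
  have htney : ∀ b ∈ Y, t ≠ b := by
    rintro b hb rfl
    exact ht1 (hf.not_mem' hb ht)
  -- the induction
  have key : ∀ n : ℕ, ∀ X : Subgroup G, Nat.card X = n → X ≤ O → M ≤ normalizer (X : Set G) →
      y' ∈ normalizer (X : Set G) → ∀ x ∈ X, ∀ m ∈ M, ⁅x, m⁆ ∈ W := by
    intro n
    induction n using Nat.strong_induction_on with
    | _ n ih =>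
    intro X hXn hXO hMX hyX
    by_cases hXb : X = ⊥
    · intro x hx m _
      rw [hXb, mem_bot] at hx
      rw [hx, commutatorElement_one_left]
      exact one_mem _
    have hXodd : Odd (Nat.card X) := hOodd.of_dvd_nat (card_dvd_of_le hXO)
    -- the derived subgroup
    obtain ⟨X', hX'⟩ : ∃ X', X' = ⁅X, X⁆ := ⟨_, rfl⟩
    have hX'X : X' ≤ X := by
      rw [hX', commutator_le]
      intro a ha b hb
      rw [commutatorElement_def]
      exact mul_mem (mul_mem (mul_mem ha hb) (inv_mem ha)) (inv_mem hb)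
    have hX'ne : X' ≠ X := by
      intro he
      have hsol := h.sol X hXodd
      have h1 : ⁅(⊤ : Subgroup X), (⊤ : Subgroup X)⁆ = (⊤ : Subgroup X) := by
        apply Subgroup.map_injective X.subtype_injective
        rw [Subgroup.map_commutator, ← MonoidHom.range_eq_map, Subgroup.range_subtype, ← hX', he]
      have hnt : Nontrivial X := (Subgroup.nontrivial_iff_ne_bot X).mpr hXb
      exact (Group.IsSolvable.commutator_lt_top_of_nontrivial X).ne h1
    have hnormX' : ∀ g : G, g ∈ normalizer (X : Set G) → g ∈ normalizer (X' : Set G) := by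
      intro g hg
      rw [mem_normalizer_iff_cj] at hg ⊢
      rw [hX', cj_def, Subgroup.map_commutator, ← cj_def, hg]
    have hlt : Nat.card X' < n := by
      rw [← hXn]
      exact lt_of_le_of_ne (card_le_of_le hX'X) (fun he => hX'ne (eq_of_le_of_card_ge hX'X he.ge))
    have hIH := ih _ hlt X' rfl (hX'X.trans hXO) (fun m hm => hnormX' m (hMX hm)) (hnormX' y' hyX)
    have hXW : ∀ x ∈ X, x ∈ normalizer (W : Set G) := fun x hx => hOW (hXO hx)
    -- `C = C_X(M mod W)`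
    obtain ⟨C, hC⟩ : ∃ C : Subgroup G, ∀ x, x ∈ C ↔ x ∈ X ∧ ∀ m ∈ M, ⁅x, m⁆ ∈ W := by
      refine ⟨{ carrier := {x | x ∈ X ∧ ∀ m ∈ M, ⁅x, m⁆ ∈ W}
                one_mem' := ⟨X.one_mem, fun m _ => by
                  rw [commutatorElement_one_left]; exact W.one_mem⟩
                mul_mem' := ?_
                inv_mem' := ?_ }, fun x => Iff.rfl⟩
      · rintro a b ⟨h1, h2⟩ ⟨h3, h4⟩
        refine ⟨mul_mem h1 h3, fun m hm => ?_⟩
        rw [P3.comm_mul_left]
        exact mul_mem (P3.conj_mem_of_norm (hXW a h1) (h4 m hm)) (h2 m hm)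
      · rintro a ⟨h1, h2⟩
        refine ⟨inv_mem h1, fun m hm => ?_⟩
        rw [P3.comm_inv_left]
        exact P3.conj_mem_of_norm' (hXW a h1) (inv_mem (h2 m hm))
    have hX'C : X' ≤ C := fun x hx => (hC x).mpr ⟨hX'X hx, hIH x hx⟩
    have hCX : C ≤ X := fun x hx => ((hC x).mp hx).1
    have hCn : ∀ x ∈ X, ∀ c ∈ C, x * c * x⁻¹ ∈ C := by
      intro x hx c hc
      have h1 : ⁅x, c⁆ ∈ C := hX'C (by rw [hX']; exact commutator_mem_commutator hx (hCX hc))
      have h2 : x * c * x⁻¹ = ⁅x, c⁆ * c := by rw [commutatorElement_def]; group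
      rw [h2]
      exact mul_mem h1 hc
    have hCM : ∀ m ∈ M, ∀ c ∈ C, m * c * m⁻¹ ∈ C := by
      intro m hm c hc
      refine (hC _).mpr ⟨P3.conj_mem_of_norm (hMX hm) (hCX hc), fun m' hm' => ?_⟩
      have h1 : ⁅m * c * m⁻¹, m'⁆ = m * ⁅c, m⁻¹ * m' * m⁆ * m⁻¹ := by
        simp only [commutatorElement_def]; group
      rw [h1]
      exact P3.conj_mem_of_norm (hMW hm) (((hC c).mp hc).2 _ (mul_mem (mul_mem (inv_mem hm) hm') hm))
    have hCM' : ∀ m ∈ M, ∀ c ∈ C, m⁻¹ * c * m ∈ C := by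
      intro m hm c hc
      have := hCM m⁻¹ (inv_mem hm) c hc
      rwa [inv_inv] at this
    -- the pieces `C_X(w)`, `w ∈ {t, ty'}`
    have hpiece : ∀ b ∈ Y, (b = 1 ∨ b = y') → ∀ x ∈ X, x * (t * b) = (t * b) * x → ⁅x, s⁆ ∈ C := by
      intro b hb hb' x hx hxw
      obtain ⟨c, hc⟩ : ∃ c, c = ⁅x, s⁆ := ⟨_, rfl⟩
      have hcX : c ∈ X := by
        rw [hc, commutatorElement_def, mul_assoc, mul_assoc, ← mul_assoc s]
        exact mul_mem hx (P3.conj_mem_of_norm (hMX hs) (inv_mem hx))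
      have hxO : x ∈ core (centralizer ({y} : Set G)) := hO ▸ hXO hx
      have e1 : c ∈ core (centralizer ({t * b} : Set G)) := by
        rw [hc]; exact htor y hy hy1 b hb x hxO hxw
      have e2 : c ∈ core (centralizer ({t * (b * y)} : Set G)) := by
        rw [hc]
        refine htor y hy hy1 (b * y) (mul_mem hb hy) x hxO ?_
        calc x * (t * (b * y)) = (x * (t * b)) * y := by group
          _ = (t * b) * (x * y) := by rw [hxw]; group
          _ = t * (b * y) * x := by rw [hOy x (hXO hx)]; group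
      -- `B = ⟨w, y⟩`
      obtain ⟨V, hV, htV⟩ := hf.through h.gd ht htt ht1
      have htb : t * b = b * t := hf.comm t ht b hb
      have hww : (t * b) * (t * b) = 1 := by
        calc (t * b) * (t * b) = t * (b * t) * b := by group
          _ = t * (t * b) * b := by rw [htb]
          _ = (t * t) * (b * b) := by group
          _ = 1 := by rw [htt, hf.four3.sq b hb, one_mul]
      have hwy : (t * b) * y = y * (t * b) := by
        calc (t * b) * y = t * (b * y) := by group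
          _ = t * (y * b) := by rw [hf.four3.comm hb hy]
          _ = (t * y) * b := by group
          _ = (y * t) * b := by rw [hf.comm t ht y hy]
          _ = y * (t * b) := by group
      have hw1 : t * b ≠ 1 := by
        intro he
        apply htney b hb
        calc t = t * b * b⁻¹ := by group
          _ = b⁻¹ := by rw [he, one_mul]
          _ = b := inv_of_sq (hf.four3.sq b hb)
      have hwney : t * b ≠ y := by
        intro he
        apply htney (y * b) (mul_mem hy hb)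
        calc t = t * b * b⁻¹ := by group
          _ = y * b := by rw [he, inv_of_sq (hf.four3.sq b hb)]
      have hB4 := P3.card_quad hww hyy hwy hw1 hy1 hwney
      have hBle : P3.quad hww hyy hwy ≤ Y ⊔ V :=
        P3.quad_le (mul_mem (mem_sup_right htV) (mem_sup_left hb)) (mem_sup_left hy)
      have hdel : P3.Del (P3.quad hww hyy hwy) c := by
        intro d hd hd1
        rcases hd with rfl | rfl | rfl | rfl
        · exact absurd rfl hd1
        · exact e1
        · rw [← hO]; exact hXO hcX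
        · rw [show t * b * y = t * (b * y) by group]; exact e2
      have h1 : ⁅c, y'⁆ ∈ W := h.del hV hBle hB4 hdel (mem_sup_left hy')
      have hcO : c ∈ O := hXO hcX
      have h2 : ⁅c, y'⁆ ∈ O := by
        rw [commutatorElement_def, mul_assoc, mul_assoc, ← mul_assoc y']
        exact mul_mem hcO (P3.conj_mem_of_norm hy'O (inv_mem hcO))
      have hu : y' * (c⁻¹ * y' * c) ∈ W ⊓ O := by
        have h3 : y' * (c⁻¹ * y' * c) = (c⁻¹ * ⁅c, y'⁆ * c) := by
          rw [commutatorElement_def, inv_of_sq hyy']; group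
        rw [h3]
        exact ⟨P3.conj_mem_of_norm' (hOW hcO) h1, O.mul_mem (O.mul_mem (O.inv_mem hcO) h2) hcO⟩
      obtain ⟨w₁, hw₁, hcw⟩ := SL.exists_fix_lift (W := W ⊓ O)
        (hOodd.of_dvd_nat (card_dvd_of_le inf_le_right)) hyy' hu
      rw [← hc]
      refine (hC c).mpr ⟨hcX, fun m hm => ?_⟩
      have h4 := hC0 (c * w₁) (mul_mem hcO hw₁.2) hcw m hm
      have h5 : ⁅w₁⁻¹, m⁆ ∈ W := by
        rw [commutatorElement_def, mul_assoc, mul_assoc, ← mul_assoc m]
        exact mul_mem (inv_mem hw₁.1) (P3.conj_mem_of_norm (hMW hm) (by rw [inv_inv]; exact hw₁.1))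
      have h6 : c = (c * w₁) * w₁⁻¹ := by group
      rw [h6, P3.comm_mul_left]
      exact mul_mem (P3.conj_mem_of_norm (hOW (mul_mem hcO hw₁.2)) h5) h4
    -- `[X, s] ≤ C`
    obtain ⟨X₁, hX₁⟩ : ∃ X₁ : Subgroup G, ∀ x, x ∈ X₁ ↔ x ∈ X ∧ ⁅x, s⁆ ∈ C := by
      refine ⟨{ carrier := {x | x ∈ X ∧ ⁅x, s⁆ ∈ C}
                one_mem' := ⟨X.one_mem, by rw [commutatorElement_one_left]; exact C.one_mem⟩
                mul_mem' := ?_
                inv_mem' := ?_ }, fun x => Iff.rfl⟩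
      · rintro a b ⟨h1, h2⟩ ⟨h3, h4⟩
        refine ⟨mul_mem h1 h3, ?_⟩
        rw [P3.comm_mul_left]
        exact mul_mem (hCn a h1 _ h4) h2
      · rintro a ⟨h1, h2⟩
        refine ⟨inv_mem h1, ?_⟩
        rw [P3.comm_inv_left]
        have := hCn a⁻¹ (inv_mem h1) _ (inv_mem h2)
        rwa [inv_inv] at this
    have hXX₁ : X ≤ X₁ := by
      refine P3.odd_gen hXodd htt hyy' hty' ht1 hy'1 (htney y' hy') (hMX ht) hyX ?_ ?_ ?_
      · intro z hz hzt
        refine (hX₁ z).mpr ⟨hz, hpiece 1 Y.one_mem (Or.inl rfl) z hz ?_⟩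
        rw [mul_one]; exact hzt
      · intro z hz hzy
        have hzC : z ∈ C := (hC z).mpr ⟨hz, hC0 z (hXO hz) hzy⟩
        refine (hX₁ z).mpr ⟨hz, ?_⟩
        rw [commutatorElement_def, mul_assoc, mul_assoc, ← mul_assoc s]
        exact mul_mem hzC (hCM s hs _ (inv_mem hzC))
      · intro z hz hzw
        exact (hX₁ z).mpr ⟨hz, hpiece y' hy' (Or.inr rfl) z hz hzw⟩
    -- `[X, M] ≤ C`
    obtain ⟨S, hS⟩ : ∃ S : Subgroup G, ∀ m, m ∈ S ↔ m ∈ M ∧ ∀ x ∈ X, ⁅x, m⁆ ∈ C := by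
      refine ⟨{ carrier := {m | m ∈ M ∧ ∀ x ∈ X, ⁅x, m⁆ ∈ C}
                one_mem' := ⟨M.one_mem, fun x _ => by
                  rw [commutatorElement_one_right]; exact C.one_mem⟩
                mul_mem' := ?_
                inv_mem' := ?_ }, fun x => Iff.rfl⟩
      · rintro a b ⟨h1, h2⟩ ⟨h3, h4⟩
        refine ⟨mul_mem h1 h3, fun x hx => ?_⟩
        rw [P3.comm_mul_right]
        exact mul_mem (h2 x hx) (hCM a h1 _ (h4 x hx))
      · rintro a ⟨h1, h2⟩
        refine ⟨inv_mem h1, fun x hx => ?_⟩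
        rw [P3.comm_inv_right]
        exact hCM' a h1 _ (inv_mem (h2 x hx))
    have hMS : M ≤ S := by
      refine normal_le hM hsim (fun m hm => ((hS m).mp hm).1) ?_
        (n₀ := s) ((hS s).mpr ⟨hs, fun x hx => ((hX₁ x).mp (hXX₁ hx)).2⟩) hsc
      intro n hn m hm
      obtain ⟨h1, h2⟩ := (hS m).mp hm
      refine (hS _).mpr ⟨mul_mem (mul_mem hn h1) (inv_mem hn), fun x hx => ?_⟩
      have h3 : ⁅x, n * m * n⁻¹⁆ = n * ⁅n⁻¹ * x * n, m⁆ * n⁻¹ := by
        simp only [commutatorElement_def]; group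
      rw [h3]
      exact hCM n hn _ (h2 _ (P3.conj_mem_of_norm' (hMX hn) hx))
    intro x hx
    refine comm_of_inv hM hsim hMW fun v hv hvv hv1 => ?_
    have h1 : ⁅x, v⁆ ∈ C := ((hS v).mp (hMS hv)).2 x hx
    exact P3.mem_of_comm_mem hXodd (hCX h1) hvv (P3.inv_commutator hvv) (((hC _).mp h1).2 v hv)
  exact key _ O rfl le_rfl hMO hy'O

end Cfsg.Agent.UGT.A7.M1
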