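import Cfsg.Agent.UGT.A7.Frame7

/-!
# THEOREM M1 (bb #14042), one member: the frame `T = P × Q*` for a Sylow 2-subgroup `T` of a group `E ≤ N(L)`

The same as `A7/Frame7.lean` (helper112), with `C(a)` replaced by an arbitrary subgroup `E` with `L ≤ E ≤ N(L)`.
-/

set_option autoImplicit false
set_option linter.unusedSectionVars false

open Cfsg Subgroup Equiv Equiv.Perm
open Cfsg.Agent.UAlt
open Cfsg.Agent.SignalizersComponents Cfsg.Agent.Lib
open Cfsg.Agent.SignalizersComponents.IntrinsicBasic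
open Cfsg.Agent.Intrinsic.Basic Cfsg.Agent.Intrinsic.Cen Cfsg.Agent.Intrinsic.Diag
open Cfsg.Agent.UGT.Triple Cfsg.Agent.UGT.TriBase Cfsg.Agent.UGT.A7

namespace Cfsg.Agent.UGT.A7.M1

universe u

variable {G : Type u} [Group G] {E L T : Subgroup G}

/-- the situation of section (2) -/
structure FrE (E L T : Subgroup G) (M : Lab L) : Prop where
  le : L ≤ E
  nor : E ≤ normalizer (L : Set G)
  syl : IsSyl E T
  inW : ∀ t ∈ T, M.φ t ∈ W0

variable [Finite G]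

theorem exists_frE (M : Lab L) (hc : L ≤ E) (hn : E ≤ normalizer (L : Set G)) (hT : IsSyl E T) :
    ∃ (M' : Lab L) (g : Perm (Fin 7)), (∀ x, M'.φ x = g * M.φ x * g⁻¹) ∧ FrE E L T M' := by
  have hTn : T ≤ normalizer (L : Set G) := hT.le.trans hn
  have h2 : IsPGroup 2 ↥((T.subgroupOf (normalizer (L : Set G))).map M.hom) := by
    refine IsPGroup.map ?_ _
    exact hT.two.of_injective (subgroupOfEquivOfLe hTn).toMonoidHom (subgroupOfEquivOfLe hTn).injective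
  obtain ⟨g, hg⟩ := exists_conj_W0 _ h2
  obtain ⟨M', hM'⟩ := exists_relabel M g
  refine ⟨M', g, hM', hc, hn, hT, fun t ht => ?_⟩
  rw [hM']
  exact hg _ ⟨⟨t, hTn ht⟩, ht, rfl⟩

namespace FrE

variable {M : Lab L} (F : FrE E L T M)

include F

theorem TN : T ≤ normalizer (L : Set G) := F.syl.le.trans F.nor

theorem Psyl : IsSyl L (T ⊓ L) := F.syl.inf F.le F.nor

theorem two : IsPGroup 2 ↥T := F.syl.two

theorem P8 : Nat.card ↥(T ⊓ L : Subgroup G) = 8 :=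
  (Star.exists_even M F.two F.TN F.Psyl inf_le_left).1

theorem P_inj {p q : G} (hp : p ∈ T ⊓ L) (hq : q ∈ T ⊓ L) (h : M.φ p = M.φ q) : p = q := by
  rw [M.eq_iff hp.2 hq.2] at h
  have h1 := eq_one_of_core F.two (T.mul_mem (T.inv_mem hp.1) hq.1) h
  exact inv_mul_eq_one.1 h1

theorem φP {p : G} (hp : p ∈ T ⊓ L) : M.φ p ∈ P0 := by
  rw [mem_P0]
  refine ⟨F.inW p hp.1, ?_⟩
  have := M.mem_alt p hp.2
  rw [alt_univ, mem_alternatingGroup] at this
  exact this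

/-- `M.φ : T ∩ L → P0` is bijective -/
theorem exists_P {σ : Perm (Fin 7)} (hσ : σ ∈ P0) : ∃ p ∈ T ⊓ L, M.φ p = σ := by
  let f : ↥(T ⊓ L : Subgroup G) → ↥P0 := fun p => ⟨M.φ p, F.φP p.2⟩
  have hf : Function.Injective f := fun p q h => Subtype.ext (F.P_inj p.2 q.2 (congrArg Subtype.val h))
  have hb : Function.Bijective f := (Nat.bijective_iff_injective_and_card f).2 ⟨hf, by
    rw [F.P8, card_P0]⟩
  obtain ⟨p, hp⟩ := hb.2 ⟨σ, hσ⟩
  exact ⟨p, p.2, congrArg Subtype.val hp⟩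

/-- `T ∩ L ≃ D₈` -/
theorem equivP : Nonempty (↥(T ⊓ L : Subgroup G) ≃* DihedralGroup 4) := by
  let f : ↥(T ⊓ L : Subgroup G) →* ↥P0 :=
    { toFun := fun p => ⟨M.φ p, F.φP p.2⟩
      map_one' := Subtype.ext M.one
      map_mul' := fun p q => Subtype.ext (M.mul _ _ (F.TN p.2.1) (F.TN q.2.1)) }
  have hf : Function.Injective f := fun p q h => Subtype.ext (F.P_inj p.2 q.2 (congrArg Subtype.val h))
  have hb : Function.Bijective f := (Nat.bijective_iff_injective_and_card f).2 ⟨hf, by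
    rw [F.P8, card_P0]⟩
  exact ⟨(MulEquiv.ofBijective f hb).trans P0equiv.symm⟩

theorem exists_z : ∃ z, EightS (T ⊓ L) z := by
  obtain ⟨e⟩ := F.equivP
  exact ⟨_, eightS_of_eight F.P8 (eight_dihedral.of_equiv e.symm)⟩

/-- a noncentral involution of `T ∩ L` -/
theorem exists_v {z : G} (h : EightS (T ⊓ L) z) : ∃ v ∈ T ⊓ L, v * v = 1 ∧ v ≠ 1 ∧ v ≠ z := by
  obtain ⟨e⟩ := F.equivP
  have key : ∃ b : DihedralGroup 4, b * b = 1 ∧ b ≠ 1 ∧ ∃ d, b * d ≠ d * b := by decide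
  obtain ⟨b, hb, hb1, d, hbd⟩ := key
  refine ⟨e.symm b, (e.symm b).2, ?_, ?_, ?_⟩
  · have h1 : e.symm b * e.symm b = 1 := by rw [← map_mul, hb, map_one]
    exact congrArg Subtype.val h1
  · intro h1
    apply hb1
    apply e.symm.injective
    rw [map_one]
    exact Subtype.ext h1
  · intro h1
    apply hbd
    apply e.symm.injective
    rw [map_mul, map_mul]
    apply Subtype.ext
    rw [Subgroup.coe_mul, Subgroup.coe_mul, h1]
    exact h.cen _ (e.symm d).2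

end FrE

namespace FrE

variable {M : Lab L} (F : FrE E L T M)

include F

theorem fix_iff {t : G} (ht : t ∈ T) : t ∈ fix T L ↔ M.φ t = 1 := by
  rw [mem_fix, M.fixes_iff (F.TN ht)]
  exact ⟨fun h => h.2, fun h => ⟨ht, h⟩⟩

theorem fix_le_Qs : fix T L ≤ Qs T L M F.TN := fun _ ht =>
  mem_Qs.2 ⟨ht.1, Or.inl ((F.fix_iff ht.1).1 ht)⟩

/-- `[P, Q*] = 1` -/
theorem comm_PQ {p q : G} (hp : p ∈ T ⊓ L) (hq : q ∈ Qs T L M F.TN) : p * q = q * p := by
  obtain ⟨hq1, hq2⟩ := mem_Qs.1 hq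
  have hpN := F.TN hp.1
  have hqN := F.TN hq1
  have h1 : p * q * p⁻¹ * q⁻¹ ∈ L := by
    have h2 : q * p⁻¹ * q⁻¹ ∈ L := (mem_normalizer_iff.1 hqN _).1 (L.inv_mem hp.2)
    have h3 : p * q * p⁻¹ * q⁻¹ = p * (q * p⁻¹ * q⁻¹) := by group
    rw [h3]
    exact L.mul_mem hp.2 h2
  have h2 : M.φ p * M.φ q = M.φ q * M.φ p := by
    rcases hq2 with h3 | h3 <;> rw [h3]
    · rw [one_mul, mul_one]
    · exact w0_central (F.inW p hp.1)
  have h3 : M.φ (p * q * p⁻¹ * q⁻¹) = 1 := by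
    rw [M.mul _ _ (mul_mem (mul_mem hpN hqN) (inv_mem hpN)) (inv_mem hqN), M.conj hpN hqN, M.inv hqN,
      h2, mul_inv_cancel_right, mul_inv_cancel]
  rw [M.core_iff _ h1] at h3
  have h4 := eq_one_of_core F.two (T.mul_mem (T.mul_mem (T.mul_mem hp.1 hq1) (T.inv_mem hp.1))
    (T.inv_mem hq1)) h3
  calc p * q = (p * q * p⁻¹ * q⁻¹) * (q * p) := by group
    _ = q * p := by rw [h4, one_mul]

/-- **(2)** `T = P × Q*` -/
theorem twoP : TwoP T (T ⊓ L) (Qs T L M F.TN) where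
  PT := inf_le_left
  RT := fun t ht => (mem_Qs.1 ht).1
  sup := by
    intro t ht
    have h1 : ∃ σ ∈ P0, M.φ t = σ ∨ M.φ t = w0 * σ := by
      rcases W0_cases (F.inW t ht) with h | h
      · exact ⟨_, h, Or.inl rfl⟩
      · refine ⟨_, h, Or.inr ?_⟩
        have hw : w0 * w0 = 1 := by decide
        rw [← mul_assoc, hw, one_mul]
    obtain ⟨σ, hσ, h1⟩ := h1
    obtain ⟨p, hp, hpσ⟩ := F.exists_P hσ
    refine ⟨p, hp, p⁻¹ * t, mem_Qs.2 ⟨T.mul_mem (T.inv_mem hp.1) ht, ?_⟩, by group⟩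
    rw [M.mul _ _ (inv_mem (F.TN hp.1)) (F.TN ht), M.inv (F.TN hp.1), hpσ]
    rcases h1 with h1 | h1 <;> rw [h1]
    · exact Or.inl (inv_mul_cancel _)
    · right
      rw [← w0_central (mem_P0.1 hσ).1, inv_mul_cancel_left]
  comm := fun p hp q hq => F.comm_PQ hp hq
  inf := by
    intro p hp hq
    obtain ⟨-, h⟩ := mem_Qs.1 hq
    refine F.P_inj hp (one_mem _) ?_
    rw [M.one]
    rcases h with h | h
    · exact h
    · exfalso
      apply w0_notin
      rw [← h]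
      exact F.φP hp

end FrE

end Cfsg.Agent.UGT.A7.M1
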