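import Cfsg.Agent.UGT.A7.M1.Gd

/-!
# CANON for generating four-groups, steps (1), (3), (4): frames and the functor

`Frame M Y`: `M` perfect with `QF (M / O(M))`, `Y ≤ C(M)` a four-group, for `s ∈ Y#` a 2-component
`L` of `C(s)` with `M ≤ L = M O(L)`.
`FW Wh M Y`: a conjugation invariant function on subgroups, constant on the subgroups of order 8 of `Y V`,
`Gd M V`.
-/

set_option autoImplicit false
set_option linter.unusedSectionVars false
set_option linter.unusedVariables false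

open Cfsg Subgroup
open Cfsg.Agent.SignalizersComponents Cfsg.Agent.Lib
open Cfsg.Agent.SignalizersComponents.IntrinsicBasic
open Cfsg.Agent.SignalizersComponents.IntrinsicIntr
open Cfsg.Agent.Intrinsic.Basic Cfsg.Agent.Intrinsic.Cen
open Cfsg.Agent.McLLyComp.Act
open Cfsg.Agent.UGT.Triple Cfsg.Agent.UGT.TMCSyl
open Cfsg.Agent.UGT.TriBase (IsSyl exists_isSyl card_cj fixes_self' exists_central isPGroup_cj)
open Cfsg.Agent.UGT.L2Inner
open Cfsg.Agent.UGT.L2i (At cj_of_comm eq_one_of_center eq_one_of_fixes)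
open scoped commutatorElement

universe u

namespace Cfsg.Agent.UGT.A7.M1

variable {G : Type u} [Group G]

/-- `M` is a perfect group with `M / O(M)` simple with (Gam), `Y ≤ C(M)` is a four-group and `M` covers a
2-component of `C(s)`, `s ∈ Y#`. -/
structure Frame (M Y : Subgroup G) : Prop where
  self : IsComp M M
  facts : QF (↥M ⧸ oddCore ↥M)
  four : Four Y
  comm : ∀ m ∈ M, ∀ y ∈ Y, m * y = y * m
  ex : ∀ s ∈ Y, s ≠ 1 → ∃ L, IsComp (centralizer ({s} : Set G)) L ∧ M ≤ L ∧ M ⊔ core L = L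

/-- the functor -/
structure FW (Wh : Subgroup G → Subgroup G) (M Y : Subgroup G) : Prop where
  cj : ∀ (g : G) (D : Subgroup G), Wh (cj g D) = cj g (Wh D)
  eq : ∀ {V : Subgroup G}, Gd M V → ∀ {D D' : Subgroup G},
    D ≤ Y ⊔ V → D' ≤ Y ⊔ V → Nat.card D = 8 → Nat.card D' = 8 → Wh D = Wh D'

variable {Wh : Subgroup G → Subgroup G} {M Y V W : Subgroup G}

theorem FW.mem_of_normalizes (hW : FW Wh M Y) {g : G} {D : Subgroup G} (h : IntrinsicBasic.cj g D = D) :
    g ∈ normalizer (Wh D : Set G) := by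
  rw [mem_normalizer_iff_cj, ← hW.cj, h]

section finite

variable [Finite G]

namespace Frame

variable (F : Frame M Y)
include F

theorem le_cent {s : G} (hs : s ∈ Y) : M ≤ centralizer ({s} : Set G) := fun m hm =>
  mem_c (F.comm m hm s hs)

theorem fixes {s : G} (hs : s ∈ Y) : Fixes s M := fixes_self' (F.le_cent hs)

theorem eq_one {x : G} (hx : x ∈ M) (hf : Fixes x M) (hxx : x * x = 1) : x = 1 :=
  eq_one_of_fixes F.facts.simple F.facts.nab hx hf hxx

theorem notMem {s : G} (hs : s ∈ Y) (hs1 : s ≠ 1) : s ∉ M := fun h =>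
  hs1 (F.eq_one h (F.fixes hs) (F.four.elem s hs))

variable (hV : Four V) (hVM : V ≤ M)
include hV hVM

theorem notMem_V {s : G} (hs : s ∈ Y) (hs1 : s ≠ 1) : s ∉ V := fun h => F.notMem hs hs1 (hVM h)

theorem comm_V {v s : G} (hv : v ∈ V) (hs : s ∈ Y) : v * s = s * v := F.comm v (hVM hv) s hs

theorem notMem_Y {v : G} (hv : v ∈ V) (hv1 : v ≠ 1) : v ∉ Y := fun h =>
  hv1 (F.eq_one (hVM hv) (F.fixes h) (hV.elem v hv))

theorem card_s {s : G} (hs : s ∈ Y) (hs1 : s ≠ 1) : Nat.card (jn s V) = 8 :=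
  hV.card_jn (F.four.elem s hs) (fun p hp => F.comm_V hV hVM hp hs) (F.notMem_V hV hVM hs hs1)

theorem card_v {v : G} (hv : v ∈ V) (hv1 : v ≠ 1) : Nat.card (jn v Y) = 8 :=
  F.four.card_jn (hV.elem v hv) (fun p hp => (F.comm_V hV hVM hv hp).symm) (F.notMem_Y hV hVM hv hv1)

theorem s_le {s : G} (hs : s ∈ Y) : jn s V ≤ Y ⊔ V := jn_le (mem_sup_left hs) le_sup_right

theorem v_le {v : G} (hv : v ∈ V) : jn v Y ≤ Y ⊔ V := jn_le (mem_sup_right hv) le_sup_left

theorem mem_sup {x : G} (hx : x ∈ Y ⊔ V) : ∃ s ∈ Y, ∃ v ∈ V, x = s * v := by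
  have hn : V ≤ normalizer (Y : Set G) := by
    intro v hv
    rw [mem_normalizer_iff_cj]
    exact cj_of_comm fun s hs => F.comm_V hV hVM hv hs
  have h1 : x ∈ ((Y ⊔ V : Subgroup G) : Set G) := hx
  rw [sup_comm, Subgroup.coe_mul_of_left_le_normalizer_right V Y hn] at h1
  obtain ⟨v, hv, s, hs, rfl⟩ := h1
  exact ⟨s, hs, v, hv, F.comm_V hV hVM hv hs⟩

theorem elem : Elem (Y ⊔ V) := by
  intro x hx
  obtain ⟨s, hs, v, hv, rfl⟩ := F.mem_sup hV hVM hx
  exact mul_sq (F.four.elem s hs) (hV.elem v hv) (F.comm_V hV hVM hv hs).symm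

theorem card : Nat.card ↥(Y ⊔ V) = 16 := by
  obtain ⟨a, ha, ha1, -⟩ := F.four.exists_ne 1
  obtain ⟨b, hb, hb1, hba⟩ := F.four.exists_ne a
  have haa := F.four.elem a ha
  have hbb := F.four.elem b hb
  have hE := F.elem hV hVM
  have h1 : Y ⊔ V = jn a (jn b V) := by
    apply le_antisymm
    · refine sup_le ?_ ((le_jn _ _).trans (le_jn _ _))
      intro y hy
      have h1 : a ∈ jn a (jn b V) := self_mem_jn _ _
      have h2 : b ∈ jn a (jn b V) := le_jn _ _ (self_mem_jn _ _)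
      rcases F.four.mem_cases ha hb ha1 hb1 hba hy with rfl | rfl | rfl | rfl
      · exact one_mem _
      · exact h1
      · exact h2
      · exact mul_mem h1 h2
    · exact jn_le (mem_sup_left ha) (jn_le (mem_sup_left hb) le_sup_right)
  have h2 : jn b V ≤ Y ⊔ V := F.s_le hV hVM hb
  rw [h1, card_jn (fun x hx => hE x (h2 hx)) haa (fun p hp => hE.comm (h2 hp) (mem_sup_left ha)),
    F.card_s hV hVM hb hb1]
  intro h
  have h3 : ∀ p ∈ V, p * b = b * p := fun p hp => F.comm_V hV hVM hp hb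
  rcases (mem_jn hbb h3).mp h with h4 | h4
  · exact F.notMem_V hV hVM ha ha1 h4
  · refine F.notMem_V hV hVM (mul_mem hb ha) ?_ h4
    intro h5
    apply hba
    have h6 : b = a⁻¹ := eq_inv_of_mul_eq_one_left h5
    rw [h6]
    exact inv_eq_of_mul_eq_one_left haa

end Frame

namespace Frame

variable (F : Frame M Y) (hW : FW Wh M Y) (hV : Gd M V)
include F hW hV

/-- `C(D) ≤ N(W)`, `D ≤ Y V` of order 8 -/
theorem cent_le {D D' : Subgroup G} (hD : D ≤ Y ⊔ V) (hD8 : Nat.card D = 8) (hD' : D' ≤ Y ⊔ V)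
    (hD'8 : Nat.card D' = 8) {x : G} (hx : ∀ d ∈ D, x * d = d * x) : x ∈ normalizer (Wh D' : Set G) := by
  rw [hW.eq hV hD' hD hD'8 hD8]
  exact hW.mem_of_normalizes (cj_of_comm hx)

/-- **(1)** `M ≤ N(W)` -/
theorem M_le {D : Subgroup G} (hD : D ≤ Y ⊔ V) (hD8 : Nat.card D = 8) :
    M ≤ normalizer (Wh D : Set G) := by
  refine hV.gen _ fun v hv hv1 x hx => ?_
  have hxv := comm_c hx.2
  have hx := hx.1
  refine F.cent_le hW hV (F.v_le hV.four hV.le hv) (F.card_v hV.four hV.le hv hv1) hD hD8 fun d hd => ?_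
  rcases (mem_jn (hV.four.elem v hv) fun p hp => (F.comm_V hV.four hV.le hv hp).symm).mp hd with h | h
  · exact F.comm x hx d h
  · have h1 := F.comm x hx _ h
    have h2 : d = v * (v * d) := by rw [← mul_assoc, hV.four.elem v hv, one_mul]
    calc x * d = (x * v) * (v * d) := by rw [mul_assoc, ← h2]
      _ = (v * x) * (v * d) := by rw [hxv]
      _ = v * (x * (v * d)) := by group
      _ = v * ((v * d) * x) := by rw [h1]
      _ = (v * (v * d)) * x := by group
      _ = d * x := by rw [← h2]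

/-- **(2)** `O(C(s)) ≤ N(W)` -/
theorem core_le_norm {D : Subgroup G} (hD : D ≤ Y ⊔ V) (hD8 : Nat.card D = 8) {s : G} (hs : s ∈ Y) :
    core (centralizer ({s} : Set G)) ≤ normalizer (Wh D : Set G) := by
  have : Fact (Nat.Prime 2) := ⟨Nat.prime_two⟩
  obtain ⟨E, hE⟩ : ∃ E, E = Y ⊔ V := ⟨_, rfl⟩
  have hEe : Elem E := hE ▸ F.elem hV.four hV.le
  have hE16 : Nat.card E = 16 := hE ▸ F.card hV.four hV.le
  have hEA : IsElementaryAbelian 2 E := by
    refine ⟨⟨⟨fun a b => Subtype.ext (hEe.comm a.2 b.2)⟩⟩, fun a ha => ?_⟩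
    rw [pow_two]
    exact hEe a ha
  have hE1 : E ≠ ⊥ := by
    rintro rfl
    rw [card_bot] at hE16
    omega
  have hEy : E ≤ centralizer ({s} : Set G) := by
    intro x hx
    exact mem_c (hEe.comm hx (hE ▸ mem_sup_left hs))
  have h1 := CoprimeHyperplane.le_iSup_hyperplane (p := 2) E (core (centralizer ({s} : Set G))) hEA hE1
    (coprime_card_core _) (hEy.trans (le_normalizer_core _))
  rw [h1]
  refine iSup_le fun ⟨B, hBE, hB⟩ => ?_
  have hB8 : Nat.card B = 8 := by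
    have h2 := Subgroup.relIndex_mul_relIndex (⊥ : Subgroup G) B E bot_le hBE
    rw [relIndex_bot_left, relIndex_bot_left, hB, hE16] at h2
    omega
  intro x hx
  refine F.cent_le hW hV (hE ▸ hBE) hB8 hD hD8 fun d hd => ?_
  exact (mem_centralizer_iff.mp hx.2 d hd).symm

/-- `L ≤ N(W)` for `L = M O(L)` a 2-component of `C(s)` -/
theorem L_le {D : Subgroup G} (hD : D ≤ Y ⊔ V) (hD8 : Nat.card D = 8) {s : G} (hs : s ∈ Y)
    {L : Subgroup G} (hL : IsComp (centralizer ({s} : Set G)) L) (hsup : M ⊔ core L = L) :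
    L ≤ normalizer (Wh D : Set G) := by
  have h : M ⊔ core L ≤ normalizer (Wh D : Set G) :=
    sup_le (F.M_le hW hV hD hD8) (hL.core_le_core.trans (F.core_le_norm hW hV hD hD8 hs))
  rwa [hsup] at h

end Frame

namespace Frame

variable (F : Frame M Y) (hW : FW Wh M Y)
include F hW

/-- **(3)** all good four-groups of `M` give the same `W` -/
theorem eq_of_four (hV : Gd M V) {V' : Subgroup G} (hV' : Gd M V') {s : G}
    (hs : s ∈ Y) (hs1 : s ≠ 1) : Wh (jn s V) = Wh (jn s V') := by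
  obtain ⟨v, hv, hv1, -⟩ := hV.four.exists_ne 1
  obtain ⟨w, hw, hw1, -⟩ := hV'.four.exists_ne 1
  obtain ⟨m, hm, hmv⟩ := exists_conj F.facts (hV.le hv) (hV'.le hw) (hV.four.elem v hv) hv1
    (hV'.four.elem w hw) hw1
  have hms : m * s = s * m := F.comm m hm s hs
  have e0 : Wh (jn s (cj m V)) = Wh (jn s V) := by
    rw [← cj_jn_of_comm hms, hW.cj]
    exact mem_normalizer_iff_cj.mp (F.M_le hW hV (F.s_le hV.four hV.le hs) (F.card_s hV.four hV.le hs hs1) hm)
  have hV₁ : Gd M (cj m V) := hV.cj_of (le_normalizer hm)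
  have hw₁ : w ∈ cj m V := by rw [← hmv]; exact conj_mem_cj hv
  have e1 : Wh (jn s (cj m V)) = Wh (jn w Y) :=
    hW.eq hV₁ (F.s_le hV₁.four hV₁.le hs) (F.v_le hV₁.four hV₁.le hw₁) (F.card_s hV₁.four hV₁.le hs hs1)
      (F.card_v hV₁.four hV₁.le hw₁ hw1)
  have e2 : Wh (jn s V') = Wh (jn w Y) :=
    hW.eq hV' (F.s_le hV'.four hV'.le hs) (F.v_le hV'.four hV'.le hw) (F.card_s hV'.four hV'.le hs hs1)
      (F.card_v hV'.four hV'.le hw hw1)
  rw [← e0, e1, e2]

/-- **(4)** the same for all good four-groups of `L` -/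
theorem eq_of_L (hV : Gd M V) {V' L : Subgroup G} {s : G} (hs : s ∈ Y) (hs1 : s ≠ 1)
    (hL : IsComp (centralizer ({s} : Set G)) L) (hsup : M ⊔ core L = L) (hV' : Gd L V') :
    Wh (jn s V') = Wh (jn s V) := by
  have hML : M ≤ L := by rw [← hsup]; exact le_sup_left
  obtain ⟨S, hS, hVS⟩ := exists_isSyl (E := M) hV.four.elem.isPGroup hV.le
  have hSL := isSyl_of_cover hsup hS
  obtain ⟨n, hn, hle⟩ := hSL.conj hV'.four.elem.isPGroup hV'.le
  have hV₁ : cj n⁻¹ V' ≤ S := by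
    have := cj_mono (g := n⁻¹) hle
    rwa [cj_inv_cj] at this
  have hVL : Gd L (cj n⁻¹ V') := hV'.cj_of (inv_mem (le_normalizer hn))
  have hVM : Gd M (cj n⁻¹ V') := hVL.of_sup (hV₁.trans hS.le) hML hsup
  have e1 := F.eq_of_four hW hVM hV hs hs1
  have hns : n * s = s * n := comm_c (hL.le hn)
  have e3 : Wh (jn s V') = cj n (Wh (jn s (cj n⁻¹ V'))) := by
    rw [← hW.cj, cj_jn_of_comm hns, cj_cj_inv]
  rw [e3, e1]
  exact mem_normalizer_iff_cj.mp (F.L_le hW hV (F.s_le hV.four hV.le hs) (F.card_s hV.four hV.le hs hs1) hs hL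
    hsup hn)

/-- **(4)** `C(s) ∩ N(L) ≤ N(W)` -/
theorem mem_norm (hV : Gd M V) {L : Subgroup G} {s : G} (hs : s ∈ Y) (hs1 : s ≠ 1)
    (hL : IsComp (centralizer ({s} : Set G)) L) (hsup : M ⊔ core L = L) {g : G} (hg : g * s = s * g)
    (hgL : g ∈ normalizer (L : Set G)) : g ∈ normalizer (Wh (jn s V) : Set G) := by
  have hML : M ≤ L := by rw [← hsup]; exact le_sup_left
  rw [mem_normalizer_iff_cj, ← hW.cj, cj_jn_of_comm hg]
  exact F.eq_of_L hW hV hs hs1 hL hsup ((hV.sup hML hsup).cj_of hgL)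

end Frame

end finite

end Cfsg.Agent.UGT.A7.M1
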