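import Cfsg.Agent.UGT.A7.M1.Perm7F
import Cfsg.Agent.UGT.A7.M1.WBGen
import Cfsg.Agent.UGT.A7.M1.Gd
import Cfsg.Agent.UGT.A7.World
import Cfsg.Agent.UGT.A7.Frame7
import Cfsg.Agent.UGT.Res.KFacts
import Cfsg.Agent.UGT.L2i.FactsRep
import Cfsg.Agent.UAlt.HeKill

/-!
# Weak 2-balance for `M / O(M) ≅ A₇`: labels

* `GT.of_lab`, `KT.of_lab`; `cen_of_lab`: a four-group of `L` contains the involutions of `L` commuting with it.
* `not_reg`: a generating four-group is not regular.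
* `lab_of_three`: in the world `W7` a 2-component with three triples `(x, w, K)`, `(y, w, K)`, `(x y, w, K)` has type `A₇`.
* `lab_dich`: the action of an elementary abelian group containing a regular four-group.
* `YF7`: the frame.
-/

set_option autoImplicit false
set_option linter.unusedSectionVars false

open Cfsg Subgroup Equiv Equiv.Perm
open Cfsg.Agent.UAlt
open Cfsg.Agent.SignalizersComponents Cfsg.Agent.Lib
open Cfsg.Agent.SignalizersComponents.IntrinsicBasic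
open Cfsg.Agent.SignalizersComponents.PLayerAut
open Cfsg.Agent.Intrinsic.Basic Cfsg.Agent.Intrinsic.Cen Cfsg.Agent.Intrinsic.Diag
open Cfsg.Agent.McLLyComp.Act
open Cfsg.Agent.UGT.Triple Cfsg.Agent.UGT.TriBase
open Cfsg.Agent.UGT.Iface (Bar IsL2 IsAlt IsInner)
open Cfsg.Agent.UGT.L2Inner (order_two isPGroup_of_sq exists_gens exists_not_mem meet_or_mul
  fixes_of_comm_core eq_one_of_syl L2T P7 b1 b2 b3 ta IsV jn Four Bad7)
open Cfsg.Agent.UGT.TMCSyl (Elem)
open Cfsg.Agent.UAlt.HeKill (isSolvable_cent)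
open scoped commutatorElement

namespace Cfsg.Agent.UGT.A7.M1

universe u

variable {G : Type u} [Group G] [Finite G] {K L : Subgroup G}

theorem nf_of_lab (M : Lab L) {v : G} (hv : v ∈ L) (hvv : v * v = 1) (hv1 : v ≠ 1) : ¬ Fixes v L := by
  intro h
  rw [← M.fixes_iff (le_normalizer hv), M.core_iff v hv] at h
  exact hv1 (eq_one_of_mem_core_sq h hvv)

/-- the label of an involution of `L` -/
theorem fix_of_mem (M : Lab L) {v : G} (hv : v ∈ L) (hvv : v * v = 1) (hv1 : v ≠ 1) :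
    (fixIn (Finset.univ : Finset (Fin 7)) (M.φ v)).card = 3 := by
  refine fix_card ?_ (M.sq (le_normalizer hv) hvv) fun h => ?_
  · have h1 := M.mem_alt v hv
    rw [alt_univ] at h1
    exact mem_alternatingGroup.mp h1
  · rw [M.core_iff v hv] at h
    exact hv1 (eq_one_of_mem_core_sq h hvv)

theorem phi_comm_of_fixes (M : Lab L) {x y : G} (hx : x ∈ normalizer (L : Set G)) (hy : y ∈ normalizer (L : Set G))
    (h : Fixes ⁅x, y⁆ L) : M.φ x * M.φ y = M.φ y * M.φ x := by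
  rw [← M.fixes_iff h.1, commutatorElement_def, M.mul _ _ (mul_mem (mul_mem hx hy) (inv_mem hx)) (inv_mem hy),
    M.conj hx hy, M.inv hy, mul_inv_eq_one, mul_inv_eq_iff_eq_mul] at h
  exact h

theorem GT.of_lab (M : Lab L) : GT L where
  nf := fun v hv hvv hv1 => nf_of_lab M hv hvv hv1
  sol := by
    intro v hv hvv hv1 I hI hII hc i hi
    have hvN := le_normalizer (H := L) hv
    have h3 := fix_of_mem M hv hvv hv1
    have hs := isSolvable_cent (M.mem_sym v hvN) (M.sq hvN hvv) (by omega)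
      (by rw [h3, Finset.card_univ, Fintype.card_fin]; norm_num)
    obtain ⟨J, hJ⟩ : ∃ J, J = (I.subgroupOf (normalizer (L : Set G))).map M.hom := ⟨_, rfl⟩
    have hJle : J ≤ sym (Finset.univ : Finset (Fin 7)) ⊓ centralizer ({M.φ v} : Set P7) := by
      rw [hJ]
      rintro _ ⟨⟨x, hx⟩, hxI, rfl⟩
      exact ⟨M.mem_sym x hx, mem_centralizer_singleton_iff.mpr
        (phi_comm_of_fixes M hx hvN (hc x (mem_subgroupOf.mp hxI)))⟩
    have hJJ : ⁅J, J⁆ = J := by
      rw [hJ, ← map_commutator]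
      congr 1
      apply le_antisymm
      · rw [commutator_le]
        intro a ha b hb
        rw [mem_subgroupOf] at ha hb ⊢
        have h1 := commutator_mem_commutator ha hb
        rw [hII] at h1
        exact h1
      · intro x hx
        rw [mem_subgroupOf, ← hII] at hx
        have h1 : ⁅I, I⁆ = (⁅I.subgroupOf (normalizer (L : Set G)), I.subgroupOf (normalizer (L : Set G))⁆).map
            (normalizer (L : Set G)).subtype := by
          rw [map_commutator, map_subgroupOf_eq_of_le hI]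
        rw [h1] at hx
        obtain ⟨y, hy, hyx⟩ := hx
        have h2 : y = x := Subtype.ext hyx
        rw [← h2]
        exact hy
    have hJb : J = ⊥ := by
      have h1 : Group.IsSolvable J := by
        have h2 : Function.Injective (Subgroup.inclusion hJle) := Subgroup.inclusion_injective hJle
        exact Group.isSolvable_of_isSolvable_injective h2
      by_contra hne
      have h2 : Group.IsPerfect ↥J := by
        rw [isPerfect_iff]
        exact hJJ
      have h3 : Nontrivial ↥J := (Subgroup.nontrivial_iff_ne_bot J).mpr hne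
      have h4 := h2.commutator_eq_top
      have h5 : commutator ↥J < ⊤ := Group.IsSolvable.commutator_lt_top_of_nontrivial ↥J
      exact h5.ne h4
    rw [← M.fixes_iff (hI hi)]
    have h1 : M.φ i ∈ J := by
      rw [hJ]
      exact ⟨⟨i, hI hi⟩, mem_subgroupOf.mpr hi, rfl⟩
    rw [hJb, mem_bot] at h1
    exact h1

/-- `L → A₇` -/
theorem exists_A7 (M : Lab L) : ∃ f : ↥L →* ↥(alternatingGroup (Fin 7)), Function.Surjective f ∧
    ∀ x : ↥L, ((f x : ↥(alternatingGroup (Fin 7))) : P7) = M.φ x := by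
  refine ⟨(MulEquiv.subgroupCongr (alt_univ)).toMonoidHom.comp M.homK, ?_, fun x => rfl⟩
  exact (MulEquiv.subgroupCongr alt_univ).surjective.comp M.homK_surjective

/-- a Sylow 2-subgroup of a 2-component of type `A₇` has two distinct involutions -/
theorem exists_two_inv7 {X K R : Subgroup G} (hK : IsComp X K) (M : Lab K) (hR : IsSyl X R) :
    ∃ a ∈ R ⊓ K, ∃ b ∈ R ⊓ K, a * a = 1 ∧ b * b = 1 ∧ a ≠ 1 ∧ b ≠ 1 ∧ a ≠ b := by
  have hp : Fact (Nat.Prime 2) := ⟨Nat.prime_two⟩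
  obtain ⟨S, hS⟩ := hR.exists_sylow
  obtain ⟨K', hK'⟩ : ∃ K', K' = K.subgroupOf X := ⟨_, rfl⟩
  have hsub : K'.IsSubnormal := hK' ▸ hK.2.1
  have h1 : IsPGroup 2 ((S : Subgroup X).subgroupOf K') := S.2.comap_subtype
  have h2 : ¬ 2 ∣ ((S : Subgroup X).subgroupOf K').index := by
    intro h
    have h3 : (S : Subgroup X).relIndex K' ∣ (S : Subgroup X).index :=
      PCompCore.relIndex_dvd_index_of_subnormal (S : Subgroup X) hsub
    exact S.not_dvd_index (h.trans h3)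
  obtain ⟨T, hT⟩ : ∃ T : Sylow 2 K', (T : Subgroup K') = (S : Subgroup X).subgroupOf K' :=
    ⟨h1.toSylow h2, rfl⟩
  have hKX : ∀ x : ↥X, x ∈ K' → (x : G) ∈ K := by
    intro x hx
    rw [hK', mem_subgroupOf] at hx
    exact hx
  have hKK : ∀ k : ↥K', ((k : ↥X) : G) ∈ K := fun k => hKX _ k.2
  obtain ⟨f0, hf0, hf0φ⟩ := exists_A7 M
  let f : ↥K' →* ↥(alternatingGroup (Fin 7)) := f0.comp
    { toFun := fun k => ⟨((k : ↥X) : G), hKK k⟩
      map_one' := rfl
      map_mul' := fun _ _ => rfl }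
  have hf : Function.Surjective f := by
    intro q
    obtain ⟨⟨k, hk⟩, rfl⟩ := hf0 q
    exact ⟨⟨⟨k, hK.le hk⟩, by rw [hK', mem_subgroupOf]; exact hk⟩, rfl⟩
  obtain ⟨a, ha, b, hb, haa, hbb, ha1, hb1, hab⟩ := two_inv_syl (T.mapSurjective hf)
  obtain ⟨a', ha', rfl⟩ := ha
  obtain ⟨b', hb', rfl⟩ := hb
  have hmem : ∀ t ∈ (T : Subgroup K'), (((t : ↥X) : G)) ∈ R := by
    intro t ht
    rw [hT, mem_subgroupOf] at ht
    rw [← hS]
    exact ⟨_, ht, rfl⟩
  have hsq : ∀ t ∈ (T : Subgroup K'), f t * f t = 1 → ((t : ↥X) : G) * ((t : ↥X) : G) = 1 := by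
    intro t ht h
    refine eq_one_of_syl hR (K := K) (mul_mem (hmem t ht) (hmem t ht)) ?_
    rw [← M.core_iff _ (K.mul_mem (hKK t) (hKK t)), M.mul _ _ (le_normalizer (hKK t)) (le_normalizer (hKK t))]
    have h3 := congrArg Subtype.val h
    rw [Subgroup.coe_mul] at h3
    have h4 : ((f t : ↥(alternatingGroup (Fin 7))) : P7) = M.φ ((t : ↥X) : G) := hf0φ ⟨((t : ↥X) : G), hKK t⟩
    rw [h4] at h3
    exact h3
  refine ⟨((a' : ↥X) : G), ⟨hmem a' ha', hKK a'⟩, ((b' : ↥X) : G), ⟨hmem b' hb', hKK b'⟩,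
    hsq a' ha' haa, hsq b' hb' hbb, ?_, ?_, ?_⟩
  · intro h
    have h3 : a' = 1 := Subtype.ext (Subtype.ext h)
    exact ha1 (by rw [h3, map_one])
  · intro h
    have h3 : b' = 1 := Subtype.ext (Subtype.ext h)
    exact hb1 (by rw [h3, map_one])
  · intro h
    have h3 : a' = b' := Subtype.ext (Subtype.ext h)
    exact hab (by rw [h3])

theorem KT.of_lab (M : Lab K) : KT K :=
  ⟨fun _ hv hvv hv1 => nf_of_lab M hv hvv hv1, fun _ _ hK hR => exists_two_inv7 hK M hR⟩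

/-- `A₇` has 2-rank two -/
theorem cen_of_lab (M : Lab L) {P : Subgroup G} (hP : Four P) (hPL : P ≤ L) {h : G} (hh : h ∈ L)
    (hhh : h * h = 1) (hc : ∀ p ∈ P, h * p = p * h) : h ∈ P := by
  by_contra hn
  have hc' : ∀ p ∈ P, p * h = h * p := fun p hp => (hc p hp).symm
  have h8 := hP.card_jn hhh hc' hn
  have hE : Elem (jn h P) := L2Inner.elem_jn hP.elem hhh hc'
  have hle : jn h P ≤ L := L2Inner.jn_le hh hPL
  obtain ⟨f, -, hf⟩ := exists_A7 M
  obtain ⟨g, hg⟩ : ∃ g : ↥(jn h P) →* ↥(alternatingGroup (Fin 7)), g = f.comp (Subgroup.inclusion hle) := ⟨_, rfl⟩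
  have hgφ : ∀ x : ↥(jn h P), ((g x : ↥(alternatingGroup (Fin 7))) : P7) = M.φ (x : G) := by
    intro x
    rw [hg]
    exact hf _
  have hinj : Function.Injective g := by
    rw [injective_iff_map_eq_one]
    intro x hx
    apply Subtype.ext
    refine eq_one_of_mem_core_sq (K := L) ?_ (hE x x.2)
    rw [← M.core_iff _ (hle x.2), ← hgφ, hx]
    rfl
  refine no_eight (A := g.range) ?_ ?_
  · rw [← h8]
    exact (Nat.card_congr (MonoidHom.ofInjective hinj).toEquiv).symm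
  · rintro _ ⟨a, rfl⟩ _ ⟨b, rfl⟩
    rw [← map_mul, ← map_mul]
    congr 1
    exact Subtype.ext (hE.comm a.2 b.2)

/-- a generating four-group is not regular -/
theorem not_reg {V : Subgroup G} (hG : Gd L V) (M : Lab L) {F : Finset (Fin 7)} (hF : F.card = 3)
    (h : ∀ v ∈ V, v ≠ 1 → fixIn (Finset.univ : Finset (Fin 7)) (M.φ v) = F) : False := by
  let H : Subgroup G :=
    { carrier := {m | m ∈ L ∧ ∀ i, M.φ m i ∈ F ↔ i ∈ F}
      mul_mem' := by
        rintro a b ⟨ha, ha'⟩ ⟨hb, hb'⟩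
        refine ⟨mul_mem ha hb, fun i => ?_⟩
        rw [M.mul _ _ (le_normalizer ha) (le_normalizer hb), Perm.mul_apply, ha', hb']
      one_mem' := ⟨one_mem _, fun i => by rw [M.one]; rfl⟩
      inv_mem' := by
        rintro a ⟨ha, ha'⟩
        refine ⟨inv_mem ha, fun i => ?_⟩
        rw [M.inv (le_normalizer ha), ← ha', show M.φ a ((M.φ a)⁻¹ i) = i from (M.φ a).apply_symm_apply i] }
  have h1 : L ≤ H := by
    refine hG.gen H fun v hv hv1 m hm => ⟨hm.1, fun i => ?_⟩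
    have hc := M.comm (le_normalizer hm.1) (le_normalizer (hG.le hv)) (comm_c hm.2)
    have hc' : M.φ m (M.φ v i) = M.φ v (M.φ m i) := congrArg (fun z : P7 => z i) hc
    have hfx : ∀ j, j ∈ F ↔ M.φ v j = j := fun j => by
      rw [← h v hv hv1, mem_fixIn]
      simp
    rw [hfx, hfx, ← hc']
    exact (M.φ m).injective.eq_iff
  obtain ⟨σ, hσ, i, hi, hi'⟩ := exists_move hF
  obtain ⟨m, hm, rfl⟩ := M.lift σ hσ
  exact hi' (((h1 hm).2 i).mpr hi)

/-- in the world `W7`: three triples on a four-group -/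
theorem lab_of_three (hW : W7 G) {x y w : G} (T1 : IsTriple x w K) (T2 : IsTriple y w K)
    (T3 : IsTriple (x * y) w K) : Nonempty (Lab K) := by
  have key : IsAlt 7 (Bar K) → Nonempty (Lab K) := fun ⟨e⟩ =>
    Mod.nonempty_of_equiv (Ω := Fin 7) (by rw [Finset.card_univ, Fintype.card_fin])
      (by rw [Finset.card_univ]) e
  rcases hW _ _ _ T1 with ⟨h1, hi1⟩ | h1
  · rcases hW _ _ _ T2 with ⟨h2, hi2⟩ | h2
    · rcases hW _ _ _ T3 with ⟨h3, hi3⟩ | h3
      · exfalso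
        obtain ⟨F, i1, i2, -, ⟨R⟩⟩ := L2i.exists_rep h1
        have e1 := Res.KFacts.o1_act T1 hi1 R
        have e2 := Res.KFacts.o1_act T2 hi2 R
        have e3 := Res.KFacts.o1_act T3 hi3 R
        rw [act_mul T1.x_mem T2.x_mem, map_mul, e1, e2] at e3
        exact absurd e3 (by decide)
      · exact key h3
    · exact key h2
  · exact key h1

/-- **the action of an elementary abelian group `E` containing a regular four-group `⟨b, c⟩`** -/
theorem lab_dich (M : Lab K) {E : Subgroup G} (hE : E ≤ normalizer (K : Set G)) (hE2 : ∀ e ∈ E, e * e = 1)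
    {b c : G} (hb : b ∈ E) (hc : c ∈ E) (hb3 : (fixIn (Finset.univ : Finset (Fin 7)) (M.φ b)).card = 3)
    (hbc : fixIn (Finset.univ : Finset (Fin 7)) (M.φ c) = fixIn Finset.univ (M.φ b)) (hne : M.φ b ≠ M.φ c) :
    ∃ (M' : Lab K) (g : P7), (∀ x, M'.φ x = g * M.φ x * g⁻¹) ∧ M'.φ b = b1 ∧ (M'.φ c = b2 ∨ M'.φ c = b3) ∧
      ((∀ e ∈ E, IsV (M'.φ e)) ∨ ((∀ e ∈ E, IsV (M'.φ e) ∨ IsV (M'.φ e * ta)) ∧
        ∀ σ, IsV σ → (∃ e ∈ E, M'.φ e = σ) ∧ ∃ e ∈ E, M'.φ e = σ * ta)) := by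
  obtain ⟨g1, hg1⟩ := exists_conj_b1 (M.sq (hE hb) (hE2 b hb)) hb3
  obtain ⟨M1, hM1⟩ := exists_relabel M g1
  obtain ⟨h11, h22, h33, h12, h21, h13, h31, h23, h32, n1, n2, n3, n12, n13, n23, tt, t1⟩ := b_facts
  have f1 : M1.φ b = b1 := by rw [hM1]; exact hg1
  have f2 : M1.φ c = b2 ∨ M1.φ c = b3 := by
    have h1 : fixIn (Finset.univ : Finset (Fin 7)) (M1.φ c) = {4, 5, 6} := by
      rw [hM1, fixIn_conj, hbc, ← fixIn_conj, ← hM1, f1, b1_fix]
    rcases root_same (M1.sq (hE hc) (hE2 c hc)) h1 with h | h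
    · exfalso
      apply hne
      rw [← f1, hM1, hM1] at h
      have h2 := mul_right_cancel (mul_left_cancel (by simpa only [mul_assoc] using h : g1 * (M.φ c * g1⁻¹) =
        g1 * (M.φ b * g1⁻¹)))
      exact h2.symm
    · exact h
  have hcm : ∀ e ∈ E, ∀ f ∈ E, M1.φ e * M1.φ f = M1.φ f * M1.φ e := fun e he f hf =>
    M1.comm (hE he) (hE hf) (L2Inner.comm_of_sq hE2 he hf)
  have hc1 : ∀ e ∈ E, M1.φ e * b1 = b1 * M1.φ e := fun e he => by rw [← f1]; exact hcm e he b hb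
  have hc2 : ∀ e ∈ E, M1.φ e * b2 = b2 * M1.φ e := fun e he => by
    rcases f2 with h | h
    · rw [← h]; exact hcm e he c hc
    · have h3 : M1.φ e * b3 = b3 * M1.φ e := by rw [← h]; exact hcm e he c hc
      rw [← h13]
      calc M1.φ e * (b1 * b3) = (M1.φ e * b1) * b3 := by group
        _ = b1 * (M1.φ e * b3) := by rw [hc1 e he]; group
        _ = b1 * b3 * M1.φ e := by rw [h3]; group
  have hcase : ∀ e ∈ E, IsV (M1.φ e) ∨ ∃ t ∈ TL, IsV (M1.φ e * t) := fun e he =>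
    inv_cases (hc1 e he) (hc2 e he) (M1.sq (hE he) (hE2 e he))
  by_cases hall : ∀ e ∈ E, IsV (M1.φ e)
  · exact ⟨M1, g1, hM1, f1, f2, Or.inl hall⟩
  push Not at hall
  obtain ⟨e0, he0, hn0⟩ := hall
  obtain ⟨t0, ht0, hv0⟩ := (hcase e0 he0).resolve_left hn0
  obtain ⟨q1, q2, q3⟩ := TL_facts ht0
  have hcase' : ∀ e ∈ E, IsV (M1.φ e) ∨ IsV (M1.φ e * t0) := by
    intro e he
    rcases hcase e he with h | ⟨t, ht, h⟩
    · exact Or.inl h
    · right
      have e1 : t * t0 = t0 * t := by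
        -- `φ e = v t`, `φ e0 = v0 t0`
        obtain ⟨v, hv⟩ : ∃ v, v = M1.φ e * t := ⟨_, rfl⟩
        obtain ⟨v0, hv0'⟩ : ∃ v, v = M1.φ e0 * t0 := ⟨_, rfl⟩
        rw [← hv] at h
        rw [← hv0'] at hv0
        have a1 : M1.φ e = v * t := by rw [hv, mul_assoc, (TL_facts ht).1, mul_one]
        have a2 : M1.φ e0 = v0 * t0 := by rw [hv0', mul_assoc, q1, mul_one]
        have a3 := hcm e he e0 he0
        rw [a1, a2] at a3
        have c1 : v0 * t = t * v0 := TL_comm_V (Or.inr ht) hv0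
        have c2 : v * t0 = t0 * v := TL_comm_V (Or.inr ht0) h
        have c3 : v * v0 = v0 * v := V_comm h hv0
        have a4 : v * v0 * (t * t0) = v * v0 * (t0 * t) := by
          calc v * v0 * (t * t0) = v * (v0 * t) * t0 := by group
            _ = v * t * (v0 * t0) := by rw [c1]; group
            _ = v0 * t0 * (v * t) := a3
            _ = v0 * (t0 * v) * t := by group
            _ = v0 * (v * t0) * t := by rw [c2]
            _ = (v0 * v) * (t0 * t) := by group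
            _ = v * v0 * (t0 * t) := by rw [c3]
        exact mul_left_cancel a4
      rw [← TL_comm ht ht0 e1]
      exact h
  obtain ⟨s, hs, hst⟩ := TL_conj ht0
  obtain ⟨M2, hM2⟩ := exists_relabel M1 s
  have hsV : ∀ σ, IsV σ → s * σ * s⁻¹ = σ := by
    intro σ hσ
    rw [← TL_comm_V hs hσ, mul_inv_cancel_right]
  have g_1 : M2.φ b = b1 := by rw [hM2, f1]; exact hsV _ (Or.inr (Or.inl rfl))
  have g_2 : M2.φ c = b2 ∨ M2.φ c = b3 := by
    rcases f2 with h | h
    · left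
      rw [hM2, h]; exact hsV _ (Or.inr (Or.inr (Or.inl rfl)))
    · right
      rw [hM2, h]; exact hsV _ (Or.inr (Or.inr (Or.inr rfl)))
  have himg : ∀ e ∈ E, (IsV (M1.φ e) → M2.φ e = M1.φ e) ∧ (IsV (M1.φ e * t0) → M2.φ e * ta = M1.φ e * t0) := by
    intro e he
    refine ⟨fun h => by rw [hM2]; exact hsV _ h, fun h => ?_⟩
    rw [hM2, ← hst]
    calc s * M1.φ e * s⁻¹ * (s * t0 * s⁻¹) = s * (M1.φ e * t0) * s⁻¹ := by group
      _ = M1.φ e * t0 := hsV _ h
  have hsur : ∀ σ, IsV σ → ∃ e ∈ E, M2.φ e = σ := by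
    have hbcN : M2.φ (b * c) = b1 * M2.φ c := by rw [M2.mul _ _ (hE hb) (hE hc), g_1]
    rintro σ (rfl | rfl | rfl | rfl)
    · exact ⟨1, one_mem _, M2.one⟩
    · exact ⟨b, hb, g_1⟩
    · rcases g_2 with h | h
      · exact ⟨c, hc, h⟩
      · exact ⟨b * c, mul_mem hb hc, by rw [hbcN, h, h13]⟩
    · rcases g_2 with h | h
      · exact ⟨b * c, mul_mem hb hc, by rw [hbcN, h, h12]⟩
      · exact ⟨c, hc, h⟩
  refine ⟨M2, s * g1, fun x => by rw [hM2, hM1]; group, g_1, g_2, Or.inr ⟨fun e he => ?_, fun σ hσ =>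
    ⟨hsur σ hσ, ?_⟩⟩⟩
  · rcases hcase' e he with h | h
    · left
      rw [(himg e he).1 h]; exact h
    · right
      rw [(himg e he).2 h]; exact h
  · obtain ⟨v0, hv0'⟩ : ∃ v, v = M1.φ e0 * t0 := ⟨_, rfl⟩
    have a1 : M2.φ e0 = v0 * ta := by
      have a2 := (himg e0 he0).2 hv0
      rw [← hv0'] at a2
      rw [← a2, mul_assoc, tt, mul_one]
    rw [← hv0'] at hv0
    obtain ⟨e, he, hee⟩ := hsur (σ * v0) (V_mul hσ hv0)
    refine ⟨e * e0, mul_mem he he0, ?_⟩
    rw [M2.mul _ _ (hE he) (hE he0), hee, a1]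
    calc σ * v0 * (v0 * ta) = σ * (v0 * v0) * ta := by group
      _ = σ * ta := by rw [V_sq hv0, mul_one]

/-- The frame, `M / O(M) ≅ A₇`. -/
structure YF7 (M Y : Subgroup G) : Prop where
  ysq : ∀ y ∈ Y, y * y = 1
  ycard : Nat.card Y = 4
  ym : ∀ y ∈ Y, ∀ m ∈ M, y * m = m * y
  comp : ∀ y ∈ Y, y ≠ 1 → ∃ L, IsComp (centralizer ({y} : Set G)) L ∧ M ≤ L ∧ M ⊔ core L = L ∧
    Nonempty (Lab L)

theorem YF7.toYF {M Y : Subgroup G} (h : YF7 M Y) : YF M Y := ⟨h.ysq, h.ycard, h.ym, fun y hy hy1 => by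
  obtain ⟨L, h1, h2, h3, ⟨ML⟩⟩ := h.comp y hy hy1
  exact ⟨L, h1, h2, h3, GT.of_lab ML⟩⟩

theorem YF7.fr {M Y V : Subgroup G} (h : YF7 M Y) (hV : Four V) (hVM : V ≤ M) : Fr M Y V where
  toYF := h.toYF
  psq := hV.elem
  pcard := hV.card
  pm := hVM
  cen := by
    intro y hy hy1 L hL hML hs x hx hxx hc
    obtain ⟨L', hL', hML', -, ⟨ML⟩⟩ := h.comp y hy hy1
    obtain ⟨v, hv, hv1, -⟩ := hV.exists_ne 1
    have e : L' = L := eq_of_inv hL' hL (fun w hw hww hw1 => nf_of_lab ML hw hww hw1) (hML' (hVM hv))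
      (hML (hVM hv)) (hV.elem v hv) hv1
    subst e
    exact cen_of_lab ML hV (hVM.trans hML) hx hxx hc

end Cfsg.Agent.UGT.A7.M1
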