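import Cfsg.Agent.UGT.A7.M1.PkgOf
import Cfsg.Agent.UGT.A7.Frame7

/-!
# The torus element of a terminal triple of type `A₇` (bb #14042)

* `Lx`: the data `(x, a, l, L, Q)`; `Lx.lift_inv`, `Lx.exists_d`;
* `Pre7.exists_m`: `m ∈ M ∩ O(C(l k))`, `m ∉ O(M)`, inverted by the involution `t' ∈ C_M(l)`; labels
  `l ↦ (0 1)(2 3)`, `t' ↦ (0 1)(4 5)`.
-/

set_option autoImplicit false

open Cfsg Subgroup Equiv
open Cfsg.Agent.SignalizersComponents Cfsg.Agent.Lib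
open Cfsg.Agent.SignalizersComponents.IntrinsicBasic
open Cfsg.Agent.SignalizersComponents.IntrinsicIntr
open Cfsg.Agent.SignalizersComponents.PLayerAut
open Cfsg.Agent.Intrinsic.Basic Cfsg.Agent.Intrinsic.Cen Cfsg.Agent.Intrinsic.Diag
open Cfsg.Agent.McLLyComp.Act
open Cfsg.Agent.UGT.TMCBase Cfsg.Agent.UGT.TMCSyl Cfsg.Agent.UGT.TMCMax Cfsg.Agent.UGT.TMCBad
open Cfsg.Agent.UGT.Triple (IsTriple)
open Cfsg.Agent.UGT.Iface (Bar IsInner)
open Cfsg.Agent.UGT.A7.Mu (T7 M7 IsA7)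
open Cfsg.Agent.UAlt
open Cfsg.Agent.UGT.L2Inner (Four four_of jn)
open scoped commutatorElement

universe u

namespace Cfsg.Agent.UGT.A7.M1

variable {G : Type u} [Group G]

/-- `l` = the inner part of `x`, `Q` a 2-group fixing `L`, everything commuting -/
structure Lx (x a l : G) (L Q : Subgroup G) : Prop where
  tri : IsTriple x a L
  mem : l ∈ L
  ll : l * l = 1
  l1 : l ≠ 1
  xl : x * l = l * x
  fix : Fixes (x * l) L
  two : IsPGroup 2 ↥Q
  Qa : ∀ q ∈ Q, q * a = a * q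
  Qx : ∀ q ∈ Q, q * x = x * q
  Ql : ∀ q ∈ Q, q * l = l * q
  QL : ∀ q ∈ Q, Fixes q L

variable [Finite G] {x a l : G} {L Q : Subgroup G}

/-- **Lifting of involutions of `C_{L / O(L)}(l)`.** -/
theorem Lx.lift_inv (h : Lx x a l L Q) {v₀ : G} (hv₀ : v₀ ∈ L) (hv2 : v₀ * v₀ ∈ core L)
    (hlv0 : ⁅l, v₀⁆ ∈ core L) : ∃ (v : G) (hv : v ∈ L), v * v = 1 ∧
      (QuotientGroup.mk ⟨v₀, hv₀⟩ : Bar L) = QuotientGroup.mk ⟨v, hv⟩ ∧
      (∀ q ∈ Q, q * v = v * q) ∧ x * v = v * x ∧ l * v = v * l := by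
  have T := h.tri
  have hv₀X : v₀ ∈ centralizer ({a} : Set G) := T.comp.le hv₀
  obtain ⟨P, hP⟩ : ∃ P, P = (Q ⊔ zpowers x) ⊔ zpowers l := ⟨_, rfl⟩
  have hQP : Q ≤ P := hP ▸ (le_sup_left.trans le_sup_left)
  have hxP : x ∈ P := hP ▸ mem_sup_left (mem_sup_right (mem_zpowers x))
  have hlP : l ∈ P := hP ▸ mem_sup_right (mem_zpowers l)
  have hP2 : IsPGroup 2 ↥P := by
    rw [hP]
    have h4 : IsPGroup 2 ↥(Q ⊔ zpowers x) := by
      refine h.two.to_sup_of_normal_left' (isPGroup_zp (Triple.sq_of_order T.invx)) ?_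
      rw [zpowers_le]
      apply mem_normalizer_iff_cj.mpr
      exact cj_of_comm fun q hq => mem_c (h.Qx q hq)
    refine h4.to_sup_of_normal_left' (isPGroup_zp h.ll) ?_
    rw [zpowers_le]
    apply mem_normalizer_iff_cj.mpr
    refine cj_of_comm (sup_le (fun q hq => mem_c (h.Ql q hq)) ?_)
    rw [zpowers_le]
    exact mem_c h.xl
  have hPle : P ≤ cmod (centralizer ({a} : Set G)) hv₀X := by
    have hlm : l ∈ cmod (centralizer ({a} : Set G)) hv₀X :=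
      (mem_cmod hv₀X).mpr ⟨T.comp.le h.mem, T.comp.core_le_core hlv0⟩
    rw [hP]
    refine sup_le (sup_le (fun q hq => ?_) ?_) ?_
    · exact (mem_cmod hv₀X).mpr ⟨mem_c (h.Qa q hq), T.comp.core_le_core ((h.QL q hq).2 v₀ hv₀)⟩
    · rw [zpowers_le]
      have h5 : x * l ∈ cmod (centralizer ({a} : Set G)) hv₀X :=
        (mem_cmod hv₀X).mpr ⟨mul_mem (mem_c T.comm.symm) (T.comp.le h.mem),
          T.comp.core_le_core (h.fix.2 v₀ hv₀)⟩
      have h6 := mul_mem h5 (inv_mem hlm)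
      rwa [mul_inv_cancel_right] at h6
    · rw [zpowers_le]; exact hlm
  obtain ⟨v, hv, hvv, hvr, hvP⟩ := exists_lift T.comp
    (fun p hp => ((mem_cmod hv₀X).mp (hPle hp)).1) hP2 hv₀ (T.comp.core_le_core hv2)
    (fun p hp => ((mem_cmod hv₀X).mp (hPle hp)).2)
  refine ⟨v, hv, hvv, ?_, fun q hq => hvP q (hQP hq), hvP x hxP, hvP l hlP⟩
  refine (mk_eq_iff hv₀ hv).mpr ?_
  rw [T.comp.core_eq]
  exact ⟨L.mul_mem (L.inv_mem hv₀) hv, hvr⟩

/-- `d ∈ O(C(x)) ∩ C(a) ∩ C(Q)` not fixing `L` -/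
theorem Lx.exists_d (h : Lx x a l L Q) : ∃ d ∈ core (centralizer ({x} : Set G)),
    d ∈ centralizer ({a} : Set G) ∧ (∀ q ∈ Q, q * d = d * q) ∧ ¬ Fixes d L := by
  have hp2 : Fact (Nat.Prime 2) := ⟨Nat.prime_two⟩
  have T := h.tri
  obtain ⟨d, hd, hda, hf⟩ := T.bad
  obtain ⟨F, hF⟩ : ∃ F : Subgroup G, ∀ e, e ∈ F ↔ e ∈ core (centralizer ({x} : Set G)) ∧
      e ∈ centralizer ({a} : Set G) ∧ Fixes e L := by
    refine ⟨{ carrier := {e | e ∈ core (centralizer ({x} : Set G)) ∧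
        e ∈ centralizer ({a} : Set G) ∧ Fixes e L}
              mul_mem' := ?_
              one_mem' := ?_
              inv_mem' := ?_ }, fun e => Iff.rfl⟩
    · rintro e e' ⟨h1, h2, h3⟩ ⟨h1', h2', h3'⟩
      exact ⟨mul_mem h1 h1', mul_mem h2 h2', fixes_mul h3 h3'⟩
    · exact ⟨one_mem _, one_mem _, fixes_one L⟩
    · rintro e ⟨h1, h2, h3⟩
      exact ⟨inv_mem h1, inv_mem h2, fixes_inv h3⟩
  have hFodd : Odd (Nat.card F) :=
    Odd.of_dvd_nat (odd_card_core (centralizer ({x} : Set G)))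
      (card_dvd_of_le fun e he => ((hF e).mp he).1)
  obtain ⟨X, hX⟩ : ∃ X : Subgroup G, X = (centralizer ({a} : Set G) ⊓ centralizer ({x} : Set G)) ⊓
    normalizer (L : Set G) := ⟨_, rfl⟩
  have hmemX : ∀ {g : G}, g ∈ X ↔ (g ∈ centralizer ({a} : Set G) ∧ g ∈ centralizer ({x} : Set G)) ∧
      g ∈ normalizer (L : Set G) := by
    intro g; rw [hX, mem_inf, mem_inf]
  have hFX : ∀ g ∈ X, ∀ e ∈ F, g * e * g⁻¹ ∈ F := by
    intro g hg e he
    obtain ⟨⟨h1, h2⟩, h3⟩ := hmemX.mp hg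
    obtain ⟨h4, h5, h6⟩ := (hF e).mp he
    exact (hF _).mpr ⟨Triple.conj_core h2 h4, mul_mem (mul_mem h1 h5) (inv_mem h1), fixes_conj h6 h3⟩
  have hn : (F.subgroupOf X).Normal := ⟨fun e he g => hFX g g.2 e he⟩
  have hdX : d ∈ X := hmemX.mpr ⟨⟨hda, core_le _ hd⟩, T.mem_normalizer_of_core hd hda⟩
  have hQX : Q ≤ X := fun q hq => hmemX.mpr ⟨⟨mem_c (h.Qa q hq), mem_c (h.Qx q hq)⟩, (h.QL q hq).1⟩
  have hQ' : IsPGroup 2 ↥(Q.subgroupOf X) := h.two.comap_of_injective _ X.subtype_injective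
  have hNp' : ¬ 2 ∣ Nat.card (F.subgroupOf X) := by
    intro h1
    have h2 : 2 ∣ Nat.card F := h1.trans (card_comap_dvd_of_injective _ _ (subtype_injective _))
    exact (Nat.not_even_iff_odd.mpr hFodd) (even_iff_two_dvd.mpr h2)
  obtain ⟨g, hg1, hg2⟩ := CoreOfCentralizer.exists_centralizing_of_quotient (Q.subgroupOf X) hQ'
    (F.subgroupOf X) hNp' (QuotientGroup.mk' (F.subgroupOf X) ⟨d, hdX⟩) (by
      rintro ⟨p, hpX⟩ hp
      rw [← map_mul, ← map_mul]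
      refine (QuotientGroup.eq.mpr ?_)
      change ((⟨p, hpX⟩ * ⟨d, hdX⟩ : ↥X)⁻¹ * (⟨d, hdX⟩ * ⟨p, hpX⟩) : ↥X) ∈ F.subgroupOf X
      change (p * d)⁻¹ * (d * p) ∈ F
      have hpd : (p * d)⁻¹ * (d * p) = d⁻¹ * (p⁻¹ * d * p) := by group
      have hpL := h.QL p hp
      have hdn := T.mem_normalizer_of_core hd hda
      have hpi : p⁻¹ ∈ X := inv_mem hpX
      refine (hF _).mpr ⟨?_, ?_, ?_⟩
      · rw [hpd]
        refine mul_mem (inv_mem hd) ?_
        have := Triple.conj_core (hmemX.mp hpi).1.2 hd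
        rwa [inv_inv] at this
      · exact mul_mem (inv_mem (mul_mem (hmemX.mp hpX).1.1 hda)) (mul_mem hda (hmemX.mp hpX).1.1)
      · have e1 : (p * d)⁻¹ * (d * p) = d⁻¹ * p⁻¹ * d⁻¹⁻¹ * p := by group
        rw [e1]
        exact fixes_mul (fixes_conj (fixes_inv hpL) (inv_mem hdn)) hpL)
  have hg3 : d⁻¹ * (g : G) ∈ F := by
    have h1 : (⟨d, hdX⟩ : ↥X)⁻¹ * g ∈ F.subgroupOf X := QuotientGroup.eq.mp hg2.symm
    exact h1
  obtain ⟨h1, h2, h3⟩ := (hF _).mp hg3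
  have hgd : (g : G) = d * (d⁻¹ * g) := by group
  refine ⟨g, ?_, ?_, ?_, ?_⟩
  · rw [hgd]; exact mul_mem hd h1
  · rw [hgd]; exact mul_mem hda h2
  · intro q hq
    exact congrArg Subtype.val (hg1 ⟨q, hQX hq⟩ hq)
  · intro h4
    apply hf
    have h5 : d = (g : G) * (d⁻¹ * g)⁻¹ := by group
    rw [h5]
    exact fixes_mul h4 (fixes_inv h3)

omit [Finite G] in
/-- lifting in terms of labels -/
theorem Lx.lift_lab [Finite G] (h : Lx x a l L Q) (Mo : M7 L) {σ : Perm (Fin 7)} (hσ : σ ∈ alternatingGroup (Fin 7))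
    (hσσ : σ * σ = 1) (hc : Mo.φ l * σ = σ * Mo.φ l) :
    ∃ w ∈ L, w * w = 1 ∧ Mo.φ w = σ ∧ (∀ q ∈ Q, q * w = w * q) ∧ x * w = w * x ∧ l * w = w * l := by
  obtain ⟨v₀, hv₀, rfl⟩ := Mo.lift σ (by rw [alt_univ]; exact hσ)
  have hlN := le_normalizer (H := L) h.mem
  have hvN := le_normalizer (H := L) hv₀
  have h1 : v₀ * v₀ ∈ core L := by
    rw [← Mo.core_iff _ (L.mul_mem hv₀ hv₀), Mo.mul _ _ hvN hvN]
    exact hσσ
  have h2 : ⁅l, v₀⁆ ∈ core L := by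
    rw [← Mo.core_iff _ (commutator_mem' h.mem hv₀), commutatorElement_def,
      Mo.mul _ _ (mul_mem (mul_mem hlN hvN) (inv_mem hlN)) (inv_mem hvN), Mo.conj hlN hvN, Mo.inv hvN, hc,
      mul_inv_cancel_right, mul_inv_cancel]
  obtain ⟨w, hw, h3, h4, h5⟩ := h.lift_inv hv₀ h1 h2
  refine ⟨w, hw, h3, ?_, h5⟩
  have h6 := (mk_eq_iff hv₀ hw).mp h4
  exact ((Mo.eq_iff hv₀ hw).mpr h6).symm

/-- an even permutation fixing `0, 1, 2, 3` and commuting with `(0 1)(4 5)` is trivial -/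
theorem eq_one_of_comm {σ : Perm (Fin 7)} (hσ : σ ∈ alt (fixIn Finset.univ u1)) (hc : σ * u2 = u2 * σ) :
    σ = 1 := by
  have hfix : ∀ i : Fin 7, i = 0 ∨ i = 1 ∨ i = 2 ∨ i = 3 → σ i = i := by
    intro i hi
    apply hσ.2
    rw [mem_fixIn]
    rintro ⟨-, h⟩
    revert h
    rcases hi with rfl | rfl | rfl | rfl <;> decide
  have h6 : σ 6 = 6 := by
    have h1 : u2 (σ 6) = σ 6 := by
      have := congrArg (fun g : Perm (Fin 7) => g 6) hc
      simp only [Perm.mul_apply] at this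
      rw [show u2 6 = 6 by decide] at this
      exact this.symm
    obtain ⟨j, hj⟩ : ∃ j, j = σ 6 := ⟨_, rfl⟩
    rw [← hj] at h1
    have h2 : ∀ i, σ i = i → i ≠ 6 → j ≠ i := by
      intro i hi hi6 hji
      apply hi6
      apply σ.injective
      rw [hi, ← hj, hji]
    have h3 := h2 2 (hfix 2 (by simp)) (by decide)
    have h4 := h2 3 (hfix 3 (by simp)) (by decide)
    rw [← hj]
    revert h1 h3 h4
    fin_cases j <;> decide
  by_contra h1
  have hsub : σ.support ⊆ {4, 5} := by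
    intro i hi
    have h2 := Equiv.Perm.mem_support.mp hi
    simp only [Finset.mem_insert, Finset.mem_singleton]
    by_contra hcon
    push Not at hcon
    apply h2
    fin_cases i
    · exact hfix _ (by simp)
    · exact hfix _ (by simp)
    · exact hfix _ (by simp)
    · exact hfix _ (by simp)
    · exact absurd rfl hcon.1
    · exact absurd rfl hcon.2
    · exact h6
  have h2 : σ.support.card ≤ 2 := (Finset.card_le_card hsub).trans (by decide)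
  have h3 : σ.support.card ≠ 0 := fun h => h1 (Equiv.Perm.card_support_eq_zero.mp h)
  have h4 : σ.support.card ≠ 1 := Equiv.Perm.card_support_ne_one σ
  have h5 : σ.IsSwap := Equiv.Perm.card_support_eq_two.mp (by omega)
  have h7 := h5.sign_eq
  rw [Equiv.Perm.mem_alternatingGroup.mp hσ.1] at h7
  exact absurd h7 (by decide)

/-- **The elements `d`, `t'`.** -/
theorem Lx.exists_dt (h : Lx x a l L Q) (ha7 : IsA7 L) : ∃ Mo : M7 L, Mo.φ l = u1 ∧
    ∃ d ∈ core (centralizer ({x} : Set G)),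
    d ∈ centralizer ({a} : Set G) ∧ (∀ q ∈ Q, q * d = d * q) ∧
    ∃ t' ∈ L, t' * t' = 1 ∧ Mo.φ t' = u2 ∧ l * t' = t' * l ∧ (∀ q ∈ Q, q * t' = t' * q) ∧
      x * t' = t' * x ∧ d * t' * d⁻¹ * t'⁻¹ ∉ core L := by
  obtain ⟨M⟩ := ha7
  have T := h.tri
  -- labels with `l ↦ u1`
  have hlN := le_normalizer (H := L) h.mem
  have hroot : Cfsg.Agent.StdAlt.Roots.IsRoot (M.φ l) := by
    refine Star.isRoot_of_even (M.sq hlN h.ll) (fun h1 => ?_) ?_
    · exact h.l1 (eq_one_of_mem_core_sq ((M.core_iff l h.mem).mp h1) h.ll)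
    · have := M.mem_alt l h.mem
      rwa [alt_univ] at this
  have hu1 : Cfsg.Agent.StdAlt.Roots.IsRoot u1 := by
    refine Star.isRoot_of_even (by decide) (by decide) ?_
    rw [Equiv.Perm.mem_alternatingGroup]; decide
  obtain ⟨g, -, hg⟩ := Glue.exists_alt_conj (A := Finset.univ) hroot hu1
    (fun x hx => absurd (Finset.mem_univ x) hx) (fun x hx => absurd (Finset.mem_univ x) hx)
  obtain ⟨Mo, hMo⟩ := exists_relabel M g
  have hφl : Mo.φ l = u1 := by rw [hMo, hg]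
  have hφx : Mo.φ x = u1 := by
    have h1 := (Mo.fixes_iff h.fix.1).mpr h.fix
    rw [Mo.mul _ _ T.x_mem hlN, hφl] at h1
    rw [eq_inv_of_mul_eq_one_left h1]
    decide
  obtain ⟨d, hd, hda, hdQ, hdf⟩ := h.exists_d
  have hdN := T.mem_normalizer_of_core hd hda
  have hφd := (RedAlt.three_fix T Mo).2 d ⟨hd, hda⟩
  rw [hφx] at hφd
  have hφd1 : Mo.φ d ≠ 1 := fun h1 => hdf ((Mo.fixes_iff hdN).mp h1)
  obtain ⟨t', ht', htt, hφt, htQ, hxt, hlt⟩ := h.lift_lab Mo (σ := u2)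
    (by rw [Equiv.Perm.mem_alternatingGroup]; decide) (by decide) (by rw [hφl]; decide)
  refine ⟨Mo, hφl, d, hd, hda, hdQ, t', ht', htt, hφt, hlt, htQ, hxt, fun hm => hφd1 ?_⟩
  have htN := le_normalizer (H := L) ht'
  have hmL : d * t' * d⁻¹ * t'⁻¹ ∈ L := L.mul_mem (conj_mem hdN ht') (L.inv_mem ht')
  have h1 := (Mo.core_iff _ hmL).mpr hm
  rw [Mo.mul _ _ (mul_mem (mul_mem hdN htN) (inv_mem hdN)) (inv_mem htN), Mo.conj hdN htN, Mo.inv htN, hφt,
    mul_inv_eq_one, mul_inv_eq_iff_eq_mul] at h1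
  exact eq_one_of_comm hφd h1

variable {k : G} {M : Subgroup G}

/-- the data of the triple `(l k, a, L)` -/
theorem Pre7.exists_Lx (h : Pre7 l k M Q) : ∃ (a : G) (L : Subgroup G), a ∈ Q ∧ orderOf a = 2 ∧
    T7 (l * k) a L ∧ M ≤ L ∧ M ⊔ core L = L ∧ M = TMC.KK L Q ∧ Lx (l * k) a l L Q := by
  obtain ⟨a, haQ, ha, L, hL, hQF, hM⟩ := h.src
  obtain ⟨L', hF, hML, hs⟩ := h.good a haQ ha
  have hML' : M ≤ L := hM ▸ TMC.KK_le L Q
  obtain rfl := h.unique hL hF.tri.comp hML' hML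
  have hlk : l * k = k * l := (h.comm k h.kQ l h.lM).symm
  refine ⟨a, L, haQ, ha, hF, hML, hs, hM, hF.tri, hML h.lM, h.ll, h.l1, ?_, ?_, h.two, ?_, ?_, ?_, ?_⟩
  · rw [mul_assoc, ← hlk]
  · have e : l * k * l = k := by rw [hlk, mul_assoc, h.ll, mul_one]
    rw [e]
    exact (hQF h.kQ).2
  · exact fun q hq => (hQF hq).1
  · intro q hq
    rw [← mul_assoc, h.comm q hq l h.lM, mul_assoc, h.kc q hq, mul_assoc]
  · exact fun q hq => h.comm q hq l h.lM
  · exact fun q hq => (hQF hq).2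

/-- **The torus element.** -/
theorem Pre7.exists_m (h : Pre7 l k M Q) : ∃ (Mo : M7 M) (m t' : G), m ∈ M ∧ t' ∈ M ∧ m * l = l * m ∧
    t' * l = l * t' ∧ t' * t' = 1 ∧ t' * m * t'⁻¹ = m⁻¹ ∧ Odd (orderOf m) ∧ m ∉ core M ∧
    m ∈ core (centralizer ({l * k} : Set G)) ∧ Mo.φ l = u1 ∧ Mo.φ t' = u2 := by
  obtain ⟨a, L, haQ, ha, hF, hML, hs, hM, hx⟩ := h.exists_Lx
  obtain ⟨Mo, hφl, d, hd, hda, hdQ, t', ht', htt, hφt, hlt, htQ, hxt, hm⟩ := hx.exists_dt hF.a7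
  have hdL := hF.tri.mem_normalizer_of_core hd hda
  have hmemM : ∀ w ∈ L, w * w = 1 → (∀ q ∈ Q, q * w = w * q) → w ∈ M := by
    intro w hw hww hwQ
    rw [hM]
    refine PComponents.mem_pElem (n := 1) ⟨hw, ?_⟩ (by rw [pow_one, pow_two, hww])
    exact mem_centralizer_iff.mpr fun q hq => hwQ q hq
  have ht'M := hmemM t' ht' htt htQ
  have hdt : d * t' * d⁻¹ ∈ M := by
    refine hmemM _ (conj_mem hdL ht') ?_ fun q hq => ?_
    · calc d * t' * d⁻¹ * (d * t' * d⁻¹) = d * (t' * t') * d⁻¹ := by group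
        _ = 1 := by rw [htt]; group
    · have c1 : Commute q d := hdQ q hq
      have c2 : Commute q t' := htQ q hq
      exact ((c1.mul_right c2).mul_right c1.inv_right)
  have hmM : d * t' * d⁻¹ * t'⁻¹ ∈ M := mul_mem hdt (inv_mem ht'M)
  have hmx : d * t' * d⁻¹ * t'⁻¹ ∈ core (centralizer ({l * k} : Set G)) := by
    have e : d * t' * d⁻¹ * t'⁻¹ = d * (t' * d⁻¹ * t'⁻¹) := by group
    rw [e]
    exact mul_mem hd (Triple.conj_core (mem_c hxt.symm) (inv_mem hd))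
  have hdl : d * l = l * d := by
    have h1 : d * (l * k) = (l * k) * d := comm_c (core_le _ hd)
    have h2 : k * d = d * k := hdQ k h.kQ
    have h3 : d * l * k = l * d * k := by rw [mul_assoc, h1, mul_assoc, h2, ← mul_assoc]
    exact mul_right_cancel h3
  obtain ⟨M', hM'⟩ := exists_down Mo hs
  refine ⟨M', _, t', hmM, ht'M, ?_, hlt.symm, htt, ?_, ?_, ?_, hmx, ?_, ?_⟩
  · have c1 : Commute d l := hdl
    have c2 : Commute t' l := hlt.symm
    exact ((c1.mul_left c2).mul_left c1.inv_left).mul_left c2.inv_left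
  · have hti := inv_of_sq htt
    rw [hti]
    calc t' * (d * t' * d⁻¹ * t') * t' = t' * d * t' * d⁻¹ * (t' * t') := by group
      _ = t' * d * t' * d⁻¹ := by rw [htt, mul_one]
      _ = t'⁻¹⁻¹ * (d * t'⁻¹ * d⁻¹) := by rw [inv_inv, hti]; group
      _ = (d * t' * d⁻¹ * t'⁻¹)⁻¹ := by group
      _ = (d * t' * d⁻¹ * t')⁻¹ := by rw [hti]
  · have h4 := orderOf_dvd_natCard (⟨_, hmx⟩ : ↥(core (centralizer ({l * k} : Set G))))
    rw [Subgroup.orderOf_mk] at h4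
    exact Odd.of_dvd_nat (odd_card_core _) h4
  · intro h5
    rw [core_of_sup hs] at h5
    exact hm h5.2
  · rw [hM' l h.lM, hφl]
  · rw [hM' t' ht'M, hφt]

end Cfsg.Agent.UGT.A7.M1
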