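import Cfsg.Agent.UGT.L2Inner.ActA
import Cfsg.Agent.UGT.L2Inner.Bad7
import Cfsg.Agent.UGT.A7.M1.PermDich
import Cfsg.Agent.UGT.A7.Frame7
import Cfsg.Agent.UGT.A7.SevenZero
import Cfsg.Agent.UGT.L2Inner.P3Elem

/-!
# `(A)` for `M / O(M) ≅ A₇` (bb #14042)

Abstract input `AH Y V t s t'`: `Y` a four-group commuting with `t`, `s`, `t'`; `V = {1, t, t', t t'}` a four-group,
`s` of odd order commuting with `t` and inverted by `t'`; `(*)` (`star`) and `(iii)` (`norm`).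

* `AH.fixes_of_pgl`: 2-components `K` of `C(c t)` of type `PSL(2,F)` on which some `y ∈ Y` acts as an involution of
  `PGL(2,F)`: `s` fixes `K`.
* `AH.fixes_of_lab`: 2-components of type `A₇`: `s` fixes `K` or the configuration `Bad7`.
* `AH.comm_mem`, `AH.mem_core`.
-/

set_option autoImplicit false

open Cfsg Subgroup
open Cfsg.Agent.SignalizersComponents Cfsg.Agent.Lib
open Cfsg.Agent.SignalizersComponents.IntrinsicBasic
open Cfsg.Agent.SignalizersComponents.PLayerAut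
open Cfsg.Agent.Intrinsic.Basic Cfsg.Agent.Intrinsic.Cen Cfsg.Agent.Intrinsic.Diag
open Cfsg.Agent.McLLyComp.Act
open Cfsg.Agent.UAlt
open Cfsg.Agent.UGT.Triple Cfsg.Agent.UGT.TriBase
open Cfsg.Agent.UGT.L2Inner
open scoped commutatorElement

namespace Cfsg.Agent.UGT.A7.M1

variable {G : Type*} [Group G]

/-- The input of `(A)`. -/
structure AH (Y V : Subgroup G) (t s t' : G) : Prop where
  ysq : ∀ y ∈ Y, y * y = 1
  ycard : Nat.card Y = 4
  yt : ∀ y ∈ Y, y * t = t * y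
  ys : ∀ y ∈ Y, y * s = s * y
  yr : ∀ y ∈ Y, y * t' = t' * y
  tY : t ∉ Y
  tt : t * t = 1
  t1 : t ≠ 1
  st : s * t = t * s
  odd : Odd (orderOf s)
  rr : t' * t' = 1
  rt : t' * t = t * t'
  inv : t' * s * t'⁻¹ = s⁻¹
  tV : t ∈ V
  rV : t' ∈ V
  Vle : ∀ v ∈ V, v = 1 ∨ v = t ∨ v = t' ∨ v = t * t'
  star : ∀ c ∈ Y, ∀ y ∈ Y, y ≠ 1 → ∀ I : Subgroup G,
    IsComp (centralizer ({c * t} : Set G) ⊓ centralizer ({y} : Set G)) I → Fixes s I
  norm : ∀ c ∈ Y, ∀ K : Subgroup G, IsComp (centralizer ({c * t} : Set G)) K → L2T K ∨ Nonempty (Lab K) →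
    (∀ y ∈ Y, y ∈ normalizer (K : Set G)) →
    t' ∈ normalizer (K : Set G) ∧ s * t' * s⁻¹ ∈ normalizer (K : Set G)
  rep : ∀ (x a : G) (K : Subgroup G), IsTriple x a K → L2T K ∨ Nonempty (Lab K)

variable [Finite G]

namespace AH

variable {Y V : Subgroup G} {t s t' : G} (hF : AH Y V t s t')

include hF

omit [Finite G] in
theorem comm_ct {y c : G} (hy : y ∈ Y) (hc : c ∈ Y) : y * (c * t) = c * t * y := by
  calc y * (c * t) = (y * c) * t := by group
    _ = c * (y * t) := by rw [Cfsg.Agent.UGT.L2Inner.comm_of_sq hF.ysq hy hc]; group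
    _ = c * t * y := by rw [hF.yt y hy]; group

omit [Finite G] hF in
theorem comm_mt (_hF : AH Y V t s t') {m c : G} (hm : ∀ y ∈ Y, y * m = m * y) (hmt : m * t = t * m) (hc : c ∈ Y) :
    m * (c * t) = c * t * m := by
  calc m * (c * t) = (m * c) * t := by group
    _ = c * (m * t) := by rw [← hm c hc]; group
    _ = c * t * m := by rw [hmt]; group

omit [Finite G] in
theorem ct_ne {c : G} (hc : c ∈ Y) : c * t ≠ 1 := by
  intro h
  have h1 : t = c := by
    rw [eq_inv_of_mul_eq_one_left h, inv_eq_of_mul_eq_one_left (hF.tt)]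
  exact hF.tY (h1 ▸ hc)

omit [Finite G] in
theorem sq_mul {c : G} (hc : c ∈ Y) : c * t * (c * t) = 1 := by
  calc c * t * (c * t) = c * (t * c) * t := by group
    _ = c * (c * t) * t := by rw [hF.yt c hc]
    _ = (c * c) * (t * t) := by group
    _ = 1 := by rw [hF.ysq c hc, hF.tt, one_mul]

omit [Finite G] in
theorem sX {c : G} (hc : c ∈ Y) : s ∈ centralizer ({c * t} : Set G) := mem_c (hF.comm_mt hF.ys hF.st hc)

omit [Finite G] in
/-- `t'` and `s` normalize `K` -/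
theorem sN {c : G} {K : Subgroup G} (hc : c ∈ Y) (hK : IsComp (centralizer ({c * t} : Set G)) K)
    (hT : L2T K ∨ Nonempty (Lab K)) (hYK : ∀ y ∈ Y, y ∈ normalizer (K : Set G)) :
    t' ∈ normalizer (K : Set G) ∧ s ∈ normalizer (K : Set G) := by
  have hri : t'⁻¹ = t' := inv_eq_of_mul_eq_one_left hF.rr
  obtain ⟨hrK, hrK'⟩ := hF.norm c hc K hK hT hYK
  refine ⟨hrK, ?_⟩
  have hs2 : s * s ∈ normalizer (K : Set G) := by
    have h1 : s * s = (s * t' * s⁻¹) * t' := by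
      have h2 : t' * s⁻¹ * t' = s := by
        have h3 := hF.inv
        rw [hri] at h3
        rw [← h3]
        calc t' * (t' * s * t') * t' = (t' * t') * s * (t' * t') := by group
          _ = s := by rw [hF.rr, one_mul, mul_one]
      calc s * s = s * (t' * s⁻¹ * t') := by rw [h2]
        _ = (s * t' * s⁻¹) * t' := by group
    rw [h1]
    exact mul_mem hrK' hrK
  obtain ⟨n, hn⟩ := pow_of_odd hF.odd
  rw [← hn]
  exact pow_mem hs2 n

/-- some element of `Y` moves `K` -/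
theorem fixes_of_moved {c y : G} {K : Subgroup G} (hc : c ∈ Y)
    (hK : IsComp (centralizer ({c * t} : Set G)) K) (hy : y ∈ Y)
    (hyK : y ∉ normalizer (K : Set G)) : Fixes s K := by
  have hy1 : y ≠ 1 := by
    rintro rfl
    exact hyK (one_mem _)
  have hyy := hF.ysq y hy
  have hyX : y ∈ centralizer ({c * t} : Set G) := mem_c (hF.comm_ct hy hc)
  have hsX : s ∈ centralizer ({c * t} : Set G) := hF.sX hc
  have hne : cj y K ≠ K := fun h => hyK (mem_normalizer_iff_cj.mpr h)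
  obtain ⟨h1, -, -, h4, -⟩ := exists_diag hK hyX hyy hne
  have hsI := hF.star c hc y hy hy1 _ h1
  have hsy : s * y = y * s := (hF.ys y hy).symm
  have hyi : cj y (cj y K) = K := by rw [← cj_mul, hyy, cj_one]
  have hsyK : ∀ J : Subgroup G, cj s (cj y J) = cj y (cj s J) := by
    intro J
    rw [← cj_mul, hsy, cj_mul]
  -- `s` permutes `K` and `K ^ y`
  have hcase : cj s K = K ∨ cj s K = cj y K := by
    by_contra hcon
    push Not at hcon
    have h5 : diag (centralizer ({c * t} : Set G)) (cj s K) y =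
        diag (centralizer ({c * t} : Set G)) K y := by
      have h6 := mem_normalizer_iff_cj.mp hsI.1
      rw [cj_diag, cj_eq_self_of_mem hsX] at h6
      have h7 : s * y * s⁻¹ = y := by rw [hsy, mul_inv_cancel_right]
      rwa [h7] at h6
    refine diag_ne hK hyX hyy hne (isComp_cj_of_mem hK hsX) ?_ hcon.1 hcon.2 h5
    rw [← hsyK]
    intro h8
    exact hne (cj_injective s h8)
  have hs2 : s * s ∈ normalizer (K : Set G) := by
    rw [mem_normalizer_iff_cj, cj_mul]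
    rcases hcase with h | h
    · rw [h, h]
    · rw [h, hsyK, h, hyi]
  have hsK : s ∈ normalizer (K : Set G) := by
    obtain ⟨n, hn⟩ := pow_of_odd hF.odd
    rw [← hn]
    exact pow_mem hs2 n
  refine fixes_of_comm_diag hK hyX hyy hne hsX hsK ?_ fun m hm => ?_
  · rw [mem_normalizer_iff_cj, hsyK, mem_normalizer_iff_cj.mp hsK]
  · have h5 := hsI.2 m hm
    rw [h4] at h5
    exact h5.2

/-- **(A), K-level** -/
theorem fixes_of_pgl {c y : G} {K : Subgroup G} (hc : c ∈ Y)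
    (hK : IsComp (centralizer ({c * t} : Set G)) K) {F : Type} [Field F] [Finite F]
    (R : GH.L2Aut.Rep F (↥K ⧸ oddCore ↥K)) (hy : y ∈ Y) (hyK : y ∈ normalizer (K : Set G))
    (hyf : ¬ Fixes y K) (hyP : act K ⟨y, hyK⟩ ∈ R.PGL) : Fixes s K := by
  have hT : L2T K := ⟨F, inferInstance, inferInstance, ⟨R⟩⟩
  by_cases hYK : ∀ y' ∈ Y, y' ∈ normalizer (K : Set G)
  swap
  · push Not at hYK
    obtain ⟨y', hy', hy'K⟩ := hYK
    exact hF.fixes_of_moved hc hK hy' hy'K
  obtain ⟨hrK, hsK⟩ := hF.sN hc hK (Or.inl hT) hYK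
  have hYX : ∀ y ∈ Y, y ∈ centralizer ({c * t} : Set G) := fun y hy =>
    mem_c (hF.comm_ct hy hc)
  by_cases hfx : ∃ y' ∈ Y, y' ≠ 1 ∧ Fixes y' K
  · obtain ⟨y', hy', hy'1, hf⟩ := hfx
    obtain ⟨h1, h3⟩ := isComp_cen hK (hYX y' hy') (hF.ysq y' hy') hf
    have h4 := hF.star c hc y' hy' hy'1 _ h1
    exact (fixes_iff_of_sup h3 h4.1 hsK).mp h4
  push Not at hfx
  -- `Y` is faithful on `K / O(K)`
  obtain ⟨y₂, hy₂, hy₂1, hne⟩ : ∃ y₂ ∈ Y, y₂ ≠ 1 ∧ y ≠ y₂ := by
    obtain ⟨a, ha, b, hb, ha1, hb1, hab⟩ := exists_gens hF.ycard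
    by_cases h : y = a
    · exact ⟨b, hb, hb1, h ▸ hab⟩
    · exact ⟨a, ha, ha1, h⟩
  have hy1 : y ≠ 1 := by
    rintro rfl
    exact hyf (fixes_one K)
  have hy₂K := hYK y₂ hy₂
  have hsq : ∀ u ∈ Y, ∀ n : u ∈ normalizer (K : Set G), act K ⟨u, n⟩ * act K ⟨u, n⟩ = 1 := by
    intro u hu n
    rw [← map_mul]
    have h1 : (⟨u, n⟩ : ↥(normalizer (K : Set G))) * ⟨u, n⟩ = 1 := Subtype.ext (hF.ysq u hu)
    rw [h1, map_one]
  have hso : Odd (orderOf (act K ⟨s, hsK⟩)) := by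
    have h3 : orderOf (act K ⟨s, hsK⟩) ∣ orderOf s := by
      have h2 : orderOf (⟨s, hsK⟩ : ↥(normalizer (K : Set G))) = orderOf s := Subgroup.orderOf_mk _ _
      rw [← h2]
      exact orderOf_map_dvd _ _
    exact Odd.of_dvd_nat hF.odd h3
  have hcomm : ∀ u ∈ Y, ∀ n : u ∈ normalizer (K : Set G),
      act K ⟨s, hsK⟩ * act K ⟨u, n⟩ = act K ⟨u, n⟩ * act K ⟨s, hsK⟩ := by
    intro u hu n
    rw [← map_mul, ← map_mul]
    congr 1
    exact Subtype.ext (hF.ys u hu).symm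
  have hsP : act K ⟨s, hsK⟩ ∈ R.PGL := by
    rw [R.mem_PGL_iff_fld]
    have h1 : act K ⟨t', hrK⟩ * act K ⟨s, hsK⟩ * (act K ⟨t', hrK⟩)⁻¹ = (act K ⟨s, hsK⟩)⁻¹ := by
      rw [← map_inv, ← map_inv, ← map_mul, ← map_mul]
      congr 1
      exact Subtype.ext hF.inv
    have h2 := congrArg R.fld h1
    rw [map_mul, map_mul, map_inv, map_inv,
      Cfsg.Agent.Lib.AutSL2Out.ringEquiv_comm (R.fld (act K ⟨t', hrK⟩)), mul_inv_cancel_right] at h2
    have h3 : R.fld (act K ⟨s, hsK⟩) * R.fld (act K ⟨s, hsK⟩) = 1 := by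
      nth_rw 1 [h2]
      exact inv_mul_cancel _
    exact Cfsg.Agent.OddHalf.D6.PglType.eq_one_of_odd_sq h3
      (Odd.of_dvd_nat hso (orderOf_map_dvd _ _))
  have hφ1 : act K ⟨y, hyK⟩ ≠ 1 := fun h => hyf ((act_eq_one_iff hyK).mp h)
  by_cases hP2 : act K ⟨y₂, hy₂K⟩ ∈ R.PGL
  · rw [← act_eq_one_iff hsK]
    refine Cfsg.Agent.OddHalf.D6.PglType.eq_one_of_odd_sq ?_ hso
    have hc12 : act K ⟨y, hyK⟩ * act K ⟨y₂, hy₂K⟩ = act K ⟨y₂, hy₂K⟩ * act K ⟨y, hyK⟩ := by
      rw [← map_mul, ← map_mul]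
      congr 1
      exact Subtype.ext (Cfsg.Agent.UGT.L2Inner.comm_of_sq hF.ysq hy hy₂)
    rcases WBAut.pgl_four R hyP hP2 hsP hφ1 (fun h => hfx y₂ hy₂ hy₂1 ((act_eq_one_iff hy₂K).mp h))
      (fun h => hfx (y * y₂) (mul_mem hy hy₂) (fun h3 => hne (by
        have h4 := eq_inv_of_mul_eq_one_left h3
        rwa [inv_eq_of_mul_eq_one_left (hF.ysq y₂ hy₂)] at h4))
        (Frame.fixes_of_act_eq hyK hy₂K (hF.ysq y₂ hy₂) h))
      (hsq y hy hyK) (hsq y₂ hy₂ hy₂K) hc12 (hcomm y hy hyK) (hcomm y₂ hy₂ hy₂K) with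
      h | h | h | h
    · rw [h, one_mul]
    · rw [h]; exact hsq y hy hyK
    · rw [h]; exact hsq y₂ hy₂ hy₂K
    · rw [h, ← act_mul hyK hy₂K]
      exact hsq _ (mul_mem hy hy₂) _
  · have hf : R.fld (act K ⟨y₂, hy₂K⟩) ≠ 1 := fun h => hP2 (R.mem_PGL_iff_fld.mpr h)
    by_cases h9 : 9 < Nat.card F
    · obtain ⟨I, hI, -, -, hfin⟩ := exists_comp_field hK (hF.ysq y₂ hy₂) hy₂K R h9 hf
      exact hfin s hsK hso (hF.star c hc y₂ hy₂ hy₂1 _ hI)
    · have h9' : Nat.card F = 9 := by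
        have hord : orderOf (R.fld (act K ⟨y₂, hy₂K⟩)) = 2 := by
          rw [orderOf_eq_prime_iff]
          exact ⟨by rw [sq, ← map_mul, hsq y₂ hy₂ hy₂K, map_one], hf⟩
        obtain ⟨K₀, hK₀, hcard⟩ := GH.L2Aut.exists_fixed_field (R.fld (act K ⟨y₂, hy₂K⟩))
        rw [hord] at hcard
        have h1 : Odd (Nat.card K₀) := GH.L2Aut.odd_card (GH.L2Aut.two_sub R.two K₀)
        have h2 : 1 < Nat.card K₀ := Finite.one_lt_card
        have h3 : Nat.card K₀ ≤ 3 := by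
          by_contra h
          push Not at h
          have h4 : 4 ≤ Nat.card K₀ := h
          have := Nat.pow_le_pow_left h4 2
          omega
        obtain ⟨k, hk⟩ := h1
        have h4 : Nat.card K₀ = 3 := by omega
        rw [hcard, h4]
        norm_num
      rw [← act_eq_one_iff hsK]
      exact nine R h9' hyP hφ1 (hsq y hy hyK) (hsq y₂ hy₂ hy₂K) hf hsP hso (hcomm y hy hyK)
        (hcomm y₂ hy₂ hy₂K)

/-- an element of odd order fixing the 2-component of a transposition fixes `K / O(K)` -/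
theorem fixes_of_cmp {K : Subgroup G} (L : Lab K) {y : G} (hyK : y ∈ normalizer (K : Set G))
    (hyy : y * y = 1) (h5 : (fixIn Finset.univ (L.φ y)).card = 5) (hsK : s ∈ normalizer (K : Set G))
    (hf : Fixes s (L.cmp y)) : Fixes s K := by
  rw [← L.fixes_iff hsK]
  by_contra hs1
  obtain ⟨B, hB⟩ := L.exists_cmp_five hyK hyy (by omega) (by omega)
  have hsn : L.φ s ^ orderOf s = 1 := by
    rw [← L.pow hsK, pow_orderOf_eq_one, L.one]
  have h3 := OddFix.three_le_support hF.odd hsn hs1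
  have h1 := (B.fixes_iff hf.1).mpr hf
  have h2 : (L.φ s).support ⊆ Finset.univ \ fixIn Finset.univ (L.φ y) := by
    intro i hi
    rw [Finset.mem_sdiff]
    refine ⟨Finset.mem_univ _, fun hiF => (Equiv.Perm.mem_support.mp hi) ?_⟩
    rw [← L.compat B (L.cmp_le y) hB hsK hf.1 hiF, h1]
    rfl
  have h4 := Finset.card_le_card h2
  rw [Finset.card_sdiff_of_subset (Finset.subset_univ _), Finset.card_univ, Fintype.card_fin] at h4
  omega

/-- **(A), K-level, type `A₇`** -/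
theorem fixes_of_lab {c x : G} {K : Subgroup G} (hc : c ∈ Y)
    (hK : IsComp (centralizer ({c * t} : Set G)) K) (L : Lab K) (S : IsTriple x (c * t) K)
    (hx : ∃ y ∈ Y, x = y ∨ x = y * t)
    (no7 : ∀ (w x : G) (K : Subgroup G) (L : Lab K), ¬ Bad7 Y V w x K L) : Fixes s K := by
  by_cases hYK : ∀ y' ∈ Y, y' ∈ normalizer (K : Set G)
  swap
  · push Not at hYK
    obtain ⟨y', hy', hy'K⟩ := hYK
    exact hF.fixes_of_moved hc hK hy' hy'K
  obtain ⟨hrK, hsK⟩ := hF.sN hc hK (Or.inr ⟨L⟩) hYK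
  have hYX : ∀ y ∈ Y, y ∈ centralizer ({c * t} : Set G) := fun y hy => mem_c (hF.comm_ct hy hc)
  by_cases hfx : ∃ y' ∈ Y, y' ≠ 1 ∧ Fixes y' K
  · obtain ⟨y', hy', hy'1, hf⟩ := hfx
    obtain ⟨h1, h3⟩ := isComp_cen hK (hYX y' hy') (hF.ysq y' hy') hf
    have h4 := hF.star c hc y' hy' hy'1 _ h1
    exact (fixes_iff_of_sup h3 h4.1 hsK).mp h4
  push Not at hfx
  have hφ1 : ∀ y ∈ Y, y ≠ 1 → L.φ y ≠ 1 := fun y hy hy1 h =>
    hfx y hy hy1 ((L.fixes_iff (hYK y hy)).mp h)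
  have hcardfix : ∀ σ : P7, (fixIn Finset.univ σ).card + σ.support.card = 7 := by
    intro σ
    have h6 := Finset.card_filter_add_card_filter_not (s := (Finset.univ : Finset (Fin 7)))
      (p := fun i => σ i = i)
    rw [Finset.card_univ, Fintype.card_fin] at h6
    have h7 : (fixIn Finset.univ σ).card = (Finset.univ.filter fun i => σ i = i).card := rfl
    have h8 : σ.support = (Finset.univ.filter fun i => ¬ σ i = i) := by
      ext i
      simp [Equiv.Perm.mem_support]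
    rw [h8]
    omega
  by_cases htr : ∃ y' ∈ Y, (L.φ y').support.card = 2
  · obtain ⟨y', hy', h2⟩ := htr
    have hy'1 : y' ≠ 1 := by
      rintro rfl
      rw [L.one, Equiv.Perm.support_one, Finset.card_empty] at h2
      omega
    have h5 : (fixIn Finset.univ (L.φ y')).card = 5 := by
      have := hcardfix (L.φ y')
      omega
    have h1 := L.isComp_cmp_of hK (hYK y' hy') (hF.ysq y' hy') (by omega)
    exact hF.fixes_of_cmp L (hYK y' hy') (hF.ysq y' hy') h5 hsK (hF.star c hc y' hy' hy'1 _ h1)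
  push Not at htr
  by_contra hns
  have hs1 : L.φ s ≠ 1 := fun h => hns ((L.fixes_iff hsK).mp h)
  have hsn : L.φ s ^ orderOf s = 1 := by
    rw [← L.pow hsK, pow_orderOf_eq_one, L.one]
  obtain ⟨a, ha, b, hb, ha1, hb1, hab⟩ := exists_gens hF.ycard
  have haK := hYK a ha
  have hbK := hYK b hb
  have hbm : a * b ∈ Y := mul_mem ha hb
  have hab1 : a * b ≠ 1 := fun h => hab (by
    have h4 := eq_inv_of_mul_eq_one_left h
    rwa [inv_eq_of_mul_eq_one_left (hF.ysq b hb)] at h4)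
  have hcomm : L.φ a * L.φ b = L.φ b * L.φ a := L.comm haK hbK (Cfsg.Agent.UGT.L2Inner.comm_of_sq hF.ysq ha hb)
  have haa := L.sq haK (hF.ysq a ha)
  have hbb := L.sq hbK (hF.ysq b hb)
  have hmab : L.φ (a * b) = L.φ a * L.φ b := L.mul _ _ haK hbK
  obtain ⟨T, hT4, e1, e2, e3, -⟩ := OddFix.main hF.odd hsn hs1 haa hbb hcomm
    (L.comm haK hsK (hF.ys a ha)) (L.comm hbK hsK (hF.ys b hb)) (hφ1 a ha ha1) (hφ1 b hb hb1)
    (hmab ▸ hφ1 _ hbm hab1) (htr a ha) (htr b hb) (hmab ▸ htr _ hbm)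
  have hinv : L.φ t' * L.φ s * (L.φ t')⁻¹ = (L.φ s)⁻¹ := by
    rw [← L.conj hrK hsK, hF.inv, L.inv hsK]
  have hYs : ∀ y ∈ Y, L.φ y * L.φ s = L.φ s * L.φ y := fun y hy => L.comm (hYK y hy) hsK (hF.ys y hy)
  rcases perm_dich hT4 haa hbb hcomm e1 e2 e3 (L.sq hrK hF.rr) (L.comm haK hrK (hF.yr a ha))
    (L.comm hbK hrK (hF.yr b hb)) with h | ⟨h, ha', hb', v, hv, hr'⟩
  · -- `t'` commutes with `s`
    have h1 : L.φ t' * L.φ s = L.φ s * L.φ t' := by
      rcases h with h | h | h | h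
      · rw [h, one_mul, mul_one]
      · rw [h]; exact hYs a ha
      · rw [h]; exact hYs b hb
      · rw [h, ← hmab]; exact hYs _ hbm
    rw [h1, mul_inv_cancel_right] at hinv
    have h2 : L.φ s * L.φ s = 1 := by
      nth_rw 1 [hinv]
      exact inv_mul_cancel _
    apply hs1
    have h3 : ∀ i, L.φ s i = i := fun i => OddFix.fix_of_sq_of_odd hF.odd hsn (app h2 i)
    exact Equiv.ext h3
  · -- the bad configuration
    obtain ⟨L', hL'⟩ := exists_relabel L h⁻¹
    rw [inv_inv] at hL'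
    have k : ∀ {g : G} {τ : P7}, L.φ g * h = h * τ → L'.φ g = τ := by
      intro g τ hg
      rw [hL', mul_assoc, hg, inv_mul_cancel_left]
    have ka := k ha'
    have kb := k hb'
    have kr := k hr'
    have hwK : c * t ∈ normalizer (K : Set G) := (fixes_self' hK.le).1
    have hwφ : L'.φ (c * t) = 1 := (L'.fixes_iff hwK).mpr (fixes_self' hK.le)
    have hcK := hYK c hc
    have htK : t ∈ normalizer (K : Set G) := by
      have := mul_mem (inv_mem hcK) hwK
      rwa [inv_mul_cancel_left] at this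
    have hYφ : ∀ y ∈ Y, IsV (L'.φ y) := by
      intro y hy
      rcases Cfsg.Agent.UGT.L2Inner.Four.mem_cases (P := Y) ⟨hF.ycard, hF.ysq⟩ ha hb ha1 hb1 hab.symm hy with
        rfl | rfl | rfl | rfl
      · rw [L'.one]; exact Or.inl rfl
      · rw [ka]; exact Or.inr (Or.inl rfl)
      · rw [kb]; exact Or.inr (Or.inr (Or.inl rfl))
      · rw [L'.mul _ _ haK hbK, ka, kb]
        exact isV_mul (Or.inr (Or.inl rfl)) (Or.inr (Or.inr (Or.inl rfl)))
    have htφ : IsV (L'.φ t) := by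
      have h1 : L'.φ (c * t) = L'.φ c * L'.φ t := L'.mul _ _ hcK htK
      rw [hwφ] at h1
      rw [(eq_inv_of_mul_eq_one_right h1.symm), isV_inv (hYφ c hc)]
      exact hYφ c hc
    have hrφ : IsV (L'.φ t' * ta) := by
      rw [kr, mul_assoc, ta_ta, mul_one]; exact hv
    have hVK : ∀ v ∈ V, v ∈ normalizer (K : Set G) ∧ L'.φ v ∈ VT := by
      intro v hv
      rcases hF.Vle v hv with rfl | rfl | rfl | rfl
      · exact ⟨one_mem _, by rw [L'.one]; exact one_mem _⟩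
      · exact ⟨htK, Or.inl htφ⟩
      · exact ⟨hrK, Or.inr hrφ⟩
      · refine ⟨mul_mem htK hrK, ?_⟩
        rw [L'.mul _ _ htK hrK]
        exact VT.mul_mem (Or.inl htφ) (Or.inr hrφ)
    have hE : ∀ e ∈ Y ⊔ V, ∃ hn : e ∈ normalizer (K : Set G), L'.φ e ∈ VT := by
      have h1 : Y ⊔ V ≤ (VT.comap L'.hom).map (normalizer (K : Set G)).subtype := by
        refine sup_le (fun y hy => ?_) (fun v hv => ?_)
        · exact ⟨⟨y, hYK y hy⟩, Or.inl (hYφ y hy), rfl⟩
        · exact ⟨⟨v, (hVK v hv).1⟩, (hVK v hv).2, rfl⟩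
      intro e he
      obtain ⟨⟨e', he'⟩, h2, rfl⟩ := h1 he
      exact ⟨he', h2⟩
    have hsurY : ∀ σ, IsV σ → ∃ y ∈ Y, L'.φ y = σ := by
      rintro σ (rfl | rfl | rfl | rfl)
      · exact ⟨1, one_mem _, L'.one⟩
      · exact ⟨a, ha, ka⟩
      · exact ⟨b, hb, kb⟩
      · refine ⟨a * b, hbm, ?_⟩
        rw [L'.mul _ _ haK hbK, ka, kb]
        unfold b1 b2 b3; decide
    have hleY : Y ≤ Y ⊔ V := le_sup_left
    have hleV : V ≤ Y ⊔ V := le_sup_right
    have hφ1' : ∀ y ∈ Y, y ≠ 1 → L'.φ y ≠ 1 := fun y hy hy1 h =>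
      hfx y hy hy1 ((L'.fixes_iff (hYK y hy)).mp h)
    refine no7 (c * t) x K L' ⟨mul_mem (hleY hc) (hleV hF.tV), fun h => hF.tY ?_, ?_, S,
      fun e he => (hE e he).1, fun e he => (hE e he).2, fun σ hσ => ⟨?_, ?_⟩, ?_, hφ1', fun y hy h => ?_⟩
    · have := mul_mem (inv_mem hc) h
      rwa [inv_mul_cancel_left] at this
    · obtain ⟨y, hy, rfl | rfl⟩ := hx
      · exact hleY hy
      · exact mul_mem (hleY hy) (hleV hF.tV)
    · obtain ⟨y, hy, h⟩ := hsurY σ hσ
      exact ⟨y, hleY hy, h⟩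
    · obtain ⟨y, hy, h⟩ := hsurY (σ * v) (isV_mul hσ hv)
      refine ⟨y * t', mul_mem (hleY hy) (hleV hF.rV), ?_⟩
      rw [L'.mul _ _ (hYK y hy) hrK, h, kr]
      have h2 : v * v = 1 := by
        have := isV_inv hv
        nth_rw 1 [← this]
        exact inv_mul_cancel _
      calc σ * v * (v * ta) = σ * (v * v) * ta := by group
        _ = σ * ta := by rw [h2, mul_one]
    · obtain ⟨y, hy, rfl | rfl⟩ := hx
      · exact hYφ _ hy
      · rw [L'.mul _ _ (hYK y hy) htK]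
        exact isV_mul (hYφ y hy) htφ
    · rcases hYφ y hy with h1 | h1 | h1 | h1 <;> rw [h] at h1 <;> exact absurd h1 (by decide)

/-- `s` fixes the 2-components of `C(c t)` moved by `O(C(y)) ∩ C(c t)`, `y ∈ Y#` -/
theorem fixes_of_core {c y z : G} {K : Subgroup G} (hc : c ∈ Y)
    (hK : IsComp (centralizer ({c * t} : Set G)) K) (hy : y ∈ Y) (hy1 : y ≠ 1)
    (hz : z ∈ core (centralizer ({y} : Set G))) (hzc : z ∈ centralizer ({c * t} : Set G))
    (hf : ¬ Fixes z K) (no7 : ∀ (w x : G) (K : Subgroup G) (L : Lab K), ¬ Bad7 Y V w x K L) :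
    Fixes s K := by
  have S : IsTriple y (c * t) K := ⟨order_two (hF.ysq y hy) hy1,
    order_two (hF.sq_mul hc) (hF.ct_ne hc), (hF.comm_ct hy hc).symm, hK, z, hz, hzc, hf⟩
  rcases hF.rep _ _ _ S with ⟨F, _, _, ⟨R⟩⟩ | ⟨⟨L⟩⟩
  · exact hF.fixes_of_pgl hc hK R hy S.x_mem S.not_fixes (WBTriple.mem_PGL S R)
  · exact hF.fixes_of_lab hc hK L S ⟨y, hy, Or.inl rfl⟩ no7

/-- **(A1)** -/
theorem comm_mem {c y z : G} (hc : c ∈ Y) (hy : y ∈ Y) (hy1 : y ≠ 1)
    (hz : z ∈ core (centralizer ({y} : Set G))) (hzc : z ∈ centralizer ({c * t} : Set G))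
    (no7 : ∀ (w x : G) (K : Subgroup G) (L : Lab K), ¬ Bad7 Y V w x K L) :
    ⁅z, s⁆ ∈ core (centralizer ({c * t} : Set G)) := by
  have hsX : s ∈ centralizer ({c * t} : Set G) := hF.sX hc
  have he : ⁅z, s⁆ = z * (s * z⁻¹ * s⁻¹) := by
    rw [commutatorElement_def]; group
  have hw : ⁅z, s⁆ ∈ core (centralizer ({y} : Set G)) := by
    rw [he]
    exact mul_mem hz (conj_core (mem_c (hF.ys y hy).symm) (inv_mem hz))
  have hwc : ⁅z, s⁆ ∈ centralizer ({c * t} : Set G) := by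
    rw [he]
    exact mul_mem hzc (mul_mem (mul_mem hsX (inv_mem hzc)) (inv_mem hsX))
  by_contra hn
  obtain ⟨K, hK, hf⟩ := Res.Base.exists_moved (H := centralizer ({c * t} : Set G)) (x := y)
    (mem_c (hF.comm_ct hy hc)) (order_two (hF.ysq y hy) hy1) (inf_le_core hw hwc) hn
  have hyX : c * t * y = y * (c * t) := (hF.comm_ct hy hc).symm
  have key : ∀ K : Subgroup G, IsComp (centralizer ({c * t} : Set G)) K → ¬ Fixes z K →
      Fixes s K := fun K hK h => hF.fixes_of_core hc hK hy hy1 hz hzc h no7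
  by_cases hzK : Fixes z K
  · have hK' := isComp_cj_of_mem hK (inv_mem hsX)
    have hK'K : cj s (cj s⁻¹ K) = K := by rw [← cj_mul, mul_inv_cancel, cj_one]
    have hzK' : ¬ Fixes z (cj s⁻¹ K) := by
      intro h
      apply hf
      have h1 := (fixes_inv h).cj s
      rw [hK'K] at h1
      rw [he]
      exact fixes_mul hzK h1
    have h2 := (key _ hK' hzK').1
    rw [mem_normalizer_iff_cj, hK'K] at h2
    rw [← h2] at hzK'
    exact hzK' hzK
  · have hsK := key K hK hzK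
    have hzN : z ∈ normalizer (K : Set G) :=
      mem_normalizer hK (mem_c (hF.comm_ct hy hc)) (order_two (hF.ysq y hy) hy1)
        (inf_le_core hz hzc)
    apply hf
    rw [commutatorElement_def]
    exact fixes_mul (fixes_conj hsK hzN) (fixes_inv hsK)

/-- **(A2)** -/
theorem mem_core {c c' : G} (hc' : c' ∈ Y)
    (hs : s ∈ core (centralizer ({c' * t} : Set G))) (hc : c ∈ Y)
    (no7 : ∀ (w x : G) (K : Subgroup G) (L : Lab K), ¬ Bad7 Y V w x K L) :
    s ∈ core (centralizer ({c * t} : Set G)) := by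
  by_cases hcc : c = c'
  · rw [hcc]; exact hs
  by_contra hn
  have hne1 : ∀ c ∈ Y, c * t ≠ 1 := fun c hc => hF.ct_ne hc
  have hsX : s ∈ centralizer ({c * t} : Set G) := hF.sX hc
  have hcomm : c * t * (c' * t) = c' * t * (c * t) := by
    have h1 : c' * t = t * c' := hF.yt c' hc'
    have h2 : c * t = t * c := hF.yt c hc
    calc c * t * (c' * t) = c * t * (t * c') := by rw [h1]
      _ = c * (t * t) * c' := by group
      _ = c' * c := by rw [hF.tt, mul_one, Cfsg.Agent.UGT.L2Inner.comm_of_sq hF.ysq hc hc']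
      _ = c' * (t * t) * c := by rw [hF.tt, mul_one]
      _ = c' * t * (t * c) := by group
      _ = c' * t * (c * t) := by rw [h2]
  have ho : orderOf (c' * t) = 2 := order_two (hF.sq_mul hc') (hne1 c' hc')
  obtain ⟨K, hK, hf⟩ := Res.Base.exists_moved (H := centralizer ({c * t} : Set G)) (x := c' * t)
    (mem_c hcomm.symm) ho (inf_le_core hs hsX) hn
  have S : IsTriple (c' * t) (c * t) K := ⟨ho,
    order_two (hF.sq_mul hc) (hne1 c hc), hcomm, hK, s, hs, hsX, hf⟩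
  have hcK : Fixes (c * t) K := fixes_self' hK.le
  have hy : c' * c ∈ Y := mul_mem hc' hc
  have he : c' * c = c' * t * (c * t) := by
    have h2 : c * t = t * c := hF.yt c hc
    calc c' * c = c' * (t * t) * c := by rw [hF.tt, mul_one]
      _ = c' * t * (t * c) := by group
      _ = _ := by rw [h2]
  have hyK : c' * c ∈ normalizer (K : Set G) := by
    rw [he]
    exact mul_mem S.x_mem hcK.1
  have hact : act K ⟨c' * c, hyK⟩ = act K ⟨c' * t, S.x_mem⟩ := by
    rw [act_congr hyK he, act_mul S.x_mem hcK.1, (act_eq_one_iff hcK.1).mpr hcK, mul_one]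
  apply hf
  rcases hF.rep _ _ _ S with ⟨F, _, _, ⟨R⟩⟩ | ⟨⟨L⟩⟩
  swap
  · exact hF.fixes_of_lab hc hK L S ⟨c', hc', Or.inr rfl⟩ no7
  refine hF.fixes_of_pgl hc hK R hy hyK ?_ ?_
  · intro h
    rw [← act_eq_one_iff hyK, hact, act_eq_one_iff] at h
    exact S.not_fixes h
  · rw [hact]
    exact WBTriple.mem_PGL S R

end AH

end Cfsg.Agent.UGT.A7.M1
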