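import Cfsg.Agent.UGT.A7.M1.PkgOf
import Cfsg.Agent.UGT.A7.M1.Lab7
import Cfsg.Agent.UGT.A7.M1.Tor7
import Cfsg.Agent.UGT.A7.M1.WBAct
import Cfsg.Agent.UGT.A7.BLem
import Cfsg.Agent.UGT.L2i.FactsRep
import Cfsg.Agent.UGT.A7.M1.CanonEnd

/-!
# Glue for the theorem on `A₇`-triples of rank at least two (bb #14042)

* `rep_of_w7`;
* `Pre7.yf7`, `Pre7.fr`, `Pre7.exists_ah` : frames;
* `Pre7.tor`, `Pre7.exists_one` : the statement (A) without bad configurations.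
-/

set_option autoImplicit false

open Cfsg Subgroup Equiv
open Cfsg.Agent.SignalizersComponents Cfsg.Agent.Lib
open Cfsg.Agent.SignalizersComponents.IntrinsicBasic
open Cfsg.Agent.SignalizersComponents.IntrinsicIntr
open Cfsg.Agent.SignalizersComponents.PLayerAut
open Cfsg.Agent.Intrinsic.Basic Cfsg.Agent.Intrinsic.Cen Cfsg.Agent.Intrinsic.Diag
open Cfsg.Agent.McLLyComp.Act
open Cfsg.Agent.UGT.TMCBase Cfsg.Agent.UGT.TMCSyl Cfsg.Agent.UGT.TMCMax Cfsg.Agent.UGT.TMCBad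
open Cfsg.Agent.UGT.Triple (IsTriple)
open Cfsg.Agent.UGT.TriBase (IsSyl fixes_self')
open Cfsg.Agent.UGT.Iface (Bar IsInner)
open Cfsg.Agent.UGT.A7.Mu (T7 M7 IsA7)
open Cfsg.Agent.UAlt
open Cfsg.Agent.UGT.L2Inner (Four four_of jn L2T)
open scoped commutatorElement

universe u

namespace Cfsg.Agent.UGT.A7.M1

variable {G : Type u} [Group G] [Finite G] {L M Q Y V : Subgroup G} {l k : G}

theorem rep_of_w7 (hw : W7 G) : ∀ (x a : G) (K : Subgroup G), IsTriple x a K → L2T K ∨ Nonempty (Lab K) := by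
  intro x a K T
  rcases hw x a K T with ⟨h, -⟩ | h
  · left
    obtain ⟨F, i1, i2, -, ⟨R⟩⟩ := L2i.exists_rep h
    exact ⟨F, i1, i2, ⟨R⟩⟩
  · exact Or.inr (BLem.isA7_of_isAlt h)

/-- involutions of `M` are not in the centralizer of `M` -/
theorem Pre7.notMem (h : Pre7 l k M Q) (hYQ : Y ≤ Q) {t : G} (ht : t ∈ M) (htt : t * t = 1) (ht1 : t ≠ 1) :
    t ∉ Y := by
  intro htY
  obtain ⟨Mo⟩ := h.a7
  exact nf_of_lab Mo ht htt ht1 (fixes_self' fun m hm => mem_c (h.comm t (hYQ htY) m hm).symm)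

theorem Pre7.yf7 (h : Pre7 l k M Q) (hY : Four Y) (hYQ : Y ≤ Q) : YF7 M Y where
  ysq := hY.elem
  ycard := hY.card
  ym y hy m hm := h.comm y (hYQ hy) m hm
  comp y hy hy1 := by
    obtain ⟨N, hN, h1, h2⟩ := h.good y (hYQ hy) (L2Inner.order_two (hY.elem y hy) hy1)
    exact ⟨N, hN.tri.comp, h1, h2, hN.a7⟩

theorem Pre7.fr (h : Pre7 l k M Q) (hY : Four Y) (hYQ : Y ≤ Q) (hV : Four V) (hVM : V ≤ M) : Fr M Y V :=
  (h.yf7 hY hYQ).fr hV hVM

/-- the input of `(A)` -/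
theorem Pre7.exists_ah (h : Pre7 l k M Q)
    (hrep : ∀ (x a : G) (K : Subgroup G), IsTriple x a K → L2T K ∨ Nonempty (Lab K)) :
    ∃ (V : Subgroup G) (m t' : G), Gd M V ∧ l ∈ V ∧ m ∈ M ∧ m ∉ core M ∧
      m ∈ core (centralizer ({l * k} : Set G)) ∧ m * l = l * m ∧
      ∀ Y : Subgroup G, Four Y → Y ≤ Q → AH Y V l m t' := by
  obtain ⟨Mo, m, t', hm, ht', hml, htl, htt, hinv, hodd, hmc, hmx, hφl, hφt⟩ := h.exists_m
  have hgd : Gd M (jn t' (zpowers l)) := gd_of_lab Mo h.lM ht' hφl hφt h.ll htt htl.symm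
  have hlV : l ∈ jn t' (zpowers l) := Cfsg.Agent.UGT.L2Inner.le_jn _ _ (mem_zpowers l)
  have htV : t' ∈ jn t' (zpowers l) := Cfsg.Agent.UGT.L2Inner.self_mem_jn _ _
  have ht1 : t' ≠ 1 := by
    rintro rfl
    rw [Mo.one] at hφt
    exact absurd hφt (by decide)
  have htl1 : t' ≠ l := by
    rintro rfl
    rw [hφl] at hφt
    exact absurd hφt (by decide)
  refine ⟨_, m, t', hgd, hlV, hm, hmc, hmx, hml, fun Y hY hYQ => ?_⟩
  have hcom : ∀ y ∈ Y, ∀ g ∈ M, y * g = g * y := fun y hy g hg => h.comm y (hYQ hy) g hg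
  refine ⟨hY.elem, hY.card, fun y hy => hcom y hy l h.lM, fun y hy => hcom y hy m hm,
    fun y hy => hcom y hy t' ht', h.notMem hYQ h.lM h.ll h.l1, h.ll, h.l1, hml, hodd, htt, htl, hinv,
    hlV, htV, fun v hv => hgd.four.mem_cases hlV htV h.l1 ht1 htl1 hv, ?_, ?_, hrep⟩
  · intro c hc y hy hy1 I hI
    exact (h.yf7 hY hYQ).toYF.star h.lM h.ll h.l1 hc hy hy1 hI hm hml
  · intro c hc K hK hT hYK
    have hKT : KT K := by
      rcases hT with h1 | ⟨⟨ML⟩⟩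
      · exact KT.of_l2 h1
      · exact KT.of_lab ML
    refine ⟨(h.fr hY hYQ hgd.four hgd.le).norm hlV h.l1 hc hK hKT hYK htV, ?_⟩
    have hgd' := hgd.cj_of (le_normalizer hm)
    have hlV' : l ∈ cj m (jn t' (zpowers l)) := by
      have h1 : m * l * m⁻¹ = l := by rw [hml, mul_inv_cancel_right]
      have h2 : m * l * m⁻¹ ∈ cj m (jn t' (zpowers l)) := conj_mem_cj hlV
      rwa [h1] at h2
    exact (h.fr hY hYQ hgd'.four hgd'.le).norm hlV' h.l1 hc hK hKT hYK (conj_mem_cj htV)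

variable (hrep : ∀ (x a : G) (K : Subgroup G), IsTriple x a K → L2T K ∨ Nonempty (Lab K))
include hrep

/-- the statement (A) -/
theorem Pre7.tor (h : Pre7 l 1 M Q)
    (hno : ∀ (Y V : Subgroup G) (w x : G) (K : Subgroup G) (L : Lab K), Four Y → Y ≤ Q → Gd M V → l ∈ V →
      ¬ L2Inner.Bad7 Y V w x K L) (hY : Four Y) (hYQ : Y ≤ Q) : P3.Tor M Y := by
  obtain ⟨V, m, t', hgd, hlV, hm, hmc, -, hml, hah⟩ := h.exists_ah hrep
  refine ⟨l, h.lM, h.ll, h.l1, m, hm, hml, hmc, ?_⟩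
  intro y hy hy1 y' hy' z hz hzc
  have hcomm : l * y' = y' * l := (h.comm y' (hYQ hy') l h.lM).symm
  rw [hcomm] at hzc ⊢
  exact (hah Y hY hYQ).comm_mem hy' hy hy1 hz (mem_c hzc)
    (fun w x K L => hno Y V w x K L hY hYQ hgd hlV)

/-- `x` may be replaced by `l` -/
theorem Pre7.exists_one (h : Pre7 l k M Q)
    (hno : ∀ (Y V : Subgroup G) (w x : G) (K : Subgroup G) (L : Lab K), Four Y → Y ≤ Q → k ∈ Y → Gd M V → l ∈ V →
      ¬ L2Inner.Bad7 Y V w x K L) (hY : Four Y) (hYQ : Y ≤ Q) (hkY : k ∈ Y) : Pre7 l 1 M Q := by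
  obtain ⟨V, m, t', hgd, hlV, hm, hmc, hmx, hml, hah⟩ := h.exists_ah hrep
  refine h.one hm hmc ?_
  have hcomm : l * k = k * l := (h.comm k h.kQ l h.lM).symm
  rw [hcomm] at hmx
  have h1 := (hah Y hY hYQ).mem_core (c := 1) hkY hmx (one_mem _)
    (fun w x K L => hno Y V w x K L hY hYQ hkY hgd hlV)
  rwa [one_mul] at h1

omit hrep in
/-- all involutions of `M` have the same role -/
theorem Pre7.conj (h : Pre7 l 1 M Q) {v : G} (hv : v ∈ M) (hvv : v * v = 1) (hv1 : v ≠ 1) :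
    Pre7 v 1 M Q where
  self := h.self
  a7 := h.a7
  comm := h.comm
  two := h.two
  src := h.src
  lM := hv
  ll := hvv
  l1 := hv1
  kQ := h.kQ
  kk := h.kk
  kc := h.kc
  good := by
    intro y hy hyy
    obtain ⟨L, hF, hML, hs⟩ := h.good y hy hyy
    obtain ⟨Mo⟩ := h.a7
    obtain ⟨g, hg, rfl⟩ := exists_conj (qf_of_lab Mo) h.lM hv h.ll h.l1 hvv hv1
    refine ⟨L, ?_, hML, hs⟩
    have h1 := cj7 hF g
    have h2 : g * y * g⁻¹ = y := by rw [← h.comm y hy g hg, mul_inv_cancel_right]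
    rw [h2, mem_normalizer_iff_cj.mp (le_normalizer (hML hg)), mul_one] at h1
    rw [mul_one]
    exact h1
  max := h.max
  rk := h.rk

end Cfsg.Agent.UGT.A7.M1
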