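import Cfsg.Agent.UGT.A7.M1.Glue7
import Cfsg.Agent.UGT.A7.M1.ClsSide

/-!
# Glue for the theorem on `A₇`-triples of rank at least two (bb #14042), second part

* `exists_four_mem` : a four-group of `Q` containing a given central involution;
* `Pre7.exists_cls` : the class `N₀` of a terminal triple of rank at least two;
* `two_of_extra`, `beta_of_rank` : (beta') or a terminal triple of rank at least two.
-/

set_option autoImplicit false

open Cfsg Subgroup Equiv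
open Cfsg.Agent.SignalizersComponents Cfsg.Agent.Lib
open Cfsg.Agent.SignalizersComponents.IntrinsicBasic
open Cfsg.Agent.SignalizersComponents.IntrinsicIntr
open Cfsg.Agent.SignalizersComponents.PLayerAut
open Cfsg.Agent.Intrinsic.Basic Cfsg.Agent.Intrinsic.Cen Cfsg.Agent.Intrinsic.Diag
open Cfsg.Agent.McLLyComp.Act
open Cfsg.Agent.UGT.TMCBase Cfsg.Agent.UGT.TMCSyl Cfsg.Agent.UGT.TMCMax Cfsg.Agent.UGT.TMCBad
open Cfsg.Agent.UGT.Triple (IsTriple)
open Cfsg.Agent.UGT.TriBase (IsSyl fixes_self')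
open Cfsg.Agent.UGT.Iface (Bar IsInner)
open Cfsg.Agent.UGT.A7.Mu (T7 M7 IsA7 FF BetaP)
open Cfsg.Agent.UAlt
open Cfsg.Agent.UGT.L2Inner (Four four_of jn L2T)
open scoped commutatorElement

universe u

namespace Cfsg.Agent.UGT.A7.M1

variable {G : Type u} [Group G] [Finite G] {L M Q Y V : Subgroup G} {l k : G}

omit [Finite G] in
/-- a four-group containing a central element of order at most two -/
theorem exists_four_mem (hk : k ∈ Q) (hkk : k * k = 1) (hc : ∀ q ∈ Q, q * k = k * q)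
    (hr : ∃ a ∈ Q, ∃ b ∈ Q, orderOf a = 2 ∧ orderOf b = 2 ∧ a * b = b * a ∧ a ≠ b) :
    ∃ Y : Subgroup G, Four Y ∧ Y ≤ Q ∧ k ∈ Y := by
  obtain ⟨a, ha, b, hb, oa, ob, hab, hne⟩ := hr
  have key : ∀ x y : G, x ∈ Q → y ∈ Q → x * x = 1 → y * y = 1 → x * y = y * x → x ≠ 1 → y ≠ 1 → y ≠ x →
      (k = x ∨ k = 1) → ∃ Y : Subgroup G, Four Y ∧ Y ≤ Q ∧ k ∈ Y := by
    intro x y hx hy hxx hyy hxy hx1 hy1 hyx hk'
    refine ⟨jn y (zpowers x), four_of hxx hyy hxy hx1 hy1 hyx,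
      Cfsg.Agent.UGT.L2Inner.jn_le hy (zpowers_le.mpr hx), ?_⟩
    rcases hk' with rfl | rfl
    · exact Cfsg.Agent.UGT.L2Inner.le_jn _ _ (mem_zpowers k)
    · exact one_mem _
  have haa := Triple.sq_of_order oa
  have hbb := Triple.sq_of_order ob
  have ha1 := Triple.ne_one_of_order oa
  have hb1 := Triple.ne_one_of_order ob
  by_cases hk1 : k = 1
  · exact key a b ha hb haa hbb hab ha1 hb1 hne.symm (Or.inr hk1)
  · by_cases hka : k = a
    · exact key a b ha hb haa hbb hab ha1 hb1 hne.symm (Or.inl hka)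
    · exact key k a hk ha hkk haa (hc a ha).symm hk1 ha1 (fun h => hka h.symm) (Or.inl rfl)

/-- **the class of a terminal triple of rank at least two** -/
theorem Pre7.exists_cls (FT : ∀ Y : Subgroup G, Odd (Nat.card Y) → Group.IsSolvable Y)
    (hrep : ∀ (x a : G) (K : Subgroup G), IsTriple x a K → L2T K ∨ Nonempty (Lab K))
    (h : Pre7 l k M Q)
    (hno : ∀ (l k : G), Pre7 l k M Q → ∀ (Y V : Subgroup G) (w x : G) (K : Subgroup G) (L : Lab K),
      Four Y → Y ≤ Q → k ∈ Y → Gd M V → l ∈ V → ¬ L2Inner.Bad7 Y V w x K L)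
    (hyp : ∀ Y V : Subgroup G, Four Y → Y ≤ Q → Gd M V →
      (∀ (w x : G) (K : Subgroup G) (L : Lab K), ¬ L2Inner.Bad7 Y V w x K L) → Func52.Hyp (Y ⊔ V))
    (hr : ∃ a ∈ Q, ∃ b ∈ Q, orderOf a = 2 ∧ orderOf b = 2 ∧ a * b = b * a ∧ a ≠ b) :
    ∃ N₀ : Subgroup G, Cls0 N₀ ∧ Nonempty (Lab N₀) := by
  obtain ⟨Y, hY, hYQ, hkY⟩ := exists_four_mem h.kQ h.kk h.kc hr
  have h1 := h.exists_one hrep (hno l k h) hY hYQ hkY
  obtain ⟨N₀, -, hs, hC⟩ := (h1.pkg hr).canon_of FT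
    (fun Y V hY hYQ hV => hyp Y V hY hYQ hV fun w x K L => by
      obtain ⟨v, hv, hv1, -⟩ := hV.four.exists_ne 1
      have h2 := h1.conj (hV.le hv) (hV.four.elem v hv) hv1
      exact hno v 1 h2 Y V w x K L hY hYQ (one_mem _) hV hv)
    fun Y hY hYQ => h1.tor hrep (fun Y V w x K L hY hYQ hV hl => hno l 1 h1 Y V w x K L hY hYQ (one_mem _) hV hl)
      hY hYQ
  obtain ⟨Mo⟩ := h.a7
  obtain ⟨M', -⟩ := exists_up Mo hs
  exact ⟨N₀, hC, ⟨M'⟩⟩

/-- rank at least two from an extra involution in one triple -/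
theorem two_of_extra (hPu : Mu.Pump7 G) {x a : G} (hT : T7 x a L) {g : G} (hg : g ∈ FF x a L)
    (hgg : g * g = 1) (hg1 : g ≠ 1) (hga : g ≠ a) :
    ∃ (l k : G) (M Q : Subgroup G), Pre7 l k M Q ∧
      ∃ a ∈ Q, ∃ b ∈ Q, orderOf a = 2 ∧ orderOf b = 2 ∧ a * b = b * a ∧ a ≠ b := by
  obtain ⟨x', a', L', Q, h⟩ := exists_term7 hPu ⟨x, a, L, hT⟩
  obtain ⟨l, k, -, hp⟩ := h.pre
  refine ⟨l, k, _, Q, hp, ?_⟩
  obtain ⟨hg1', hg2, hg3⟩ := hg
  have haa := Triple.sq_of_order hT.tri.inva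
  have ha1 := Triple.ne_one_of_order hT.tri.inva
  have hF := four_of haa hgg hg1'.symm ha1 hg1 hga
  have hle : jn g (zpowers a) ≤ FXx x a L :=
    Cfsg.Agent.UGT.L2Inner.jn_le (mem_FXx.mpr ⟨⟨hg1', hg3⟩, hg2⟩)
      (zpowers_le.mpr (mem_FXx.mpr ⟨⟨rfl, fixes_self hT.tri.comp⟩, hT.tri.comm⟩))
  have h4 : 4 ≤ el Q := by
    have h5 := le_el hle hF.elem
    rw [hF.card] at h5
    exact h5.trans (h.rk x a L hT)
  obtain ⟨A, hAQ, hA, hAc⟩ := exists_el Q
  -- two involutions of `A`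
  have hfin : ∀ c : G, ∃ b ∈ A, b ≠ 1 ∧ b ≠ c := by
    intro c
    by_contra hno
    push Not at hno
    have h1 : (A : Set G) ⊆ {1, c} := by
      intro x hx
      rcases eq_or_ne x 1 with h2 | h2
      · left; exact h2
      · right; exact hno x hx h2
    have h2 : (A : Set G).ncard ≤ ({1, c} : Set G).ncard := Set.ncard_le_ncard h1 (Set.toFinite _)
    have h3 : ({1, c} : Set G).ncard ≤ 2 := Set.ncard_insert_le 1 {c} |>.trans (by rw [Set.ncard_singleton])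
    have h4' : (A : Set G).ncard = Nat.card A := rfl
    omega
  obtain ⟨b, hb, hb1, -⟩ := hfin 1
  obtain ⟨c, hc, hc1, hcb⟩ := hfin b
  exact ⟨b, hAQ hb, c, hAQ hc, L2Inner.order_two (hA b hb) hb1, L2Inner.order_two (hA c hc) hc1,
    hA.comm hb hc, hcb.symm⟩

/-- **(beta')**, or a terminal triple of rank at least two -/
theorem beta_or (hPu : Mu.Pump7 G) : BetaP G ∨ ∃ (l k : G) (M Q : Subgroup G), Pre7 l k M Q ∧
      ∃ a ∈ Q, ∃ b ∈ Q, orderOf a = 2 ∧ orderOf b = 2 ∧ a * b = b * a ∧ a ≠ b := by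
  by_cases hF : ∀ (x a : G) (L : Subgroup G), T7 x a L → ∀ g ∈ FF x a L, g * g = 1 → g = 1 ∨ g = a
  · left
    intro x a L Q T _ _ hQ _
    left
    exact fun g hg => hF x a L T g (hQ hg)
  · right
    push Not at hF
    obtain ⟨x, a, L, T, g, hg, hgg, hg1, hga⟩ := hF
    exact two_of_extra hPu T hg hgg hg1 hga

end Cfsg.Agent.UGT.A7.M1
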