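import Cfsg.Agent.UGT.A7.M1.SitOf7
import Cfsg.Agent.UGT.L2Inner.BadFive

/-!
# `A₇`-triples: there is no bad configuration

The text of `UGT/L2i/NodeBad.lean` (helper459) for `M / O(M) ≅ A₇`: `Cfg7.Cx` (bb #12930 (1)-(4), helper179) +
`false_of_s` ((5), helper837) ⊢ `Out7` and the triple, hence rank at most 4 by `Out7.rank_of_pre`.
-/

set_option autoImplicit false
set_option linter.unusedSectionVars false

open Cfsg Subgroup Equiv Equiv.Perm
open Cfsg.Agent.SignalizersComponents Cfsg.Agent.Lib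
open Cfsg.Agent.SignalizersComponents.IntrinsicBasic
open Cfsg.Agent.SignalizersComponents.PLayerAut
open Cfsg.Agent.Intrinsic.Basic Cfsg.Agent.Intrinsic.Cen Cfsg.Agent.Intrinsic.Diag
open Cfsg.Agent.McLLyComp.Act
open Cfsg.Agent.UAlt
open Cfsg.Agent.UGT.TMCBase
open Cfsg.Agent.UGT.Triple (IsTriple)
open Cfsg.Agent.UGT.L2Inner
open Cfsg.Agent.UGT.A7.M1.Cfg7
open Cfsg.Agent.UGT.A7.M1.Bad (Out7)
open scoped commutatorElement

universe u

namespace Cfsg.Agent.UGT.A7.M1.NB7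

variable {G : Type u} [Group G] [Finite G]

section cx

variable {GG : Subgroup G} {F : G → Subgroup G → Prop} {M Y V : Subgroup G} {w x : G} {K : Subgroup G}
  {c t : G} {L : Lab K} (C : Cx GG F M Y V w x K c t L)
  (hl : Gd M V ∧ Nonempty (Lab M))

include C

/-- the common part of (3), (4) -/
theorem cx_common : w = t ∧ ∃ t' ∈ V, L.φ t' = ta ∧ ∃ y ∈ Y, y ≠ 1 ∧ y ∈ K ∧ IsV (L.φ y) := by
  by_cases h : ∀ y ∈ Y, IsV (L.φ y)
  · obtain ⟨h1, ⟨t', ht', h2⟩, h3⟩ := C.alpha h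
    obtain ⟨y, hy, -, -, hy1, -, -⟩ := exists_gens C.ycard
    exact ⟨h1, t', ht', h2, y, hy, hy1, h3 hy, h y hy⟩
  · obtain ⟨h1, ⟨t', ht', h2⟩, h3, -⟩ := C.gamma h
    exact ⟨h1, t', ht', h2, h3⟩

include hl

theorem exists_g {s t' y : G} (hss : s * s = 1) (hs : ∀ e ∈ Y ⊔ V, s * e = e * s) (hJ : JY M Y s)
    (ht' : t' ∈ V) (ht1' : t' ≠ 1) (hne : t ≠ t') (hy : y ∈ Y) (hy1 : y ≠ 1) :
    ∃ g, g * y = y * g ∧ g * s = s * g ∧ g * t * g⁻¹ = t' ∧ g * t' * g⁻¹ = t * t' := by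
  obtain ⟨N, hN, hM, hs', -⟩ := C.toFr.comp y hy hy1
  have hsy : s * y = y * s := hs y (C.yE hy)
  have hf := hJ y hy hy1 N hN hM
  have h1 := sup_cen' hN hss hsy hf
  have hVc : V ≤ cen N s := le_cen C.psq (C.pm.trans hM) fun p hp => (hs p (C.vE hp)).symm
  obtain ⟨hG, ⟨ℓ⟩⟩ := hl
  obtain ⟨ℓ1, k1, k2⟩ := Sit7.exists_v2 hG ℓ C.tV ht' C.t1 ht1' hne.symm
  obtain ⟨ℓ2, k3⟩ := exists_up ℓ1 hs'
  obtain ⟨ℓ3, k4⟩ := exists_down ℓ2 h1
  have htc := hVc C.tV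
  have htc' := hVc ht'
  obtain ⟨g, hg, h2, h3⟩ := Sit7.cyc_of_lab ℓ3 htc htc' (C.psq t C.tV) (C.psq t' ht')
    (L2Inner.comm_of_sq C.psq C.tV ht') (by rw [k4 t htc, k3 t (C.pm C.tV), k1])
    (by rw [k4 t' htc', k3 t' (C.pm ht'), k2])
  exact ⟨g, comm_c (hN.le (cen_le _ _ hg)), comm_of_mem_cen hg, h2, h3⟩

/-- **(5)** -/
theorem no_s (hP : A7.Pump7 G) {s : G} (hss : s * s = 1) (hs1 : s ≠ 1) (hs : ∀ e ∈ Y ⊔ V, s * e = e * s)
    (hJ : JY M Y s) (hφ : L.φ s = ta) : False := by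
  obtain ⟨hwt, t', ht', hφt', y, hy, hy1, hyK, hyV⟩ := cx_common C
  subst hwt
  have ht1' : t' ≠ 1 := by
    rintro rfl
    rw [L.one] at hφt'
    exact absurd hφt' (by decide)
  have hne : w ≠ t' := by
    rintro rfl
    rw [C.φw] at hφt'
    exact absurd hφt' (by decide)
  obtain ⟨g, h1, h2, h3, h4⟩ := exists_g C hl hss hs hJ ht' ht1' hne hy hy1
  have hE : ∀ a ∈ Y ⊔ V, ∀ b ∈ Y ⊔ V, a * b = b * a := fun a ha b hb => C.toFr.E_comm ha hb
  refine false_of_s hP L C.bad.tri (C.psq t' ht') hss (hE _ (C.vE C.tV) _ (C.vE ht')) (hs _ (C.vE C.tV))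
    (hs _ (C.vE ht')) (C.ysq y hy) (hE _ (C.yE hy) _ (C.vE C.tV)) (hE _ (C.yE hy) _ (C.vE ht'))
    (hs _ (C.yE hy)).symm h1 h2 h3 h4 (C.eN (C.vE ht')) (C.one hss hs1 hs hJ).1 hφt' hφ
    (fun I hI => C.star hss hs1 hs hJ hI ht') (hs _ C.bad.xE) (hE _ (C.vE ht') _ C.bad.xE) hyK hyV
    (C.bad.y1 y hy hy1) (Or.inl rfl)

/-- (3) holds -/
theorem cx_alpha (hP : A7.Pump7 G) : (∀ y ∈ Y, IsV (L.φ y)) ∧ w = t ∧ (∃ t' ∈ V, L.φ t' = ta) ∧ Y ≤ K := by
  by_cases h : ∀ y ∈ Y, IsV (L.φ y)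
  · exact ⟨h, C.alpha h⟩
  · exfalso
    obtain ⟨-, -, -, s, hss, hs1, hs, hJ, hφ⟩ := C.gamma h
    exact no_s C hl hP hss hs1 hs hJ hφ

/-- `φ(Y) = V₄` -/
theorem exists_y (hP : A7.Pump7 G) {σ : P7} (hσ : IsV σ) : ∃ y ∈ Y, L.φ y = σ := by
  obtain ⟨hV, -⟩ := cx_alpha C hl hP
  obtain ⟨p, hp, q, hq, hp1, hq1, hpq⟩ := exists_gens C.ycard
  have e1 := C.bad.y1 p hp hp1
  have e2 := C.bad.y1 q hq hq1
  have hpq1 : p * q ≠ 1 := by
    intro h
    apply hpq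
    rw [eq_inv_of_mul_eq_one_left h, inv_eq_of_mul_eq_one_left (C.ysq q hq)]
  have e4 : L.φ (p * q) = L.φ p * L.φ q := L.mul _ _ (C.eN (C.yE hp)) (C.eN (C.yE hq))
  have e3 : L.φ p ≠ L.φ q := by
    intro h
    apply C.bad.y1 _ (mul_mem hp hq) hpq1
    rw [e4, h]
    exact isV_sq (hV q hq)
  have key : ∀ a b σ : P7, IsV a → IsV b → IsV σ → a ≠ 1 → b ≠ 1 → a ≠ b → σ = 1 ∨ σ = a ∨ σ = b ∨ σ = a * b := by
    rintro a b σ (rfl | rfl | rfl | rfl) (rfl | rfl | rfl | rfl) (rfl | rfl | rfl | rfl) <;> decide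
  rcases key _ _ σ (hV p hp) (hV q hq) hσ e1 e2 e3 with h | h | h | h
  · exact ⟨1, one_mem _, by rw [L.one, h]⟩
  · exact ⟨p, hp, h.symm⟩
  · exact ⟨q, hq, h.symm⟩
  · exact ⟨p * q, mul_mem hp hq, by rw [e4, h]⟩

/-- **(RK)** for the elements of `C(E)` -/
theorem mem_Y (hP : A7.Pump7 G) {j : G} (jj : j * j = 1) (hj : ∀ e ∈ Y ⊔ V, j * e = e * j) (hJ : JY M Y j) :
    j ∈ Y := by
  by_cases j1 : j = 1
  · rw [j1]; exact one_mem _
  obtain ⟨hjN, -, -⟩ := C.one jj j1 hj hJ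
  have hcomm : ∀ σ ∈ VT, L.φ j * σ = σ * L.φ j := by
    intro σ hσ
    obtain ⟨e, he, rfl⟩ := C.exists_φ hσ
    rw [← L.mul _ _ hjN (C.eN he), hj e he, L.mul _ _ (C.eN he) hjN]
  have hjVT : L.φ j ∈ VT := mem_VT_of_comm (hcomm b1 (Or.inl (Or.inr (Or.inl rfl))))
    (hcomm b2 (Or.inl (Or.inr (Or.inr (Or.inl rfl))))) (hcomm ta (Or.inr (Or.inl ta_ta)))
  -- the element of `Y` over the `V₄`-part
  obtain ⟨σ, hσ, hor⟩ : ∃ σ, IsV σ ∧ (L.φ j = σ ∨ L.φ j = σ * ta) := by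
    rcases hjVT with h | h
    · exact ⟨_, h, Or.inl rfl⟩
    · exact ⟨_, h, Or.inr (by rw [mul_assoc, ta_ta, mul_one])⟩
  obtain ⟨y, hy, hyσ⟩ := exists_y C hl hP hσ
  have hjy : j * y = y * j := hj y (C.yE hy)
  have hyE : ∀ e ∈ Y ⊔ V, y * e = e * y := fun e he => C.toFr.E_comm (C.yE hy) he
  by_contra hjY
  have h1 : y * j ≠ 1 := by
    intro h
    apply hjY
    have h2 : j = y := by
      rw [← inv_eq_of_mul_eq_one_right h, inv_eq_of_mul_eq_one_left (C.ysq y hy)]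
    rw [h2]; exact hy
  have h2 : y * j * (y * j) = 1 := Cx.sq_mul' (C.ysq y hy) jj hjy.symm
  have h3 : ∀ e ∈ Y ⊔ V, y * j * e = e * (y * j) := Cx.comm_mul' hyE hj
  have h4 : JY M Y (y * j) := by
    rw [← hjy]
    exact C.jyY hJ hy
  obtain ⟨-, h5, -⟩ := C.one h2 h1 h3 h4
  have h6 : L.φ (y * j) = σ * L.φ j := by rw [L.mul _ _ (C.eN (C.yE hy)) hjN, hyσ]
  rcases hor with h | h
  · apply h5
    rw [h6, h]
    exact isV_sq hσ
  · refine no_s C hl hP h2 h1 h3 h4 ?_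
    rw [h6, h, ← mul_assoc, isV_sq hσ, one_mul]

/-- **(RK)** -/
theorem rk_of (hP : A7.Pump7 G) {y : G} (hy : y ∈ Y) (hy1 : y ≠ 1) {N : Subgroup G}
    (hN : IsComp (centralizer ({y} : Set G)) N) (hM : M ≤ N) {r : G} (rr : r * r = 1) (hrt : r * t = t * r)
    (hrY : ∀ z ∈ Y, r * z = z * r) (hrN : Fixes r N) : r ∈ Y := by
  obtain ⟨-, -, ⟨t', ht', hφt'⟩, -⟩ := cx_alpha C hl hP
  have htt := C.psq t C.tV
  have htt' := C.psq t' ht'
  have ht1' : t' ≠ 1 := by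
    rintro rfl
    rw [L.one] at hφt'
    exact absurd hφt' (by decide)
  have hcomm : t * t' = t' * t := L2Inner.comm_of_sq C.psq C.tV ht'
  have htN : t ∈ N := hM (C.pm C.tV)
  have htN' : t' ∈ N := hM (C.pm ht')
  -- `D = C_{O(N)}(Y ⟨t⟩)`
  obtain ⟨D, hD⟩ : ∃ D, D = core N ⊓ centralizer ((Y : Set G) ∪ {t}) := ⟨_, rfl⟩
  have hDodd : Odd (Nat.card D) :=
    Odd.of_dvd_nat (odd_card_core N) (Subgroup.card_dvd_of_le (hD ▸ inf_le_left))
  have hmD : ∀ {d : G}, d ∈ D ↔ d ∈ core N ∧ (∀ z ∈ Y, d * z = z * d) ∧ d * t = t * d := by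
    intro d
    rw [hD, mem_inf, mem_centralizer_iff]
    constructor
    · rintro ⟨h1, h2⟩
      exact ⟨h1, fun z hz => (h2 z (Or.inl hz)).symm, (h2 t (Or.inr rfl)).symm⟩
    · rintro ⟨h1, h2, h3⟩
      refine ⟨h1, ?_⟩
      rintro z (hz | hz)
      · exact (h2 z hz).symm
      · rw [hz]; exact h3.symm
  have hri := inv_eq_of_mul_eq_one_left rr
  have hti' := inv_eq_of_mul_eq_one_left htt'
  have hrD : r ∈ normalizer (D : Set G) := by
    rw [mem_normalizer_iff_cj]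
    have key : ∀ d ∈ D, r * d * r⁻¹ ∈ D := by
      intro d hd
      obtain ⟨h1, h2, h3⟩ := hmD.mp hd
      refine hmD.mpr ⟨conj_mem_core hrN.1 h1, fun z hz => ?_, ?_⟩
      · have c1 : Commute r z := hrY z hz
        have c2 : Commute d z := h2 z hz
        exact ((c1.mul_left c2).mul_left c1.inv_left)
      · have c1 : Commute r t := hrt
        have c2 : Commute d t := h3
        exact ((c1.mul_left c2).mul_left c1.inv_left)
    apply le_antisymm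
    · intro d hd
      rw [mem_cj] at hd
      have := key _ hd
      have e : r * (r⁻¹ * d * r) * r⁻¹ = d := by group
      rwa [e] at this
    · intro d hd
      rw [mem_cj]
      have := key d hd
      rwa [hri] at this ⊢
  have h1 : t'⁻¹ * (r * t' * r⁻¹) ∈ D := by
    refine hmD.mpr ⟨?_, fun z hz => ?_, ?_⟩
    · have h2 := hrN.2 t' htN'
      have h3 : t'⁻¹ * (r * t' * r⁻¹) = t'⁻¹ * ⁅r, t'⁆ * t'⁻¹⁻¹ := by
        rw [commutatorElement_def]; group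
      rw [h3]
      exact conj_mem_core (le_normalizer (inv_mem htN')) h2
    · have c1 : Commute r z := hrY z hz
      have c2 : Commute t' z := (C.yp hz ht').symm
      exact c2.inv_left.mul_left ((c1.mul_left c2).mul_left c1.inv_left)
    · have c1 : Commute r t := hrt
      have c2 : Commute t' t := hcomm.symm
      exact c2.inv_left.mul_left ((c1.mul_left c2).mul_left c1.inv_left)
  obtain ⟨o, ho, hro⟩ := Intrinsic.Lifting.exists_commute hDodd (n := 1) (by rw [pow_one, pow_two, rr]) hrD h1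
  -- the involution of `⟨t' o⟩`
  have hti : ∀ d ∈ D, t' * d * t'⁻¹ ∈ D := by
    intro d hd
    obtain ⟨h2, h3, h4⟩ := hmD.mp hd
    refine hmD.mpr ⟨conj_mem_core (le_normalizer htN') h2, fun z hz => ?_, ?_⟩
    · have c1 : Commute t' z := (C.yp hz ht').symm
      have c2 : Commute d z := h3 z hz
      exact ((c1.mul_left c2).mul_left c1.inv_left)
    · have c1 : Commute t' t := hcomm.symm
      have c2 : Commute d t := h4
      exact ((c1.mul_left c2).mul_left c1.inv_left)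
  have h2 : (t' * o) ^ 2 ^ 1 ∈ D := by
    have e : (t' * o) ^ 2 ^ 1 = (t' * o * t'⁻¹) * o := by
      rw [pow_one, pow_two, hti']; group
    rw [e]
    exact mul_mem (hti o ho) ho
  obtain ⟨n, hn1, hn2⟩ := Intrinsic.Lifting.exists_two_part hDodd h2
  obtain ⟨w', hw'⟩ : ∃ w', w' = (t' * o) ^ n := ⟨_, rfl⟩
  rw [← hw'] at hn1 hn2
  rw [pow_one, pow_two] at hn1
  have hrw : r * w' = w' * r := by
    rw [hw']
    exact (Commute.pow_right (show Commute r (t' * o) from hro) n).eq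
  have hmem : t' * w' ∈ D := by
    have e : t' * w' = o * ((t' * o)⁻¹ * w') := by
      rw [mul_inv_rev, hti']; group
    rw [e]
    exact mul_mem ho hn2
  obtain ⟨δ, hδ, hδt⟩ := SL.conj_of_coset hDodd htt' hn1 hmem
  obtain ⟨hδ1, hδ2, hδ3⟩ := hmD.mp hδ
  have hδN := core_le N hδ1
  obtain ⟨j, hj⟩ : ∃ j, j = δ⁻¹ * r * δ := ⟨_, rfl⟩
  have jj : j * j = 1 := by
    rw [hj]
    calc δ⁻¹ * r * δ * (δ⁻¹ * r * δ) = δ⁻¹ * (r * r) * δ := by group
      _ = 1 := by rw [rr]; group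
  have hjY : ∀ z ∈ Y, j * z = z * j := by
    intro z hz
    have c1 : Commute r z := hrY z hz
    have c2 : Commute δ z := hδ2 z hz
    rw [hj]
    exact ((c2.inv_left.mul_left c1).mul_left c2)
  have hjt : j * t = t * j := by
    have c1 : Commute r t := hrt
    have c2 : Commute δ t := hδ3
    rw [hj]
    exact ((c2.inv_left.mul_left c1).mul_left c2)
  have hjt' : j * t' = t' * j := by
    have e : t' = δ⁻¹ * w' * δ := by rw [← hδt]; group
    rw [hj, e]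
    calc δ⁻¹ * r * δ * (δ⁻¹ * w' * δ) = δ⁻¹ * (r * w') * δ := by group
      _ = δ⁻¹ * (w' * r) * δ := by rw [hrw]
      _ = δ⁻¹ * w' * δ * (δ⁻¹ * r * δ) := by group
  have hne : t ≠ t' := by
    rintro rfl
    have h5 := (cx_alpha C hl hP).2.1
    rw [← h5, C.φw] at hφt'
    exact absurd hφt' (by decide)
  have hjE : ∀ e ∈ Y ⊔ V, j * e = e * j := by
    have hle : Y ⊔ V ≤ centralizer ({j} : Set G) := by
      refine sup_le (fun z hz => mem_c (hjY z hz).symm) fun v hv => mem_c ?_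
      have hF : Four V := ⟨C.pcard, C.psq⟩
      rcases hF.mem_cases C.tV ht' C.t1 ht1' hne.symm hv with rfl | rfl | rfl | rfl
      · rw [one_mul, mul_one]
      · exact hjt.symm
      · exact hjt'.symm
      · rw [mul_assoc, ← hjt', ← mul_assoc, ← hjt, mul_assoc]
    exact fun e he => (comm_c (hle he)).symm
  have hjN : Fixes j N := by
    have h3 := hrN.cj δ⁻¹
    have e : δ⁻¹ * r * δ⁻¹⁻¹ = j := by rw [inv_inv, hj]
    rw [e, mem_normalizer_iff_cj.mp (le_normalizer (inv_mem hδN))] at h3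
    exact h3
  have hjJ : JY M Y j := C.toSit.jy_of hjY hy hy1 hN hM hjN
  have h3 := mem_Y C hl hP jj hjE hjJ
  have h4 : r = j := by
    have c2 : δ * j = j * δ := hδ2 j h3
    calc r = δ * (δ⁻¹ * r * δ) * δ⁻¹ := by group
      _ = δ * j * δ⁻¹ := by rw [hj]
      _ = j := by rw [c2, mul_inv_cancel_right]
  rw [h4]
  exact h3

/-- **(1)-(5)** of bb #12930 -/
theorem exists_out (hP : A7.Pump7 G) : ∃ t', Out7 M Y t t' K L ∧
    ∃ y ∈ Y, y ≠ 1 ∧ ∃ x', (x' = y ∨ x' = y * t) ∧ IsTriple x' t K := by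
  obtain ⟨hV, hwt, ⟨t', ht', hφt'⟩, hYK⟩ := cx_alpha C hl hP
  subst hwt
  have ht1' : t' ≠ 1 := by
    rintro rfl
    rw [L.one] at hφt'
    exact absurd hφt' (by decide)
  have hne : w ≠ t' := by
    rintro rfl
    rw [C.φw] at hφt'
    exact absurd hφt' (by decide)
  have hF : Four V := ⟨C.pcard, C.psq⟩
  have hv2 : ∃ ℓ' : Lab M, ℓ'.φ w = u1 ∧ ℓ'.φ t' = u2 := by
    obtain ⟨hG, ⟨ℓ⟩⟩ := hl
    exact Sit7.exists_v2 hG ℓ C.tV ht' C.t1 ht1' hne.symm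
  refine ⟨t', ⟨C.ysq, C.ycard, C.ym, ?_, C.pm C.tV, C.pm ht', hv2, C.psq _ C.tV, C.psq t' ht',
    L2Inner.comm_of_sq C.psq C.tV ht', C.compK, fun y hy => Or.inl (hYK hy), hV, C.bad.y1, hφt', ?_⟩, ?_⟩
  · intro y hy hy1
    obtain ⟨N, hN, h1, h2, -⟩ := C.toFr.comp y hy hy1
    exact ⟨N, hN, h1, h2⟩
  · intro y hy hy1 N hN hMN r rr hrt hrY hrN
    exact rk_of C hl hP hy hy1 hN hMN rr hrt hrY hrN
  · obtain ⟨y, hy, v, hv, hx⟩ := C.toFr.mem_E.mp C.bad.xE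
    have hφx : L.φ x = L.φ y * L.φ v := by rw [hx, L.mul _ _ (C.eN (C.yE hy)) (C.eN (C.vE hv))]
    have hφv : IsV (L.φ v) := by
      have h1 : L.φ v = L.φ y * L.φ x := by rw [hφx, ← mul_assoc, isV_sq (hV y hy), one_mul]
      rw [h1]
      exact isV_mul (hV y hy) C.bad.xV
    have hv' : v = 1 ∨ v = w := by
      rcases hF.mem_cases C.tV ht' C.t1 ht1' hne.symm hv with rfl | rfl | rfl | rfl
      · exact Or.inl rfl
      · exact Or.inr rfl
      · exfalso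
        rw [hφt'] at hφv
        exact absurd hφv (by unfold IsV; decide)
      · exfalso
        rw [L.mul _ _ (C.eN (C.vE C.tV)) (C.eN (C.vE ht')), C.φw, hφt', one_mul] at hφv
        exact absurd hφv (by unfold IsV; decide)
    have hxN : x ∈ normalizer (K : Set G) := C.eN C.bad.xE
    refine ⟨y, hy, ?_, x, ?_, C.bad.tri⟩
    · rintro rfl
      apply C.bad.tri.not_fixes
      rw [← L.fixes_iff hxN, hφx, L.one, one_mul]
      rcases hv' with rfl | rfl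
      · exact L.one
      · exact C.φw
    · rcases hv' with rfl | rfl
      · left; rw [hx, mul_one]
      · right; exact hx

end cx

/-- **Bad configurations imply sectional 2-rank at most 4.** -/
theorem badEnd (hP7 : Mu.Pump7 G) (hP : A7.Pump7 G) {l k : G} {M Q Y V : Subgroup G} (h : Pre7 l k M Q)
    (hY : Four Y) (hYQ : Y ≤ Q) (hk : k ∈ Y) (hG : Gd M V) (hlV : l ∈ V) {w x : G} {K : Subgroup G} {L : Lab K}
    (B : Bad7 Y V w x K L) : SectionalPRankLE 2 4 G := by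
  obtain ⟨c, t, C⟩ := exists_cx (Sit7.sit h hP7 hY hYQ hk hG.four hG.le hlV) B
  obtain ⟨t', hO, tri⟩ := exists_out C ⟨hG, h.a7⟩ hP
  exact hO.rank_of_pre hP tri h hYQ

end Cfsg.Agent.UGT.A7.M1.NB7
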