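import Cfsg.Agent.UGT.SLEnd

/-!
# THEOREM SL without (Gam)

The setting of `SL.Data` without the field `gam`; the statement (1) of THEOREM SL (`K^g ∩ M` has no four-group for
`g ∉ M`) is a hypothesis `One M K`.  The proofs are those of `SLCore`, `SLEnd` (helper738, helper459).
-/

set_option autoImplicit false

namespace Cfsg.Agent.UGT.A7.SL1

open Cfsg Subgroup
open Cfsg.Agent.UGT.SL (conj_of_coset exists_fixed_involution exists_mul_of_mem_sup mul_zpow_self_aux four_sq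
  four_isPGroup two_isPGroup exists_conj_four exists_four_commute eq_of_no_four zstar_sub P1173)

universe u

/-- The setting of THEOREM SL. -/
structure Base {G : Type u} [Group G] (M L K W : Subgroup G) : Prop where
  LM : L ≤ M
  KM : K ≤ M
  WL : W ≤ L
  WK : W ≤ K
  oddW : Odd (Nat.card W)
  evenL : ¬ Odd (Nat.card L)
  nW : ∀ m ∈ M, ∀ w ∈ W, m * w * m⁻¹ ∈ W
  nL : ∀ m ∈ M, ∀ x ∈ L, m * x * m⁻¹ ∈ L
  nK : ∀ m ∈ M, ∀ x ∈ K, m * x * m⁻¹ ∈ K
  comm : ∀ x ∈ L, ∀ k ∈ K, x * k * x⁻¹ * k⁻¹ ∈ W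
  full : ∀ m ∈ M, (∀ x ∈ L, m * x * m⁻¹ * x⁻¹ ∈ W) → m ∈ K
  simple : ∀ N : Subgroup G, W ≤ N → N ≤ L → (∀ x ∈ L, ∀ n ∈ N, x * n * x⁻¹ ∈ N) → N = W ∨ N = L
  nab : ¬ ∀ a ∈ L, ∀ b ∈ L, a * b * a⁻¹ * b⁻¹ ∈ W
  t1 : ∀ y ∈ K, y * y = 1 → y ≠ 1 → ∀ c : G, c * y = y * c → c ∈ M
  t2 : ∀ g : G, g ∉ M → ∀ y ∈ K, y * y = 1 → y ≠ 1 → g * y * g⁻¹ ∉ K
  t3 : ∀ g : G, g ∉ M → ∃ x ∈ L, ∀ k ∈ K, g * k * g⁻¹ ∈ M → (g * k * g⁻¹)⁻¹ * x ∉ W
  t4 : ∃ a ∈ K, ∃ b ∈ K, a * a = 1 ∧ b * b = 1 ∧ a * b = b * a ∧ a ≠ 1 ∧ b ≠ 1 ∧ a ≠ b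

/-- `K^g ∩ M` has no four-group for `g ∉ M`. -/
def One {G : Type u} [Group G] (M K : Subgroup G) : Prop :=
  ∀ g : G, g ∉ M → ∀ a ∈ K, ∀ b ∈ K, g⁻¹ * a * g ∈ M → g⁻¹ * b * g ∈ M → a * a = 1 → b * b = 1 →
    a * b = b * a → a ≠ 1 → b ≠ 1 → a ≠ b → False

namespace Base

variable {G : Type u} [Group G] {M L K W : Subgroup G}

theorem WM (D : Base M L K W) : W ≤ M := D.WL.trans D.LM

/-- `L ∩ K = W`. -/
theorem inf_LK (D : Base M L K W) {x : G} (h1 : x ∈ L) (h2 : x ∈ K) : x ∈ W := by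
  rcases D.simple (L ⊓ K) (le_inf D.WL D.WK) inf_le_left (fun x hx n hn =>
    ⟨D.nL x (D.LM hx) n hn.1, D.nK x (D.LM hx) n hn.2⟩) with h | h
  · rw [← h]; exact ⟨h1, h2⟩
  · exfalso
    apply D.nab
    intro a ha b hb
    have h3 : b ∈ L ⊓ K := by rw [h]; exact hb
    exact D.comm a ha b h3.2

/-- An element of `W` of order dividing two is trivial. -/
theorem eq_one_of_mem_W [Finite G] (D : Base M L K W) {x : G} (h1 : x ∈ W) (h2 : x * x = 1) : x = 1 := by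
  have h3 : orderOf x ∣ Nat.card W := Subgroup.orderOf_dvd_natCard W h1
  have h4 : Odd (orderOf x) := D.oddW.of_dvd_nat h3
  have h5 : orderOf x ∣ 2 := orderOf_dvd_of_pow_eq_one (by rw [pow_two, h2])
  rcases (Nat.dvd_prime Nat.prime_two).mp h5 with h6 | h6
  · exact orderOf_eq_one_iff.mp h6
  · rw [h6] at h4
    exact absurd h4 (by decide)

/-- Elements of `L ⊔ K`. -/
theorem mem_LK (D : Base M L K W) {x : G} (h : x ∈ L ⊔ K) : ∃ l ∈ L, ∃ k ∈ K, l * k = x :=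
  exists_mul_of_mem_sup (fun b hb a ha => D.nL b (D.KM hb) a ha) h

/-- The elements of `M` which centralise `y` modulo `W`. -/
def cenW (D : Base M L K W) (y : G) : Subgroup G where
  carrier := {t | t ∈ M ∧ t * y * t⁻¹ * y⁻¹ ∈ W}
  one_mem' := ⟨M.one_mem, by simp [W.one_mem]⟩
  mul_mem' := by
    rintro s t ⟨hs, hs'⟩ ⟨ht, ht'⟩
    refine ⟨M.mul_mem hs ht, ?_⟩
    have h1 : s * t * y * (s * t)⁻¹ * y⁻¹ = (s * (t * y * t⁻¹ * y⁻¹) * s⁻¹) * (s * y * s⁻¹ * y⁻¹) := by group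
    rw [h1]
    exact W.mul_mem (D.nW s hs _ ht') hs'
  inv_mem' := by
    rintro t ⟨ht, ht'⟩
    refine ⟨M.inv_mem ht, ?_⟩
    have h1 : t⁻¹ * y * t⁻¹⁻¹ * y⁻¹ = t⁻¹ * (t * y * t⁻¹ * y⁻¹)⁻¹ * t⁻¹⁻¹ := by group
    rw [h1]
    exact D.nW _ (M.inv_mem ht) _ (W.inv_mem ht')

theorem mem_cenW (D : Base M L K W) {y t : G} : t ∈ D.cenW y ↔ t ∈ M ∧ t * y * t⁻¹ * y⁻¹ ∈ W := Iff.rfl

theorem mem_cenW_of_commute (D : Base M L K W) {y t : G} (ht : t ∈ M) (h : t * y = y * t) : t ∈ D.cenW y := by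
  refine D.mem_cenW.mpr ⟨ht, ?_⟩
  have h1 : t * y * t⁻¹ * y⁻¹ = 1 := by rw [h]; group
  rw [h1]; exact W.one_mem

theorem W_le_cenW (D : Base M L K W) {y : G} (hy : y ∈ M) : W ≤ D.cenW y := by
  intro w hw
  refine D.mem_cenW.mpr ⟨D.WM hw, ?_⟩
  have h1 : w * y * w⁻¹ * y⁻¹ = w * (y * w⁻¹ * y⁻¹) := by group
  rw [h1]
  exact W.mul_mem hw (D.nW y hy _ (W.inv_mem hw))

theorem L_le_cenW (D : Base M L K W) {y : G} (hy : y ∈ K) : L ≤ D.cenW y := fun x hx =>
  D.mem_cenW.mpr ⟨D.LM hx, D.comm x hx y hy⟩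

/-- Fixed involutions in cosets of `W`. -/
theorem exists_commuting [Finite G] (D : Base M L K W) {T : Subgroup G} (hT : IsPGroup 2 T) {x : G} (hx : x ∈ K)
    (hx2 : x * x = 1) (hx1 : x ≠ 1) (hTx : T ≤ D.cenW x) :
    ∃ y ∈ K, y * y = 1 ∧ y ≠ 1 ∧ x * y ∈ W ∧ ∀ t ∈ T, t * y = y * t := by
  have hxi : x⁻¹ = x := inv_eq_of_mul_eq_one_left hx2
  obtain ⟨y, hy1, hy2, hy3⟩ := exists_fixed_involution D.oddW hT hx2 (fun w hw => D.nW x (D.KM hx) w hw)
    (fun t ht w hw => D.nW t (hTx ht).1 w hw) (fun t ht => by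
      have h1 := (hTx ht).2
      have h2 : x * (t * x * t⁻¹) = x * (t * x * t⁻¹ * x⁻¹) * x⁻¹ * (x * x) := by group
      rw [h2, hx2, mul_one]
      exact D.nW x (D.KM hx) _ h1)
  have hyK : y ∈ K := by
    have h1 : y = x⁻¹ * (x * y) := by group
    rw [h1]
    exact K.mul_mem (K.inv_mem hx) (D.WK hy1)
  refine ⟨y, hyK, hy2, ?_, hy1, hy3⟩
  intro h
  rw [h, mul_one] at hy1
  exact hx1 (D.eq_one_of_mem_W hy1 hx2)

/-- (2): for `g ∉ M`, no involution of `K^g` lies in `L K`. -/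
theorem two [Finite G] (D : Base M L K W) (hone : One M K) {g : G} (hg : g ∉ M) {u : G} (hu : u ∈ K) (hu2 : u * u = 1)
    (hu1 : u ≠ 1) (hLK : g * u * g⁻¹ ∈ L ⊔ K) : False := by
  set v := g * u * g⁻¹ with hv
  have hv2 : v * v = 1 := by
    rw [hv]
    calc g * u * g⁻¹ * (g * u * g⁻¹) = g * (u * u) * g⁻¹ := by group
      _ = 1 := by rw [hu2]; group
  have hv1 : v ≠ 1 := by
    intro h
    apply hu1
    calc u = g⁻¹ * v * g := by rw [hv]; group
      _ = 1 := by rw [h]; group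
  obtain ⟨l, hl, k, hk, hlk⟩ := D.mem_LK hLK
  have hkM := D.KM hk
  have hlM := D.LM hl
  have hvM : v ∈ M := by rw [← hlk]; exact M.mul_mem hlM hkM
  -- `k * k ∈ W`
  have hkk : k * k ∈ W := by
    apply D.inf_LK ?_ (K.mul_mem hk hk)
    have h1 : k * l * k⁻¹ ∈ L := D.nL k hkM l hl
    have h2 : k * k = (l * (k * l * k⁻¹))⁻¹ * (v * v) := by rw [← hlk]; group
    rw [h2, hv2, mul_one]
    exact L.inv_mem (L.mul_mem hl h1)
  -- replace `k` by an element `k₀` of order at most two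
  obtain ⟨m, hm⟩ := D.oddW
  have hkn : (k * k) ^ (2 * m + 1) = 1 := by
    rw [← hm]
    exact orderOf_dvd_iff_pow_eq_one.mp (Subgroup.orderOf_dvd_natCard W hkk)
  let k₀ : G := k ^ (2 * m + 1)
  have hk₀ : k₀ ∈ K := K.pow_mem hk _
  have hk₀2 : k₀ * k₀ = 1 := by
    show k ^ (2 * m + 1) * k ^ (2 * m + 1) = 1
    rw [← pow_add, ← two_mul, mul_comm 2, mul_comm, pow_mul, pow_two, hkn]
  have hk₀W : k₀ * k⁻¹ ∈ W := by
    have h1 : k₀ * k⁻¹ = (k * k) ^ m := by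
      show k ^ (2 * m + 1) * k⁻¹ = (k * k) ^ m
      rw [pow_succ, mul_inv_cancel_right, pow_mul, pow_two]
    rw [h1]
    exact W.pow_mem hkk m
  obtain ⟨a, ha, b, hb, ha2, hb2, hab, ha1, hb1, hne⟩ := D.t4
  obtain ⟨x, hx, y, hy, hx2, hy2, hxy, hx1, hy1, hxne, hkx, hky⟩ :=
    exists_four_commute ha hb ha2 hb2 hab ha1 hb1 hne hk₀ hk₀2
  -- `v` centralises `x` and `y` modulo `W`
  have hcen : ∀ z ∈ K, k₀ * z = z * k₀ → v ∈ D.cenW z := by
    intro z hz hkz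
    rw [← hlk]
    refine mul_mem (D.L_le_cenW hz hl) ?_
    have h1 : k = (k₀ * k⁻¹)⁻¹ * k₀ := by group
    rw [h1]
    exact mul_mem (inv_mem (D.W_le_cenW (D.KM hz) hk₀W)) (D.mem_cenW_of_commute (D.KM hk₀) hkz)
  have hvp : IsPGroup 2 (zpowers v) := two_isPGroup hv2
  obtain ⟨x', hx', hx'2, hx'1, hxx', hvx'⟩ := D.exists_commuting hvp hx hx2 hx1
    (by rw [zpowers_le]; exact hcen x hx hkx)
  have hvx := hvx' v (mem_zpowers v)
  have hp : IsPGroup 2 (zpowers v ⊔ zpowers x' : Subgroup G) := four_isPGroup hv2 hx'2 hvx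
  obtain ⟨y', hy', hy'2, hy'1, hyy', hvy'⟩ := D.exists_commuting hp hy hy2 hy1 (by
    refine sup_le ?_ ?_
    · rw [zpowers_le]; exact hcen y hy hky
    · rw [zpowers_le]
      have h1 : x' = x⁻¹ * (x * x') := by group
      rw [h1]
      exact mul_mem (inv_mem (D.mem_cenW_of_commute (D.KM hx) hxy)) (D.W_le_cenW (D.KM hy) hxx'))
  have hvy := hvy' v (mem_sup_left (mem_zpowers v))
  have hxy' := hvy' x' (mem_sup_right (mem_zpowers x'))
  have hne' : x' ≠ y' := by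
    intro h
    rw [← h] at hyy'
    apply hxne
    have hxi : x⁻¹ = x := inv_eq_of_mul_eq_one_left hx2
    have h1 : x * y ∈ W := by
      have h2 : x * y = (x * x') * (y * x')⁻¹ * (y * y) := by group
      rw [h2, hy2, mul_one]
      exact W.mul_mem hxx' (W.inv_mem hyy')
    have h3 : x * y * (x * y) = 1 := by
      calc x * y * (x * y) = x * (y * x) * y := by group
        _ = x * (x * y) * y := by rw [hxy]
        _ = (x * x) * (y * y) := by group
        _ = 1 := by rw [hx2, hy2, one_mul]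
    have h4 := D.eq_one_of_mem_W h1 h3
    have h5 : y = x⁻¹ := (inv_eq_of_mul_eq_one_right h4).symm
    rw [h5, hxi]
  have hM : ∀ z : G, v * z = z * v → g⁻¹ * z * g ∈ M := by
    intro z hz
    apply D.t1 u hu hu2 hu1
    calc g⁻¹ * z * g * u = g⁻¹ * (z * v) * g := by rw [hv]; group
      _ = g⁻¹ * (v * z) * g := by rw [hz]
      _ = u * (g⁻¹ * z * g) := by rw [hv]; group
  exact hone _ hg _ hx' _ hy' (hM x' hvx) (hM y' hvy) hx'2 hy'2 hxy' hx'1 hy'1 hne'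

/-- (3): an involution `u` of `K^g ∩ M`, `g ∉ M`, and an involution `s` of `K` commuting with `u`:
`q u q⁻¹ = u s` for some `q ∈ K`. -/
theorem three [Finite G] (D : Base M L K W) (hone : One M K) {g : G} (hg : g ∉ M) {u : G} (hu : g⁻¹ * u * g ∈ K) (huM : u ∈ M)
    (hu2 : u * u = 1) (hu1 : u ≠ 1) {s : G} (hs : s ∈ K) (hs2 : s * s = 1) (hs1 : s ≠ 1) (hsu : s * u = u * s) :
    ∃ q ∈ K, q * u * q⁻¹ = u * s := by
  classical
  have h2 : Fact (Nat.Prime 2) := ⟨Nat.prime_two⟩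
  have hui : u⁻¹ = u := inv_eq_of_mul_eq_one_left hu2
  -- the group `X = K ⟨u⟩`
  let X : Subgroup G := K ⊔ zpowers u
  have huX : u ∈ X := mem_sup_right (mem_zpowers u)
  have hKX : K ≤ X := le_sup_left
  have hnorm : ∀ b ∈ zpowers u, ∀ a ∈ K, b * a * b⁻¹ ∈ K := fun b hb a ha =>
    D.nK b ((zpowers_le.mpr huM) hb) a ha
  have hX : ∀ x ∈ X, ∃ q ∈ K, x = q ∨ x = q * u := by
    intro x hx
    obtain ⟨q, hq, _, ⟨i, rfl⟩, rfl⟩ := exists_mul_of_mem_sup hnorm hx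
    refine ⟨q, hq, ?_⟩
    rcases Int.even_or_odd' i with ⟨j, hj | hj⟩
    · left
      show q * u ^ i = q
      rw [hj, zpow_mul, zpow_two, hu2, one_zpow, mul_one]
    · right
      show q * u ^ i = q * u
      rw [hj, zpow_add, zpow_mul, zpow_two, hu2, one_zpow, one_mul, zpow_one]
  obtain ⟨a, ha, b, hb, ha2, hb2, hab, ha1, hb1, hne⟩ := D.t4
  have huX2 : (⟨u, huX⟩ : X) * ⟨u, huX⟩ = 1 := Subtype.ext hu2
  have hsX2 : (⟨s, hKX hs⟩ : X) * ⟨s, hKX hs⟩ = 1 := Subtype.ext hs2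
  have hsuX : (⟨s, hKX hs⟩ : X) * ⟨u, huX⟩ = ⟨u, huX⟩ * ⟨s, hKX hs⟩ := Subtype.ext hsu
  obtain ⟨P, hP⟩ := (four_isPGroup hsX2 huX2 hsuX).exists_le_sylow
  have huP : (⟨u, huX⟩ : X) ∈ (P : Subgroup X) := hP (mem_sup_right (mem_zpowers _))
  have hsP : (⟨s, hKX hs⟩ : X) ∈ (P : Subgroup X) := hP (mem_sup_left (mem_zpowers _))
  obtain ⟨t, hta, htb⟩ := exists_conj_four P (a := ⟨a, hKX ha⟩) (b := ⟨b, hKX hb⟩) (Subtype.ext ha2)
    (Subtype.ext hb2) (Subtype.ext hab)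
  -- `P` does not centralise `u`
  have htM : (t : G) ∈ M := (sup_le D.KM (zpowers_le.mpr huM)) t.2
  set a' : G := (t : G) * a * (t : G)⁻¹ with ha'
  set b' : G := (t : G) * b * (t : G)⁻¹ with hb'
  have hM : ∀ z : G, z * u = u * z → g⁻¹ * z * g ∈ M := by
    intro z hz
    apply D.t1 _ hu
    · calc g⁻¹ * u * g * (g⁻¹ * u * g) = g⁻¹ * (u * u) * g := by group
        _ = 1 := by rw [hu2]; group
    · intro h
      apply hu1
      calc u = g * (g⁻¹ * u * g) * g⁻¹ := by group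
        _ = 1 := by rw [h]; group
    · calc g⁻¹ * z * g * (g⁻¹ * u * g) = g⁻¹ * (z * u) * g := by group
        _ = g⁻¹ * (u * z) * g := by rw [hz]
        _ = _ := by group
  have hfour : ¬ ∀ p : X, p ∈ (P : Subgroup X) → (p : G) * u = u * p := by
    intro hall
    have h3 : a' * u = u * a' := hall _ hta
    have h4 : b' * u = u * b' := hall _ htb
    refine hone _ hg a' (D.nK _ htM _ ha) b' (D.nK _ htM _ hb) (hM a' h3) (hM b' h4) ?_ ?_ ?_ ?_ ?_ ?_
    · calc a' * a' = (t : G) * (a * a) * (t : G)⁻¹ := by rw [ha']; group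
        _ = 1 := by rw [ha2]; group
    · calc b' * b' = (t : G) * (b * b) * (t : G)⁻¹ := by rw [hb']; group
        _ = 1 := by rw [hb2]; group
    · calc a' * b' = (t : G) * (a * b) * (t : G)⁻¹ := by rw [ha', hb']; group
        _ = (t : G) * (b * a) * (t : G)⁻¹ := by rw [hab]
        _ = _ := by rw [ha', hb']; group
    · intro h
      apply ha1
      calc a = (t : G)⁻¹ * a' * (t : G) := by rw [ha']; group
        _ = 1 := by rw [h]; group
    · intro h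
      apply hb1
      calc b = (t : G)⁻¹ * b' * (t : G) := by rw [hb']; group
        _ = 1 := by rw [h]; group
    · intro h
      apply hne
      calc a = (t : G)⁻¹ * a' * (t : G) := by rw [ha']; group
        _ = b := by rw [h, hb']; group
  -- normaliser growth for the centraliser of `u` in `P`
  have hPn : Group.IsNilpotent (P : Subgroup X) := P.isPGroup'.isNilpotent
  let u' : (P : Subgroup X) := ⟨⟨u, huX⟩, huP⟩
  have hlt : centralizer ({u'} : Set (P : Subgroup X)) ≠ ⊤ := by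
    intro h
    apply hfour
    intro p hp
    have h3 : (⟨p, hp⟩ : (P : Subgroup X)) ∈ centralizer ({u'} : Set (P : Subgroup X)) := by rw [h]; trivial
    have h4 := mem_centralizer_singleton_iff.mp h3
    exact congrArg (fun z : (P : Subgroup X) => ((z : X) : G)) h4
  have hgrow := Group.normalizerCondition_of_isNilpotent (G := (P : Subgroup X)) _ (lt_top_iff_ne_top.mpr hlt)
  obtain ⟨n, hn1, hn2⟩ := SetLike.exists_of_lt hgrow
  -- `n u n⁻¹` commutes with `u`, and is different from `u`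
  have huc : u' ∈ centralizer ({u'} : Set (P : Subgroup X)) := mem_centralizer_singleton_iff.mpr rfl
  have hnc : n * u' * n⁻¹ ∈ centralizer ({u'} : Set (P : Subgroup X)) := (mem_normalizer_iff.mp hn1 u').mp huc
  have hc1 : ((n : X) : G) * u * ((n : X) : G)⁻¹ * u = u * (((n : X) : G) * u * ((n : X) : G)⁻¹) := by
    have h4 := mem_centralizer_singleton_iff.mp hnc
    exact congrArg (fun z : (P : Subgroup X) => ((z : X) : G)) h4
  have hc2 : ((n : X) : G) * u * ((n : X) : G)⁻¹ ≠ u := by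
    intro h
    apply hn2
    refine mem_centralizer_singleton_iff.mpr ?_
    apply Subtype.ext
    apply Subtype.ext
    show ((n : X) : G) * u = u * ((n : X) : G)
    calc ((n : X) : G) * u = (((n : X) : G) * u * ((n : X) : G)⁻¹) * ((n : X) : G) := by group
      _ = u * ((n : X) : G) := by rw [h]
  obtain ⟨q, hq, hqn⟩ := hX (n : X) (n : X).2
  have hconj : ((n : X) : G) * u * ((n : X) : G)⁻¹ = q * u * q⁻¹ := by
    rcases hqn with h | h
    · rw [h]
    · rw [h]; group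
  rw [hconj] at hc1 hc2
  have hyK : u * (q * u * q⁻¹) ∈ K := by
    have h3 : u * (q * u * q⁻¹) = (u * q * u⁻¹) * q⁻¹ * (q * (u * u) * q⁻¹) := by group
    rw [h3, hu2]
    have h4 := D.nK u huM q hq
    have h5 : q * 1 * q⁻¹ = 1 := by group
    rw [h5, mul_one]
    exact K.mul_mem h4 (K.inv_mem hq)
  have hy2 : u * (q * u * q⁻¹) * (u * (q * u * q⁻¹)) = 1 := by
    calc u * (q * u * q⁻¹) * (u * (q * u * q⁻¹)) = u * (q * u * q⁻¹ * u) * (q * u * q⁻¹) := by group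
      _ = u * (u * (q * u * q⁻¹)) * (q * u * q⁻¹) := by rw [hc1]
      _ = (u * u) * (q * (u * u) * q⁻¹) := by group
      _ = 1 := by rw [hu2]; group
  have hy1 : u * (q * u * q⁻¹) ≠ 1 := by
    intro h
    apply hc2
    have h3 : q * u * q⁻¹ = u⁻¹ := (inv_eq_of_mul_eq_one_right h).symm
    rw [h3, hui]
  have hyu : u * (q * u * q⁻¹) * u = u * (u * (q * u * q⁻¹)) := by
    calc u * (q * u * q⁻¹) * u = u * (q * u * q⁻¹ * u) := by group
      _ = u * (u * (q * u * q⁻¹)) := by rw [hc1]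
  -- the group `C_Q(u)` has only one involution
  have hRp : IsPGroup 2 ((P : Subgroup X).map X.subtype) := P.isPGroup'.map _
  have hR : IsPGroup 2 ((P : Subgroup X).map X.subtype ⊓ K ⊓ centralizer ({u} : Set G) : Subgroup G) :=
    hRp.to_le (inf_le_left.trans inf_le_left)
  have heq : u * (q * u * q⁻¹) = s := by
    refine eq_of_no_four hR ?_ ⟨⟨?_, hyK⟩, mem_centralizer_singleton_iff.mpr hyu⟩
      ⟨⟨⟨_, hsP, rfl⟩, hs⟩, mem_centralizer_singleton_iff.mpr hsu⟩ hy2 hs2 hy1 hs1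
    · intro x hx y hy hx2 hy2 hxy hx1 hy1
      by_contra hne'
      exact hone _ hg _ hx.1.2 _ hy.1.2 (hM x (mem_centralizer_singleton_iff.mp hx.2))
        (hM y (mem_centralizer_singleton_iff.mp hy.2)) hx2 hy2 hxy hx1 hy1 hne'
    · rw [← hconj]
      exact ⟨(u' : X) * ((n : X) * (u' : X) * (n : X)⁻¹),
        mul_mem u'.2 (mul_mem (mul_mem n.2 u'.2) (inv_mem n.2)), rfl⟩
  refine ⟨q, hq, ?_⟩
  rw [← heq, ← mul_assoc, hu2, one_mul]

/-- `C_L(y)` covers `L / W` for an involution `y` of `K`. -/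
theorem cover [Finite G] (D : Base M L K W) {y : G} (hy : y ∈ K) (hy2 : y * y = 1) {x : G} (hx : x ∈ L) :
    ∃ w ∈ W, x * w * y = y * (x * w) := by
  have hyi : y⁻¹ = y := inv_eq_of_mul_eq_one_left hy2
  obtain ⟨w, hw, hww⟩ := conj_of_coset D.oddW (x := y) (y := x⁻¹ * y * x) hy2
    (by calc x⁻¹ * y * x * (x⁻¹ * y * x) = x⁻¹ * (y * y) * x := by group
          _ = 1 := by rw [hy2]; group)
    (by
      have h1 := D.nW y (D.KM hy) _ (D.comm _ (L.inv_mem hx) y hy)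
      have h2 : y * (x⁻¹ * y * x⁻¹⁻¹ * y⁻¹) * y⁻¹ = y * (x⁻¹ * y * x) * (y * y)⁻¹ := by group
      rw [h2, hy2, inv_one, mul_one] at h1
      exact h1)
  refine ⟨w, hw, ?_⟩
  calc x * w * y = x * (w * y * w⁻¹) * w := by group
    _ = x * (x⁻¹ * y * x) * w := by rw [hww]
    _ = y * (x * w) := by group

/-- (4): the application of the `Z*`-theorem. -/
theorem four [Finite G] (D : Base M L K W) {u y : G} (huM : u ∈ M) (huK : u ∉ K) (hu2 : u * u = 1)
    (hu1 : u ≠ 1) (hy : y ∈ K) (hy2 : y * y = 1) (huy : u * y = y * u) :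
    ∃ l ∈ L, l * y = y * l ∧ l * u * l⁻¹ ≠ u ∧ u * (l * u * l⁻¹) = l * u * l⁻¹ * u := by
  classical
  have hui : u⁻¹ = u := inv_eq_of_mul_eq_one_left hu2
  let L₁ : Subgroup G := L ⊓ centralizer ({y} : Set G)
  have hL₁ : ∀ x, x ∈ L₁ ↔ x ∈ L ∧ x * y = y * x := by
    intro x
    exact ⟨fun h => ⟨h.1, mem_centralizer_singleton_iff.mp h.2⟩,
      fun h => ⟨h.1, mem_centralizer_singleton_iff.mpr h.2⟩⟩
  have hnorm : ∀ b ∈ zpowers u, ∀ a ∈ L₁, b * a * b⁻¹ ∈ L₁ := by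
    intro b hb a ha
    have ha' := (hL₁ a).mp ha
    have hby : b * y = y * b := by
      obtain ⟨i, rfl⟩ := hb
      exact ((show Commute u y from huy).zpow_left i).eq
    refine (hL₁ _).mpr ⟨D.nL b ((zpowers_le.mpr huM) hb) a ha'.1, ?_⟩
    have hby' : b⁻¹ * y = y * b⁻¹ := ((show Commute b y from hby).inv_left).eq
    calc b * a * b⁻¹ * y = b * a * (b⁻¹ * y) := by group
      _ = b * (a * y) * b⁻¹ := by rw [hby']; group
      _ = b * (y * a) * b⁻¹ := by rw [ha'.2]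
      _ = (b * y) * a * b⁻¹ := by group
      _ = y * (b * a * b⁻¹) := by rw [hby]; group
  let X : Subgroup G := L₁ ⊔ zpowers u
  have huX : u ∈ X := mem_sup_right (mem_zpowers u)
  rcases zstar_sub huX hu2 hu1 with ⟨h, hh, hne, hc⟩ | ⟨N, hNX, hNodd, hNn, hNc⟩
  · obtain ⟨l, hl, _, ⟨i, rfl⟩, rfl⟩ := exists_mul_of_mem_sup hnorm hh
    have hl' := (hL₁ l).mp hl
    have h1 : l * u ^ i * u * (l * u ^ i)⁻¹ = l * u * l⁻¹ := by group
    refine ⟨l, hl'.1, hl'.2, ?_, ?_⟩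
    · have h2 : l * (fun x => u ^ x) i * u * (l * (fun x => u ^ x) i)⁻¹ = l * u * l⁻¹ := h1
      rw [h2] at hne
      exact hne
    · have h2 : l * (fun x => u ^ x) i * u * (l * (fun x => u ^ x) i)⁻¹ = l * u * l⁻¹ := h1
      rw [h2] at hc
      exact hc
  · exfalso
    have hL₁X : L₁ ≤ X := le_sup_left
    -- `N ∩ L` modulo `W` is normalised by `L`
    have hWN : ∀ b ∈ N ⊓ L, ∀ a ∈ W, b * a * b⁻¹ ∈ W := fun b hb a ha => D.nW b (D.LM hb.2) a ha
    have hnn : ∀ x ∈ L, ∀ n ∈ W ⊔ N ⊓ L, x * n * x⁻¹ ∈ W ⊔ N ⊓ L := by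
      intro x hx n hn
      obtain ⟨w, hw, hwy⟩ := D.cover hy hy2 hx
      have hxw : x * w ∈ L₁ := (hL₁ _).mpr ⟨L.mul_mem hx (D.WL hw), hwy⟩
      obtain ⟨w', hw', n', hn', rfl⟩ := exists_mul_of_mem_sup hWN hn
      have h1 : x * (w' * n') * x⁻¹ = (x * w) * w⁻¹ * (w' * n') * ((x * w) * w⁻¹)⁻¹ := by group
      have hwN : w⁻¹ ∈ W ⊔ N ⊓ L := mem_sup_left (W.inv_mem hw)
      have h2 : w⁻¹ * (w' * n') * w⁻¹⁻¹ ∈ W ⊔ N ⊓ L :=
        mul_mem (mul_mem hwN (mul_mem (mem_sup_left hw') (mem_sup_right hn'))) (inv_mem hwN)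
      obtain ⟨w'', hw'', n'', hn'', hwn⟩ := exists_mul_of_mem_sup hWN h2
      have h3 : x * (w' * n') * x⁻¹ = (x * w * w'' * (x * w)⁻¹) * (x * w * n'' * (x * w)⁻¹) := by
        have h4 : x * (w' * n') * x⁻¹ = (x * w) * (w⁻¹ * (w' * n') * w⁻¹⁻¹) * (x * w)⁻¹ := by group
        rw [h4, ← hwn]; group
      rw [h3]
      exact mul_mem (mem_sup_left (D.nW _ (D.LM ((hL₁ _).mp hxw).1) _ hw''))
        (mem_sup_right ⟨hNn _ (hL₁X hxw) _ hn''.1, L.mul_mem (L.mul_mem ((hL₁ _).mp hxw).1 hn''.2)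
          (L.inv_mem ((hL₁ _).mp hxw).1)⟩)
    rcases D.simple (W ⊔ N ⊓ L) le_sup_left (sup_le D.WL inf_le_right) hnn with h | h
    · -- `u` centralises `L / W`
      apply huK
      apply D.full u huM
      intro x hx
      obtain ⟨w, hw, hwy⟩ := D.cover hy hy2 hx
      have hxw : x * w ∈ L₁ := (hL₁ _).mpr ⟨L.mul_mem hx (D.WL hw), hwy⟩
      have h1 : u * (x * w) * u⁻¹ * (x * w)⁻¹ ∈ W := by
        have h2 : u * (x * w) * u⁻¹ * (x * w)⁻¹ ∈ W ⊔ N ⊓ L := mem_sup_right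
          ⟨hNc _ (hL₁X hxw), L.mul_mem (D.nL u huM _ ((hL₁ _).mp hxw).1) (L.inv_mem ((hL₁ _).mp hxw).1)⟩
        rwa [h] at h2
      have h3 : u * x * u⁻¹ * x⁻¹ = (u * (x * w) * u⁻¹ * (x * w)⁻¹) *
          ((x * w) * (u * w⁻¹ * u⁻¹) * w * (w⁻¹ * x⁻¹)) := by group
      rw [h3]
      refine W.mul_mem h1 ?_
      have h4 : (x * w) * (u * w⁻¹ * u⁻¹) * w * (w⁻¹ * x⁻¹) = x * (w * (u * w⁻¹ * u⁻¹)) * x⁻¹ := by group
      rw [h4]
      exact D.nW x (D.LM hx) _ (W.mul_mem hw (D.nW u huM _ (W.inv_mem hw)))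
    · -- `L` has odd order
      apply D.evenL
      have hpow : ∀ w ∈ W, ∀ n ∈ N ⊓ L, ∀ j : ℕ, (w * n) ^ j * (n ^ j)⁻¹ ∈ W := by
        intro w hw n hn j
        induction j with
        | zero => simp [W.one_mem]
        | succ j ih =>
          have h1 : (w * n) ^ (j + 1) * (n ^ (j + 1))⁻¹ =
              ((w * n) ^ j * (n ^ j)⁻¹) * (n ^ j * w * (n ^ j)⁻¹) := by
            rw [pow_succ, pow_succ]; group
          rw [h1]
          exact W.mul_mem ih (D.nW _ (D.LM (L.pow_mem hn.2 j)) w hw)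
      rw [← Nat.not_even_iff_odd, even_iff_two_dvd]
      intro hdvd
      have h2 : Fact (Nat.Prime 2) := ⟨Nat.prime_two⟩
      obtain ⟨x, hx⟩ := exists_prime_orderOf_dvd_card' (G := L) 2 hdvd
      have hxo : orderOf (x : G) = 2 := by rw [Subgroup.orderOf_coe]; exact hx
      have hxL : (x : G) ∈ W ⊔ N ⊓ L := by rw [h]; exact x.2
      obtain ⟨w, hw, n, hn, hwn⟩ := exists_mul_of_mem_sup hWN hxL
      have hno : Odd (orderOf n) := hNodd.of_dvd_nat (Subgroup.orderOf_dvd_natCard N hn.1)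
      have h3 := hpow w hw n hn (orderOf n)
      rw [hwn, pow_orderOf_eq_one, inv_one, mul_one] at h3
      obtain ⟨m, hm⟩ := hno
      have hx2 : (x : G) * x = 1 := by rw [← pow_two, ← hxo, pow_orderOf_eq_one]
      have h4 : (x : G) ^ orderOf n = x := by
        rw [hm, pow_succ, pow_mul, pow_two, hx2, one_pow, one_mul]
      rw [h4] at h3
      have h5 := D.eq_one_of_mem_W h3 hx2
      rw [h5, orderOf_one] at hxo
      exact absurd hxo (by norm_num)

/-- No conjugate of an involution of `K` lies in `L`. -/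
theorem not_mem_L [Finite G] (D : Base M L K W) (hone : One M K) {g e : G} (he : g⁻¹ * e * g ∈ K) (he2 : e * e = 1) (he1 : e ≠ 1) :
    e ∉ L := by
  intro heL
  have h1 : g * (g⁻¹ * e * g) * g⁻¹ = e := by group
  by_cases hg : g ∈ M
  · have h2 := D.nK g hg _ he
    rw [h1] at h2
    exact he1 (D.eq_one_of_mem_W (D.inf_LK heL h2) he2)
  · refine D.two hone hg he ?_ ?_ (by rw [h1]; exact mem_sup_left heL)
    · calc g⁻¹ * e * g * (g⁻¹ * e * g) = g⁻¹ * (e * e) * g := by group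
        _ = 1 := by rw [he2]; group
    · intro h
      apply he1
      calc e = g * (g⁻¹ * e * g) * g⁻¹ := by group
        _ = 1 := by rw [h]; group

/-- **THEOREM SL** (claim): for `g ∉ M` the group `K^g ∩ M` has odd order. -/
theorem claim [Finite G] (D : Base M L K W) (hone : One M K) {g : G} (hg : g ∉ M) {u : G} (hu : g⁻¹ * u * g ∈ K) (huM : u ∈ M)
    (hu2 : u * u = 1) : u = 1 := by
  by_contra hu1
  have hui : u⁻¹ = u := inv_eq_of_mul_eq_one_left hu2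
  set s := g⁻¹ * u * g with hs
  have hs2 : s * s = 1 := by
    calc s * s = g⁻¹ * (u * u) * g := by rw [hs]; group
      _ = 1 := by rw [hu2]; group
  have hs1 : s ≠ 1 := by
    intro h
    apply hu1
    calc u = g * s * g⁻¹ := by rw [hs]; group
      _ = 1 := by rw [h]; group
  have hgu : g * s * g⁻¹ = u := by rw [hs]; group
  -- `u ∉ K`
  have huK : u ∉ K := fun h => D.t2 g hg s hu hs2 hs1 (by rwa [hgu])
  obtain ⟨l, hl, -, hne, hc⟩ := D.four huM huK hu2 hu1 K.one_mem (one_mul 1) (by simp)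
  obtain ⟨e, he⟩ : ∃ e, e = u * (l * u * l⁻¹) := ⟨_, rfl⟩
  have heL : e ∈ L := by
    have h1 : e = (u * l * u⁻¹) * l⁻¹ * (l * (u * u) * l⁻¹) := by rw [he]; group
    rw [h1, hu2]
    have h2 : l * 1 * l⁻¹ = 1 := by group
    rw [h2, mul_one]
    exact L.mul_mem (D.nL u huM l hl) (L.inv_mem hl)
  have he2 : e * e = 1 := by
    calc e * e = u * (l * u * l⁻¹ * u) * (l * u * l⁻¹) := by rw [he]; group
      _ = u * (u * (l * u * l⁻¹)) * (l * u * l⁻¹) := by rw [hc]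
      _ = (u * u) * (l * (u * u) * l⁻¹) := by group
      _ = 1 := by rw [hu2]; group
  have he1 : e ≠ 1 := by
    intro h
    apply hne
    rw [he] at h
    have h3 : l * u * l⁻¹ = u⁻¹ := (inv_eq_of_mul_eq_one_right h).symm
    rw [h3, hui]
  -- `t = g⁻¹ (l u l⁻¹) g = h s h⁻¹` with `h = g⁻¹ l g`
  set h := g⁻¹ * l * g with hh
  set t := h * s * h⁻¹ with ht
  have htu : g * t * g⁻¹ = l * u * l⁻¹ := by rw [ht, hh, hs]; group
  have hest : g⁻¹ * e * g = s * t := by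
    rw [he, ← htu, hs]; group
  have hst : s * t = t * s := by
    calc s * t = g⁻¹ * (u * (l * u * l⁻¹)) * g := by rw [← htu, hs]; group
      _ = g⁻¹ * (l * u * l⁻¹ * u) * g := by rw [hc]
      _ = t * s := by rw [← htu, hs]; group
  have ht2 : t * t = 1 := by
    calc t * t = h * (s * s) * h⁻¹ := by rw [ht]; group
      _ = 1 := by rw [hs2]; group
  have ht1 : t ≠ 1 := by
    intro h1
    apply hs1
    calc s = h⁻¹ * t * h := by rw [ht]; group
      _ = 1 := by rw [h1]; group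
  by_cases hhM : h ∈ M
  · -- `e ∈ K^g`
    have h1 : t ∈ K := D.nK h hhM s hu
    refine D.not_mem_L hone (g := g) ?_ he2 he1 heL
    rw [hest]
    exact K.mul_mem hu h1
  · -- `t ∈ M`, as `t` commutes with `s`
    have htM : t ∈ M := D.t1 s hu hs2 hs1 t hst.symm
    have h1 : h⁻¹ * t * h ∈ K := by
      have h3 : h⁻¹ * t * h = s := by rw [ht]; group
      rwa [h3]
    obtain ⟨q, hq, hqt⟩ := D.three hone hhM h1 htM ht2 ht1 hu hs2 hs1 hst
    refine D.not_mem_L hone (g := g * q * h) ?_ he2 he1 heL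
    have h3 : (g * q * h)⁻¹ * e * (g * q * h) = h⁻¹ * q⁻¹ * (g⁻¹ * e * g) * q * h := by group
    rw [h3, hest, hst, ← hqt, ht]
    have h4 : h⁻¹ * q⁻¹ * (q * (h * s * h⁻¹) * q⁻¹) * q * h = s := by group
    rwa [h4]





/-- A Sylow 2-subgroup of `M` contains an involution of `K`. -/
theorem exists_inv_sylow [Finite G] (D : Base M L K W) (T : Sylow 2 M) :
    ∃ y ∈ K, y * y = 1 ∧ y ≠ 1 ∧ ∃ hy : y ∈ M, (⟨y, hy⟩ : M) ∈ T := by
  have : Fact (Nat.Prime 2) := ⟨Nat.prime_two⟩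
  obtain ⟨a, ha, b, hb, ha2, hb2, hab, ha1, hb1, hne⟩ := D.t4
  have h1 : IsPGroup 2 (zpowers (⟨a, D.KM ha⟩ : M)) := two_isPGroup (Subtype.ext ha2)
  obtain ⟨P, hP⟩ := h1.exists_le_sylow
  obtain ⟨m, hm⟩ := MulAction.exists_smul_eq M P T
  have haP : (⟨a, D.KM ha⟩ : M) ∈ P := hP (mem_zpowers _)
  have h2 : m * (⟨a, D.KM ha⟩ : M) * m⁻¹ ∈ (m • P : Sylow 2 M) := by
    rw [← SetLike.mem_coe, Sylow.coe_smul]
    exact ⟨_, haP, rfl⟩
  rw [hm] at h2
  refine ⟨m * a * (m : G)⁻¹, D.nK m m.2 a ha, ?_, ?_, D.KM (D.nK m m.2 a ha), h2⟩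
  · calc (m : G) * a * (m : G)⁻¹ * (m * a * (m : G)⁻¹) = m * (a * a) * (m : G)⁻¹ := by group
      _ = 1 := by rw [ha2]; group
  · intro h
    apply ha1
    calc a = (m : G)⁻¹ * (m * a * (m : G)⁻¹) * m := by group
      _ = 1 := by rw [h]; group

/-- A Sylow 2-subgroup of `M` is a Sylow 2-subgroup of `G`. -/
theorem sylow_top [Finite G] (D : Base M L K W) (hone : One M K) (T : Sylow 2 M) :
    ∃ S : Sylow 2 G, (S : Subgroup G) = (T : Subgroup M).map M.subtype := by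
  have : Fact (Nat.Prime 2) := ⟨Nat.prime_two⟩
  have h1 : IsPGroup 2 ((T : Subgroup M).map M.subtype) := T.isPGroup'.map _
  obtain ⟨S, hS⟩ := h1.exists_le_sylow
  refine ⟨S, le_antisymm ?_ hS⟩
  by_contra hlt
  obtain ⟨y, hyK, hy2, hy1, hyM, hyT⟩ := D.exists_inv_sylow T
  -- normalizers grow
  let T' : Subgroup S := ((T : Subgroup M).map M.subtype).subgroupOf S
  have hT' : T' < ⊤ := by
    rw [lt_top_iff_ne_top]
    intro h
    exact hlt ((subgroupOf_eq_top).mp h)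
  have hnil : Group.IsNilpotent S := S.isPGroup'.isNilpotent
  have hgrow := (Group.normalizerCondition_of_isNilpotent (G := S)) T' hT'
  obtain ⟨s, hs, hsT⟩ := SetLike.exists_of_lt hgrow
  have hconj : ∀ x ∈ (T : Subgroup M).map M.subtype, (s : G) * x * (s : G)⁻¹ ∈ (T : Subgroup M).map M.subtype := by
    intro x hx
    have h2 : (⟨x, hS hx⟩ : S) ∈ T' := by
      rw [mem_subgroupOf]; exact hx
    have h3 := (mem_normalizer_iff.mp hs _).mp h2
    rw [mem_subgroupOf] at h3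
    exact h3
  have hyT' : y ∈ (T : Subgroup M).map M.subtype := ⟨⟨y, hyM⟩, hyT, rfl⟩
  have hsM : (s : G) ∉ M := by
    intro hsM
    -- `⟨s⟩ T` is a 2-group in `M`
    have h4 : IsPGroup 2 ((S : Subgroup G).subgroupOf M) := S.isPGroup'.comap_subtype
    have h5 : (T : Subgroup M) ≤ (S : Subgroup G).subgroupOf M := by
      intro t ht
      rw [mem_subgroupOf]
      exact hS ⟨t, ht, rfl⟩
    have h6 := T.is_maximal' h4 h5
    apply hsT
    show s ∈ T'
    rw [mem_subgroupOf]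
    refine ⟨⟨s, hsM⟩, ?_, rfl⟩
    rw [← h6, SetLike.mem_coe, mem_subgroupOf]
    exact s.2
  have h7 := D.claim hone hsM (u := (s : G) * y * (s : G)⁻¹)
    (by
      have : (s : G)⁻¹ * (s * y * (s : G)⁻¹) * s = y := by group
      rw [this]; exact hyK)
    (by
      obtain ⟨z, _, hz⟩ := hconj y hyT'
      rw [← hz]; exact z.2)
    (by calc (s : G) * y * (s : G)⁻¹ * (s * y * (s : G)⁻¹) = s * (y * y) * (s : G)⁻¹ := by group
          _ = 1 := by rw [hy2]; group)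
  apply hy1
  calc y = (s : G)⁻¹ * (s * y * (s : G)⁻¹) * s := by group
    _ = 1 := by rw [h7]; group

/-- `K ∩ S` is strongly closed in `S`. -/
theorem stronglyClosed [Finite G] (D : Base M L K W) (hone : One M K) {S : Subgroup G} (hS : IsPGroup 2 S) (hSM : S ≤ M) :
    Cfsg.IsStronglyClosed (K ⊓ S) S := by
  refine ⟨inf_le_right, ?_⟩
  intro x hx g hg
  refine ⟨?_, hg⟩
  by_cases hx1 : x = 1
  · rw [hx1]
    have h0 : g * 1 * g⁻¹ = 1 := by group
    rw [h0]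
    exact K.one_mem
  by_cases hgM : g ∈ M
  · exact D.nK g hgM x hx.1
  · exfalso
    -- an involution in `⟨x⟩`
    obtain ⟨k, hk⟩ := (IsPGroup.iff_orderOf.mp hS) ⟨x, hx.2⟩
    rw [orderOf_mk] at hk
    have hk0 : k ≠ 0 := by
      rintro rfl
      rw [pow_zero, orderOf_eq_one_iff] at hk
      exact hx1 hk
    obtain ⟨j, rfl⟩ := Nat.exists_eq_succ_of_ne_zero hk0
    have hy2 : x ^ 2 ^ j * x ^ 2 ^ j = 1 := by
      rw [← pow_add, ← two_mul, ← pow_succ', ← Nat.succ_eq_add_one, ← hk, pow_orderOf_eq_one]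
    have hy1 : x ^ 2 ^ j ≠ 1 := by
      intro h
      have h1 := orderOf_dvd_of_pow_eq_one h
      rw [hk] at h1
      have h2 := Nat.le_of_dvd (by positivity) h1
      have h3 : 2 ^ j < 2 ^ (j + 1) := Nat.pow_lt_pow_right (by norm_num) (Nat.lt_succ_self j)
      exact absurd h2 (not_le.mpr h3)
    have h7 := D.claim hone hgM (u := g * x ^ 2 ^ j * g⁻¹)
      (by
        have : g⁻¹ * (g * x ^ 2 ^ j * g⁻¹) * g = x ^ 2 ^ j := by group
        rw [this]; exact K.pow_mem hx.1 _)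
      (by
        have h8 : g * x ^ 2 ^ j * g⁻¹ = (g * x * g⁻¹) ^ 2 ^ j := by rw [conj_pow]
        rw [h8]
        exact M.pow_mem (hSM hg) _)
      (by calc g * x ^ 2 ^ j * g⁻¹ * (g * x ^ 2 ^ j * g⁻¹) = g * (x ^ 2 ^ j * x ^ 2 ^ j) * g⁻¹ := by group
            _ = 1 := by rw [hy2]; group)
    apply hy1
    calc x ^ 2 ^ j = g⁻¹ * (g * x ^ 2 ^ j * g⁻¹) * g := by group
      _ = 1 := by rw [h7]; group

/-- `L / W` is perfect. -/
theorem le_comm (D : Base M L K W) {N : Subgroup G} (hWN : W ≤ N)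
    (h : ∀ a ∈ L, ∀ b ∈ L, a * b * a⁻¹ * b⁻¹ ∈ N) : L ≤ N := by
  have h1 := D.simple (N ⊓ L) (le_inf hWN D.WL) inf_le_right (by
    intro x hx n hn
    refine ⟨?_, L.mul_mem (L.mul_mem hx hn.2) (L.inv_mem hx)⟩
    have h2 := N.mul_mem (h x hx n hn.2) hn.1
    have h3 : x * n * x⁻¹ * n⁻¹ * n = x * n * x⁻¹ := by group
    rwa [h3] at h2)
  rcases h1 with h1 | h1
  · exfalso
    apply D.nab
    intro a ha b hb
    rw [← h1]
    exact ⟨h a ha b hb, L.mul_mem (L.mul_mem (L.mul_mem ha hb) (L.inv_mem ha)) (L.inv_mem hb)⟩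
  · rw [← h1]
    exact inf_le_left

/-- `C_L(Q)` covers `L / W` for a 2-subgroup `Q` of `K`. -/
theorem cover_two [Finite G] (D : Base M L K W) {Q : Subgroup G} (hQK : Q ≤ K) (hQ : IsPGroup 2 Q) {x : G}
    (hx : x ∈ L) : ∃ w ∈ W, ∀ q ∈ Q, q * (x * w) = x * w * q := by
  classical
  have : Fact (Nat.Prime 2) := ⟨Nat.prime_two⟩
  let Ω : Type u := {y : G // x⁻¹ * y ∈ W}
  let act : MulAction Q Ω :=
    { smul := fun t y => ⟨(t : G) * y.1 * (t : G)⁻¹, by
        have h1 := D.comm x⁻¹ (L.inv_mem hx) t (hQK t.2)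
        have h2 := D.nW t (D.KM (hQK t.2)) _ y.2
        have h3 : x⁻¹ * ((t : G) * y.1 * (t : G)⁻¹) =
            (x⁻¹ * (t : G) * x⁻¹⁻¹ * (t : G)⁻¹) * ((t : G) * (x⁻¹ * y.1) * (t : G)⁻¹) := by group
        rw [h3]
        exact W.mul_mem h1 h2⟩
      one_smul := fun y => by
        apply Subtype.ext
        show ((1 : Q) : G) * y.1 * ((1 : Q) : G)⁻¹ = y.1
        simp
      mul_smul := fun s t y => by
        apply Subtype.ext
        show ((s * t : Q) : G) * y.1 * ((s * t : Q) : G)⁻¹ = (s : G) * ((t : G) * y.1 * (t : G)⁻¹) * (s : G)⁻¹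
        push_cast
        group }
  have hcard : ¬ 2 ∣ Nat.card Ω := by
    have h1 : Nat.card Ω = Nat.card W := by
      refine Nat.card_congr ⟨fun y => ⟨x⁻¹ * y.1, y.2⟩, fun w => ⟨x * w.1, by simp⟩, ?_, ?_⟩
      · intro y; simp
      · intro w; simp
    rw [h1]
    intro h
    exact (Nat.not_even_iff_odd.mpr D.oddW) (even_iff_two_dvd.mpr h)
  obtain ⟨y, hy⟩ := hQ.nonempty_fixed_point_of_prime_not_dvd_card Ω hcard
  refine ⟨x⁻¹ * y.1, y.2, fun q hq => ?_⟩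
  have h1 : (⟨q, hq⟩ : Q) • y = y := hy ⟨q, hq⟩
  have h2 : q * y.1 * q⁻¹ = y.1 := congrArg Subtype.val h1
  have h3 : x * (x⁻¹ * y.1) = y.1 := by group
  rw [h3]
  calc q * y.1 = (q * y.1 * q⁻¹) * q := by group
    _ = y.1 * q := by rw [h2]

/-- Every term of the derived series of `C_G(Q)` covers `L / W`. -/
theorem cover_derived [Finite G] (D : Base M L K W) {Q : Subgroup G} (hQK : Q ≤ K) (hQ : IsPGroup 2 Q) (n : ℕ) :
    L ≤ W ⊔ (L ⊓ (derivedSeries ↥(centralizer (Q : Set G)) n).map (centralizer (Q : Set G)).subtype) := by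
  induction n with
  | zero =>
    intro x hx
    obtain ⟨w, hw, hww⟩ := D.cover_two hQK hQ hx
    have h1 : x = (x * w) * w⁻¹ := by group
    rw [h1]
    refine mul_mem (mem_sup_right ⟨L.mul_mem hx (D.WL hw), ?_⟩) (mem_sup_left (W.inv_mem hw))
    rw [derivedSeries_zero, ← MonoidHom.range_eq_map, range_subtype]
    exact mem_centralizer_iff.mpr hww
  | succ n ih =>
    refine D.le_comm le_sup_left ?_
    intro a ha b hb
    have hnorm : ∀ b ∈ L ⊓ (derivedSeries ↥(centralizer (Q : Set G)) n).map (centralizer (Q : Set G)).subtype,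
        ∀ w ∈ W, b * w * b⁻¹ ∈ W := fun b hb w hw => D.nW b (D.LM hb.1) w hw
    obtain ⟨w, hw, d, hd, rfl⟩ := exists_mul_of_mem_sup hnorm (ih ha)
    obtain ⟨w', hw', d', hd', rfl⟩ := exists_mul_of_mem_sup hnorm (ih hb)
    have hmem : d * d' * d⁻¹ * d'⁻¹ ∈
        L ⊓ (derivedSeries ↥(centralizer (Q : Set G)) (n + 1)).map (centralizer (Q : Set G)).subtype := by
      refine ⟨L.mul_mem (L.mul_mem (L.mul_mem hd.1 hd'.1) (L.inv_mem hd.1)) (L.inv_mem hd'.1), ?_⟩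
      obtain ⟨c, hc, rfl⟩ := hd.2
      obtain ⟨c', hc', rfl⟩ := hd'.2
      refine ⟨c * c' * c⁻¹ * c'⁻¹, ?_, by simp⟩
      rw [derivedSeries_succ]
      exact commutator_mem_commutator hc hc'
    have hY : d * d' * d⁻¹ ∈ L := L.mul_mem (L.mul_mem hd.1 hd'.1) (L.inv_mem hd.1)
    have h1 : w * d * (w' * d') * (w * d)⁻¹ * (w' * d')⁻¹ =
        (w * (d * w' * d⁻¹)) * ((d * d' * d⁻¹) * w⁻¹ * (d * d' * d⁻¹)⁻¹) *
          ((d * d' * d⁻¹ * d'⁻¹) * w'⁻¹ * (d * d' * d⁻¹ * d'⁻¹)⁻¹) * (d * d' * d⁻¹ * d'⁻¹) := by group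
    rw [h1]
    refine mul_mem (mem_sup_left ?_) (mem_sup_right hmem)
    exact W.mul_mem (W.mul_mem (W.mul_mem hw (D.nW d (D.LM hd.1) w' hw'))
      (D.nW _ (D.LM hY) _ (W.inv_mem hw))) (D.nW _ (D.LM hmem.1) _ (W.inv_mem hw'))

/-- **END of THEOREM SL** (general form): there is a Sylow 2-subgroup `S` of `G` in `M` with `1 ≠ K ∩ S` strongly
closed in `S`, and a normal subgroup `R` of `G` centralising `K ∩ S` and covering `L / W`. -/
theorem exists_normal [Finite G] (D : Base M L K W) (hone : One M K) (h1173 : P1173.{u}) (hO : Cfsg.oddCore G = ⊥) :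
    ∃ S : Sylow 2 G, (S : Subgroup G) ≤ M ∧ Cfsg.IsStronglyClosed (K ⊓ S) S ∧ K ⊓ (S : Subgroup G) ≠ ⊥ ∧
      ∃ R : Subgroup G, R.Normal ∧ (∀ r ∈ R, ∀ q ∈ K ⊓ (S : Subgroup G), q * r = r * q) ∧ L ≤ W ⊔ (L ⊓ R) := by
  have : Fact (Nat.Prime 2) := ⟨Nat.prime_two⟩
  obtain ⟨T⟩ : Nonempty (Sylow 2 M) := inferInstance
  obtain ⟨S, hS⟩ := D.sylow_top hone T
  have hSM : (S : Subgroup G) ≤ M := by
    rw [hS]
    rintro _ ⟨x, _, rfl⟩
    exact x.2
  have hcl := D.stronglyClosed hone S.isPGroup' hSM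
  have hne : K ⊓ (S : Subgroup G) ≠ ⊥ := by
    obtain ⟨y, hyK, hy2, hy1, hyM, hyT⟩ := D.exists_inv_sylow T
    intro h
    apply hy1
    rw [← mem_bot, ← h]
    refine ⟨hyK, ?_⟩
    rw [SetLike.mem_coe, hS]
    exact ⟨_, hyT, rfl⟩
  refine ⟨S, hSM, hcl, hne, _, h1173 G hO S _ hcl, ?_, ?_⟩
  · rintro _ ⟨r, _, rfl⟩ q hq
    exact mem_centralizer_iff.mp r.2 q hq
  · -- the infimum is a term of the derived series
    have hQ : IsPGroup 2 ↥(K ⊓ (S : Subgroup G)) := S.isPGroup'.to_le inf_le_right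
    obtain ⟨n, hn⟩ : ∃ n, ∀ m, derivedSeries ↥(centralizer ((K ⊓ (S : Subgroup G) : Subgroup G) : Set G)) n ≤
        derivedSeries ↥(centralizer ((K ⊓ (S : Subgroup G) : Subgroup G) : Set G)) m := by
      obtain ⟨X, hX⟩ := Set.Finite.exists_minimal
        (s := Set.range (derivedSeries ↥(centralizer ((K ⊓ (S : Subgroup G) : Subgroup G) : Set G))))
        (Set.toFinite _) ⟨_, ⟨0, rfl⟩⟩
      obtain ⟨n, hn⟩ := hX.prop
      refine ⟨n, fun m => ?_⟩
      rcases le_total m n with h | h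
      · exact derivedSeries_antitone _ h
      · rw [hn]
        exact hX.2 ⟨m, rfl⟩ (by rw [← hn]; exact derivedSeries_antitone _ h)
    have h1 : (⨅ m : ℕ, derivedSeries ↥(centralizer ((K ⊓ (S : Subgroup G) : Subgroup G) : Set G)) m) =
        derivedSeries ↥(centralizer ((K ⊓ (S : Subgroup G) : Subgroup G) : Set G)) n :=
      le_antisymm (iInf_le _ n) (le_iInf hn)
    rw [h1]
    exact D.cover_derived inf_le_left hQ n

/-- **END of THEOREM SL**: contradiction if `G` has a normal simple subgroup `X` with `C_G(X) = 1`. -/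
theorem false_of_normal_simple [Finite G] (D : Base M L K W) (hone : One M K) (h1173 : P1173.{u}) (hO : Cfsg.oddCore G = ⊥)
    {X : Subgroup G} (hX : X.Normal) (hXs : IsSimpleGroup X) (hXc : centralizer (X : Set G) = ⊥) : False := by
  obtain ⟨S, hSM, hcl, hne, R, hR, hRQ, hRL⟩ := D.exists_normal hone h1173 hO
  have h1 : ((R ⊓ X).subgroupOf X).Normal := by
    have : (R ⊓ X).Normal := inferInstance
    infer_instance
  rcases IsSimpleGroup.eq_bot_or_eq_top_of_normal _ h1 with h | h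
  · -- `R ∩ X = 1`
    have h2 : R ⊓ X = ⊥ := by
      rw [eq_bot_iff]
      intro x hx
      have h3 : (⟨x, hx.2⟩ : X) ∈ (R ⊓ X).subgroupOf X := by rw [mem_subgroupOf]; exact hx
      rw [h, mem_bot] at h3
      rw [mem_bot]
      exact congrArg Subtype.val h3
    have h3 : R = ⊥ := by
      rw [eq_bot_iff, ← hXc]
      intro r hr
      rw [mem_centralizer_iff]
      intro x hx
      have h4 : x * r * x⁻¹ * r⁻¹ ∈ R ⊓ X := by
        refine ⟨R.mul_mem (hR.conj_mem r hr x) (R.inv_mem hr), ?_⟩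
        have h5 : x * r * x⁻¹ * r⁻¹ = x * (r * x⁻¹ * r⁻¹) := by group
        rw [SetLike.mem_coe, h5]
        exact X.mul_mem hx (hX.conj_mem _ (X.inv_mem hx) r)
      rw [h2, mem_bot] at h4
      calc x * r = (x * r * x⁻¹ * r⁻¹) * r * x := by group
        _ = r * x := by rw [h4, one_mul]
    rw [h3, inf_bot_eq, sup_bot_eq] at hRL
    exact D.nab fun a ha b hb => W.mul_mem (W.mul_mem (W.mul_mem (hRL ha) (hRL hb)) (W.inv_mem (hRL ha)))
      (W.inv_mem (hRL hb))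
  · have h2 : X ≤ R := by
      intro x hx
      have h3 : (⟨x, hx⟩ : X) ∈ (R ⊓ X).subgroupOf X := by rw [h]; trivial
      rw [mem_subgroupOf] at h3
      exact h3.1
    apply hne
    rw [eq_bot_iff, ← hXc]
    intro q hq
    rw [mem_centralizer_iff]
    intro x hx
    exact (hRQ x (h2 hx) q hq).symm

/-- **END of THEOREM SL** in a simple group `G` with `O(G) = 1`. -/
theorem false_of_simple [Finite G] (D : Base M L K W) (hone : One M K) (h1173 : P1173.{u}) (hO : Cfsg.oddCore G = ⊥)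
    (hG : IsSimpleGroup G) : False := by
  obtain ⟨S, hSM, hcl, hne, R, hR, hRQ, hRL⟩ := D.exists_normal hone h1173 hO
  rcases IsSimpleGroup.eq_bot_or_eq_top_of_normal _ hR with h | h
  · rw [h, inf_bot_eq, sup_bot_eq] at hRL
    exact D.nab fun a ha b hb => W.mul_mem (W.mul_mem (W.mul_mem (hRL ha) (hRL hb)) (W.inv_mem (hRL ha)))
      (W.inv_mem (hRL hb))
  · -- `Q` is central
    have h2 : K ⊓ (S : Subgroup G) ≤ center G := by
      intro q hq
      rw [mem_center_iff]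
      intro g
      exact (hRQ g (h ▸ mem_top g) q hq).symm
    rcases IsSimpleGroup.eq_bot_or_eq_top_of_normal (center G) inferInstance with h3 | h3
    · exact hne (eq_bot_iff.mpr (h3 ▸ h2))
    · apply D.nab
      intro a _ b _
      have h4 : a ∈ center G := h3 ▸ mem_top a
      have h5 : a * b * a⁻¹ * b⁻¹ = 1 := by
        rw [← mem_center_iff.mp h4 b]
        group
      rw [h5]
      exact W.one_mem

end Base


end Cfsg.Agent.UGT.A7.SL1
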