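import Cfsg.Agent.UGT.A7.M1.Gd
import Cfsg.Agent.UGT.L2i.ClsRel

/-!
# `Cls0 N` gives `ClsRel.Sys (Cj N)`
-/

set_option autoImplicit false

open Cfsg Subgroup
open Cfsg.Agent.SignalizersComponents Cfsg.Agent.Lib
open Cfsg.Agent.SignalizersComponents.IntrinsicBasic
open Cfsg.Agent.Intrinsic.Basic
open Cfsg.Agent.UGT.L2i Cfsg.Agent.UGT.L2i.ClsRel
open scoped commutatorElement

universe u

namespace Cfsg.Agent.UGT.A7.M1

variable {G : Type u} [Group G] [Finite G]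

/-- the conjugates of `N`, `Cls0 N` -/
theorem Cls0.sys {N : Subgroup G} (h : Cls0 N) : Sys (Cj N) where
  conj := by
    rintro _ ⟨a, rfl⟩ g
    exact ⟨g * a, by rw [cj_mul]⟩
  comp := by
    rintro _ ⟨a, rfl⟩
    exact h.self.cj a
  z := by
    rintro _ ⟨a, rfl⟩ u hu hf
    rw [core_cj, mem_cj]
    have h1 : a⁻¹ * u * a ∈ N := mem_cj.mp hu
    have h2 := hf.cj a⁻¹
    rw [cj_inv_cj, inv_inv] at h2
    exact mem_core_of_fixes h.simple h.nab h1 h2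
  ex := by
    rintro _ ⟨a, rfl⟩ y hf hy
    have h2 := hf.cj a⁻¹
    rw [cj_inv_cj] at h2
    obtain ⟨L, hL⟩ := h.ex _ h2 (by rw [orderOf_conj, hy])
    refine ⟨cj a L, ?_⟩
    have h3 := ClsRel.At.conj hL a
    rwa [show a * (a⁻¹ * y * a⁻¹⁻¹) * a⁻¹ = y by group] at h3
  nrm := by
    rintro _ ⟨a, rfl⟩ y L hf hy hA g hg hgL
    have h2 := hf.cj a⁻¹
    rw [cj_inv_cj] at h2
    have h3 := ClsRel.At.conj hA a⁻¹
    rw [cj_inv_cj] at h3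
    have h4 := h.nrm _ _ h2 (by rw [orderOf_conj, hy]) h3 (a⁻¹ * g * a⁻¹⁻¹) (by
      rw [show a⁻¹ * g * a⁻¹⁻¹ * (a⁻¹ * y * a⁻¹⁻¹) = a⁻¹ * (g * y) * a⁻¹⁻¹ by group, hg]; group) (by
      rw [mem_normalizer_iff_cj] at hgL ⊢
      rw [← cj_mul, show a⁻¹ * g * a⁻¹⁻¹ * a⁻¹ = a⁻¹ * g by group, cj_mul, hgL])
    rw [mem_normalizer_iff_cj] at h4 ⊢
    have h5 := congrArg (cj a) h4
    rw [← cj_mul, show a * (a⁻¹ * g * a⁻¹⁻¹) = g * a by group, cj_mul] at h5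
    exact h5
  uniq := by
    rintro _ ⟨a, rfl⟩ _ ⟨b, rfl⟩ y L hy hf1 hf2 hA1 hA2
    have h2 := hf1.cj a⁻¹
    rw [cj_inv_cj] at h2
    have h3 := ClsRel.At.conj hA1 a⁻¹
    rw [cj_inv_cj] at h3
    have h4 := hf2.cj a⁻¹
    rw [← cj_mul] at h4
    have h5 := ClsRel.At.conj hA2 a⁻¹
    rw [← cj_mul] at h5
    have h6 := h.uniq _ (a⁻¹ * b) _ (by rw [orderOf_conj, hy]) h2 h4 h3 h5
    have h7 := congrArg (cj a) h6
    rw [← cj_mul, mul_inv_cancel_left] at h7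
    exact h7

end Cfsg.Agent.UGT.A7.M1
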