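import Cfsg.Agent.UGT.A7.M1.Reg
import Cfsg.Agent.UGT.A7.M1.FrE
import Cfsg.Agent.UGT.A7.M1.Sys
import Cfsg.Agent.UGT.A7.M1.SLOne
import Cfsg.Agent.UGT.L2i.ClsOne

/-!
# THEOREM M1 (bb #14042), one member

`Uno N`: the class of `N` has one member, `N / O(N) ≅ A₇`.

* `Uno.reg`: two commuting involutions of `N(N)`, `C(y) ≤ N(N')` for the involutions `y` of the four-group generated
  by them, trivial on `N'`: regular on `N / O(N)`, or `N' = N`.
* `Uno.eq_of_cover`: (T3).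
-/

set_option autoImplicit false

open Cfsg Subgroup Equiv Equiv.Perm
open Cfsg.Agent.UAlt
open Cfsg.Agent.SignalizersComponents Cfsg.Agent.Lib
open Cfsg.Agent.SignalizersComponents.IntrinsicBasic
open Cfsg.Agent.SignalizersComponents.IntrinsicIntr
open Cfsg.Agent.SignalizersComponents.PLayerAut
open Cfsg.Agent.Intrinsic.Basic Cfsg.Agent.Intrinsic.Cen Cfsg.Agent.Intrinsic.Diag
open Cfsg.Agent.McLLyComp.Act
open Cfsg.Agent.UGT.TriBase
open Cfsg.Agent.UGT.L2i Cfsg.Agent.UGT.L2i.ClsCov Cfsg.Agent.UGT.L2i.ClsRel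
open scoped commutatorElement

universe u

namespace Cfsg.Agent.UGT.A7.M1

variable {G : Type u} [Group G]

/-- one member, `N / O(N) ≅ A₇` -/
structure Uno (N : Subgroup G) : Prop where
  comp : IsComp N N
  t1 : ∀ y : G, y * y = 1 → y ≠ 1 → Fixes y N → ∀ x, x * y = y * x → x ∈ normalizer (N : Set G)
  t2 : ∀ y g : G, y * y = 1 → y ≠ 1 → Fixes y N → Fixes y (cj g N) → cj g N = N
  perp : ∀ g : G, N ≤ KN (cj g N) → cj g N ≤ KN N → cj g N = N
  four : ∃ a b : G, Fixes a N ∧ Fixes b N ∧ a * a = 1 ∧ b * b = 1 ∧ a * b = b * a ∧ a ≠ 1 ∧ b ≠ 1 ∧ a ≠ b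
  lab : Nonempty (Lab N)

theorem conj_sq {g y : G} (h : y * y = 1) : g * y * g⁻¹ * (g * y * g⁻¹) = 1 := by
  calc g * y * g⁻¹ * (g * y * g⁻¹) = g * (y * y) * g⁻¹ := by group
    _ = 1 := by rw [h]; group

theorem conj_ne_one {g y : G} (h : y ≠ 1) : g * y * g⁻¹ ≠ 1 := by
  intro h1
  apply h
  calc y = g⁻¹ * (g * y * g⁻¹) * g := by group
    _ = 1 := by rw [h1]; group

theorem Uno.conj {N : Subgroup G} (U : Uno N) (g : G) : Uno (IntrinsicBasic.cj g N) where
  comp := U.comp.cj g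
  t1 := by
    intro y hyy hy1 hy x hx
    have h1 := hy.cj g⁻¹
    rw [cj_inv_cj] at h1
    have h2 := U.t1 _ (conj_sq hyy) (conj_ne_one hy1) h1 (g⁻¹ * x * g⁻¹⁻¹) (by
      calc g⁻¹ * x * g⁻¹⁻¹ * (g⁻¹ * y * g⁻¹⁻¹) = g⁻¹ * (x * y) * g⁻¹⁻¹ := by group
        _ = g⁻¹ * (y * x) * g⁻¹⁻¹ := by rw [hx]
        _ = _ := by group)
    rw [mem_normalizer_iff_cj] at h2 ⊢
    have h3 := congrArg (IntrinsicBasic.cj g) h2
    rw [← cj_mul, show g * (g⁻¹ * x * g⁻¹⁻¹) = x * g by group, cj_mul] at h3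
    exact h3
  t2 := by
    intro y k hyy hy1 hy hyk
    have h1 := hy.cj g⁻¹
    rw [cj_inv_cj] at h1
    have h2 := hyk.cj g⁻¹
    rw [← cj_mul, ← cj_mul] at h2
    have h3 := U.t2 _ _ (conj_sq hyy) (conj_ne_one hy1) h1 h2
    have h4 := congrArg (IntrinsicBasic.cj g) h3
    rw [← cj_mul, show g * (g⁻¹ * k * g) = k * g by group, cj_mul] at h4
    exact h4
  perp := by
    intro k h1 h2
    have key : ∀ {A B : Subgroup G}, A ≤ KN B → IntrinsicBasic.cj g⁻¹ A ≤ KN (IntrinsicBasic.cj g⁻¹ B) := by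
      intro A B h
      rw [← cj_KN]
      exact map_mono h
    have h3 := key h1
    have h4 := key h2
    rw [cj_inv_cj] at h3 h4
    rw [← cj_mul, ← cj_mul] at h3 h4
    have h5 := U.perp _ h3 h4
    have h6 := congrArg (IntrinsicBasic.cj g) h5
    rw [← cj_mul, show g * (g⁻¹ * k * g) = k * g by group, cj_mul] at h6
    exact h6
  four := by
    obtain ⟨a, b, ha, hb, haa, hbb, hab, a1, b1, hne⟩ := U.four
    refine ⟨g * a * g⁻¹, g * b * g⁻¹, ha.cj g, hb.cj g, conj_sq haa, conj_sq hbb, ?_, conj_ne_one a1,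
      conj_ne_one b1, ?_⟩
    · calc g * a * g⁻¹ * (g * b * g⁻¹) = g * (a * b) * g⁻¹ := by group
        _ = g * (b * a) * g⁻¹ := by rw [hab]
        _ = _ := by group
    · intro h
      exact hne ((MulAut.conj g).injective h)
  lab := by
    obtain ⟨M⟩ := U.lab
    exact ⟨M.cj g⟩

variable [Finite G]

/-- `N ≤ N(N')`, an element of `N(N)` trivial on `N'` and not on `N`: `N` is trivial on `N'` -/
theorem le_KN_of_le {N N' : Subgroup G} (hN : IsComp N N) (hs : IsSimpleGroup (↥N ⧸ oddCore ↥N)) {a : G}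
    (haN : a ∈ normalizer (N : Set G)) (ha : ¬ Fixes a N) (ha' : Fixes a N')
    (hle : N ≤ normalizer (N' : Set G)) : N ≤ KN N' := by
  obtain ⟨A, hA⟩ : ∃ A, A = N ⊓ KN N' := ⟨_, rfl⟩
  have hAN : A ≤ N := hA ▸ inf_le_left
  have hAn : N ≤ normalizer (A : Set G) := by
    intro x hx
    have e1 : x ∈ normalizer (N : Set G) := le_normalizer hx
    have e2 : IntrinsicBasic.cj x (KN N') = KN N' := by rw [cj_KN, mem_normalizer_iff_cj.mp (hle hx)]
    rw [mem_normalizer_iff_cj] at e1 ⊢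
    rw [hA, cj_inf, e1, e2]
  have hAnn : (A.subgroupOf N).Normal := normal_subgroupOf_of_le_normalizer hAn
  have hmap : ((A.subgroupOf N).map (QuotientGroup.mk' (oddCore ↥N))).Normal :=
    hAnn.map _ (QuotientGroup.mk'_surjective _)
  rcases hs.eq_bot_or_eq_top_of_normal _ hmap with h | h
  · exfalso
    apply ha
    refine ⟨haN, fun x hx => ?_⟩
    have h1 : ⁅a, x⁆ ∈ N := by
      have h2 : a * x * a⁻¹ ∈ N := (Subgroup.mem_normalizer_iff.mp haN x).mp hx
      rw [commutatorElement_def]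
      exact N.mul_mem h2 (N.inv_mem hx)
    have h2 : ⁅a, x⁆ ∈ KN N' := by
      have h3 : Fixes (x * a⁻¹ * x⁻¹) N' := ClsOne.fixes_conj (hle hx) ((KN N').inv_mem ha')
      have h4 : ⁅a, x⁆ = a * (x * a⁻¹ * x⁻¹) := by rw [commutatorElement_def]; group
      rw [h4]
      exact (KN N').mul_mem ha' h3
    have h3 : (QuotientGroup.mk' (oddCore ↥N)) ⟨⁅a, x⁆, h1⟩ ∈
        (A.subgroupOf N).map (QuotientGroup.mk' (oddCore ↥N)) :=
      ⟨⟨⁅a, x⁆, h1⟩, by rw [SetLike.mem_coe, mem_subgroupOf, hA]; exact ⟨h1, h2⟩, rfl⟩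
    rw [h, mem_bot, QuotientGroup.mk'_apply, QuotientGroup.eq_one_iff] at h3
    exact (mem_core_iff h1).mpr h3
  · refine le_trans ?_ (hA ▸ inf_le_right : A ≤ KN N')
    refine hN.le_of_two fun k hk n hkn => ?_
    have h1 : (QuotientGroup.mk' (oddCore ↥N)) ⟨k, hk⟩ ∈
        (A.subgroupOf N).map (QuotientGroup.mk' (oddCore ↥N)) := by rw [h]; trivial
    obtain ⟨⟨j, hjN⟩, hj, hjk⟩ := h1
    rw [SetLike.mem_coe, mem_subgroupOf] at hj
    rw [QuotientGroup.mk'_apply, QuotientGroup.mk'_apply, QuotientGroup.eq] at hjk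
    have h2 : j⁻¹ * k ∈ core N := (mem_core_iff (N.mul_mem (N.inv_mem hjN) hk)).mpr hjk
    have h3 : j * (j⁻¹ * k) ∈ A := by
      refine mem_of_mul_odd hj (hAn (core_le N h2)) ((odd_card_core N).of_dvd_nat
        (Subgroup.orderOf_dvd_natCard _ h2)) (n := n) ?_
      rw [mul_inv_cancel_left]; exact hkn
    rwa [mul_inv_cancel_left] at h3

/-- two commuting involutions of `N(N)`: regular on `N / O(N)`, or the centralizers generate `N` -/
theorem reg_or_le {N N' : Subgroup G} (M : Lab N) {a b : G} (haa : a * a = 1) (hbb : b * b = 1)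
    (hab : a * b = b * a) (a1 : a ≠ 1) (b1 : b ≠ 1) (hne : a ≠ b)
    (haN : a ∈ normalizer (N : Set G)) (hbN : b ∈ normalizer (N : Set G))
    (ha : ¬ Fixes a N) (hb : ¬ Fixes b N) (hc : ¬ Fixes (a * b) N)
    (ca : ∀ x, x * a = a * x → x ∈ normalizer (N' : Set G))
    (cb : ∀ x, x * b = b * x → x ∈ normalizer (N' : Set G))
    (cc : ∀ x, x * (a * b) = a * b * x → x ∈ normalizer (N' : Set G)) :
    Reg (M.φ a) (M.φ b) ∨ N ≤ normalizer (N' : Set G) := by
  have hcore : core N ≤ normalizer (N' : Set G) :=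
    Cfsg.Agent.CoverCore.Abs.le_of_four haa hbb hab a1 b1 hne (odd_card_core N)
      (fun x hx => conj_mem_core haN hx) (fun x hx => conj_mem_core hbN hx)
      (fun x _ h => ca x h) (fun x _ h => cb x h) (fun x _ h => cc x h)
  have habN : a * b ∈ normalizer (N : Set G) := mul_mem haN hbN
  have e1 : M.φ a ≠ 1 := fun h => ha ((M.fixes_iff haN).1 h)
  have e2 : M.φ b ≠ 1 := fun h => hb ((M.fixes_iff hbN).1 h)
  have e3 : M.φ a ≠ M.φ b := by
    intro h
    apply hc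
    rw [← M.fixes_iff habN, M.mul _ _ haN hbN, h]
    exact M.sq hbN hbb
  rcases gen_or_reg (M.sq haN haa) (M.sq hbN hbb) (M.comm haN hbN hab) e1 e2 e3 with h | h
  · exact Or.inl h
  · refine Or.inr ?_
    obtain ⟨X, hX⟩ : ∃ X : Subgroup (Perm (Fin 7)), X = ((N ⊓ normalizer (N' : Set G)).subgroupOf
      (normalizer (N : Set G))).map M.hom := ⟨_, rfl⟩
    have hXm : ∀ r : Perm (Fin 7), r ∈ X ↔ ∃ n ∈ N, n ∈ normalizer (N' : Set G) ∧ M.φ n = r := by
      intro r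
      rw [hX]
      constructor
      · rintro ⟨⟨n, hn⟩, hn', rfl⟩
        exact ⟨n, hn'.1, hn'.2, rfl⟩
      · rintro ⟨n, hn, hn', rfl⟩
        exact ⟨⟨n, le_normalizer hn⟩, ⟨hn, hn'⟩, rfl⟩
    have lift : ∀ c : G, c ∈ normalizer (N : Set G) → c * c = 1 →
        (∀ x, x * c = c * x → x ∈ normalizer (N' : Set G)) → ∀ r ∈ alternatingGroup (Fin 7),
        r * M.φ c = M.φ c * r → r ∈ X := by
      intro c hcN hcc hcx r hr hrc
      obtain ⟨k, hk, hck, hkr⟩ := M.exists_comm_lift hcN (n := 1) (by rw [pow_one, pow_two, hcc])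
        (σ := r) (by rw [alt_univ]; exact hr) hrc.symm
      exact (hXm r).2 ⟨k, hk, hcx k hck.symm, hkr⟩
    have hX7 := h X (lift a haN haa ca) (lift b hbN hbb cb) (by
      intro r hr hrc
      refine lift (a * b) habN (ClsOne.sq_mul haa hbb hab) cc r hr ?_
      rw [M.mul _ _ haN hbN]
      exact hrc)
    intro n hn
    have h1 : M.φ n ∈ alternatingGroup (Fin 7) := by
      have := M.mem_alt n hn
      rwa [alt_univ] at this
    obtain ⟨m, hm, hm', hmn⟩ := (hXm _).1 (hX7 h1)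
    have h2 : m⁻¹ * n ∈ core N := (M.eq_iff hm hn).1 hmn
    have h3 : n = m * (m⁻¹ * n) := by group
    rw [h3]
    exact mul_mem hm' (hcore h2)

namespace Uno

variable {N : Subgroup G} (U : Uno N)

include U

theorem simple : IsSimpleGroup (↥N ⧸ oddCore ↥N) := by
  obtain ⟨M⟩ := U.lab
  exact Mu.IsA7.simple ⟨M⟩

end Uno

end Cfsg.Agent.UGT.A7.M1
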