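import Cfsg.Agent.UGT.A7.M1.One
import Cfsg.Agent.UGT.Q2.Om

/-!
# THEOREM M1 (bb #14042), one member: (T3)

* `Uno.four_or`: a 2-subgroup `E` with a four-group of `KN N ∩ N(N')`, `N'` a conjugate of `N`, `N' ≠ N`: `|E| = 4` and `E`
  is regular on `N' / O(N')`, or `N' ≤ KN N`.
* `Uno.eq_of_le`, `Uno.eq_of_cover`: (T3).
-/

set_option autoImplicit false

open Cfsg Subgroup Equiv Equiv.Perm
open Cfsg.Agent.UAlt
open Cfsg.Agent.SignalizersComponents Cfsg.Agent.Lib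
open Cfsg.Agent.SignalizersComponents.IntrinsicBasic
open Cfsg.Agent.SignalizersComponents.IntrinsicIntr
open Cfsg.Agent.SignalizersComponents.PLayerAut
open Cfsg.Agent.Intrinsic.Basic Cfsg.Agent.Intrinsic.Cen Cfsg.Agent.Intrinsic.Diag
open Cfsg.Agent.McLLyComp.Act
open Cfsg.Agent.UGT.TriBase
open Cfsg.Agent.UGT.L2i Cfsg.Agent.UGT.L2i.ClsCov Cfsg.Agent.UGT.L2i.ClsRel
open scoped commutatorElement

universe u

namespace Cfsg.Agent.UGT.A7.M1

variable {G : Type u} [Group G] [Finite G]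

/-- a nontrivial 2-group has an involution -/
theorem exists_inv_of_ne_bot {E : Subgroup G} (hE : IsPGroup 2 ↥E) {e : G} (he : e ∈ E) (he1 : e ≠ 1) :
    ∃ y ∈ E, y * y = 1 ∧ y ≠ 1 ∧ y ∈ zpowers e := by
  have : Fact (Nat.Prime 2) := ⟨Nat.prime_two⟩
  have h1 : IsPGroup 2 ↥(zpowers e) := hE.to_le (by rw [zpowers_le]; exact he)
  have h2 : 2 ∣ Nat.card ↥(zpowers e) := by
    obtain ⟨k, hk⟩ := h1.exists_card_eq
    rw [hk]
    rcases Nat.eq_zero_or_pos k with h0 | h0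
    · exfalso
      rw [h0, pow_zero, Subgroup.card_eq_one] at hk
      apply he1
      have h3 : e ∈ zpowers e := mem_zpowers e
      rwa [hk, mem_bot] at h3
    · exact dvd_pow_self 2 h0.ne'
  obtain ⟨u, hu⟩ := exists_prime_orderOf_dvd_card' (G := ↥(zpowers e)) 2 h2
  refine ⟨u, ?_, ?_, ?_, u.2⟩
  · have h3 : zpowers e ≤ E := by rw [zpowers_le]; exact he
    exact h3 u.2
  · exact congrArg Subtype.val (sq_of_order hu)
  · intro h
    have h3 : u = 1 := Subtype.ext h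
    rw [h3, orderOf_one] at hu
    omega

/-- 2-subgroups of `KN N ∩ N(N')` act faithfully on `N' / O(N')` -/
theorem Uno.not_fixes {N N' : Subgroup G} (U : Uno N) (hcj : ∃ g, N' = cj g N) (hne : N' ≠ N)
    {E : Subgroup G} (hE2 : IsPGroup 2 ↥E) (hEK : E ≤ KN N) {e : G} (he : e ∈ E) (he1 : e ≠ 1) :
    ¬ Fixes e N' := by
  intro hf
  obtain ⟨y, hyE, hyy, hy1, hye⟩ := exists_inv_of_ne_bot hE2 he he1
  have h1 : Fixes y N' := by
    have h2 : zpowers e ≤ KN N' := by rw [zpowers_le]; exact hf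
    exact h2 hye
  obtain ⟨g, rfl⟩ := hcj
  exact hne (U.t2 y g hyy hy1 (hEK hyE) h1)

theorem Uno.four_or {N N' : Subgroup G} (U : Uno N) (U' : Uno N') (hcj : ∃ g, N' = cj g N) (hne : N' ≠ N)
    {E : Subgroup G} (hE2 : IsPGroup 2 ↥E) (hEK : E ≤ KN N) (hEN : E ≤ normalizer (N' : Set G))
    (h4 : ∃ a ∈ E, ∃ b ∈ E, a * a = 1 ∧ b * b = 1 ∧ a * b = b * a ∧ a ≠ 1 ∧ b ≠ 1 ∧ a ≠ b) :
    N' ≤ KN N ∨ (Nat.card ↥E = 4 ∧ ∀ M : Lab N', ∀ a ∈ E, ∀ b ∈ E, a * a = 1 → b * b = 1 → a * b = b * a →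
      a ≠ 1 → b ≠ 1 → a ≠ b → Reg (M.φ a) (M.φ b)) := by
  by_cases hle : N' ≤ normalizer (N : Set G)
  · left
    obtain ⟨a, ha, b, hb, haa, hbb, hab, a1, b1, hab1⟩ := h4
    exact le_KN_of_le U'.comp U'.simple (hEN ha) (U.not_fixes hcj hne hE2 hEK ha a1) (hEK ha) hle
  right
  have hreg : ∀ M : Lab N', ∀ a ∈ E, ∀ b ∈ E, a * a = 1 → b * b = 1 → a * b = b * a →
      a ≠ 1 → b ≠ 1 → a ≠ b → Reg (M.φ a) (M.φ b) := by
    intro M a ha b hb haa hbb hab a1 b1 hab1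
    have hab2 := ClsOne.sq_mul haa hbb hab
    have hab3 := ClsOne.mul_ne_one haa hab1
    rcases reg_or_le (N := N') (N' := N) M haa hbb hab a1 b1 hab1 (hEN ha) (hEN hb)
      (U.not_fixes hcj hne hE2 hEK ha a1) (U.not_fixes hcj hne hE2 hEK hb b1)
      (U.not_fixes hcj hne hE2 hEK (mul_mem ha hb) hab3) (U.t1 a haa a1 (hEK ha)) (U.t1 b hbb b1 (hEK hb))
      (U.t1 _ hab2 hab3 (hEK (mul_mem ha hb))) with h | h
    · exact h
    · exact absurd h hle
  refine ⟨?_, hreg⟩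
  obtain ⟨M⟩ := U'.lab
  have hinj : ∀ x ∈ E, ∀ y ∈ E, M.φ x = M.φ y → x = y := by
    intro x hx y hy hxy
    by_contra hne1
    refine U.not_fixes hcj hne hE2 hEK (mul_mem (inv_mem hx) hy) (fun h => hne1 (inv_mul_eq_one.mp h)) ?_
    rw [← M.fixes_iff (mul_mem (inv_mem (hEN hx)) (hEN hy)), M.mul _ _ (inv_mem (hEN hx)) (hEN hy),
      M.inv (hEN hx), hxy, inv_mul_cancel]
  obtain ⟨f, hf⟩ : ∃ f : ↥E →* Perm (Fin 7), f = M.hom.comp (Subgroup.inclusion hEN) := ⟨_, rfl⟩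
  have hf' : ∀ x : ↥E, f x = M.φ x := by
    intro x
    rw [hf]
    rfl
  have hfi : Function.Injective f := by
    intro x y h
    rw [hf', hf'] at h
    exact Subtype.ext (hinj x x.2 y y.2 h)
  have hcard : Nat.card ↥E = Nat.card ↥f.range := Nat.card_congr (MonoidHom.ofInjective hfi).toEquiv
  rw [hcard]
  have hR : IsPGroup 2 ↥f.range := hE2.of_surjective f.rangeRestrict f.rangeRestrict_surjective
  refine card_of_reg hR ?_ ?_
  · obtain ⟨a, ha, b, hb, haa, hbb, hab, a1, b1, hab1⟩ := h4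
    refine ⟨M.φ a, ⟨⟨a, ha⟩, hf' _⟩, M.φ b, ⟨⟨b, hb⟩, hf' _⟩, M.sq (hEN ha) haa, M.sq (hEN hb) hbb,
      M.comm (hEN ha) (hEN hb) hab, ?_, ?_, ?_⟩
    · intro h
      exact a1 (hinj a ha 1 (one_mem _) (by rw [h, M.one]))
    · intro h
      exact b1 (hinj b hb 1 (one_mem _) (by rw [h, M.one]))
    · intro h
      exact hab1 (hinj a ha b hb h)
  · rintro _ ⟨⟨a, ha⟩, rfl⟩ _ ⟨⟨b, hb⟩, rfl⟩ haa hbb hab a1 b1 hab1
    rw [hf'] at haa hbb a1 b1 hab hab1 ⊢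
    rw [hf'] at hab hab1 ⊢
    change M.φ a * M.φ a = 1 at haa
    change M.φ b * M.φ b = 1 at hbb
    change M.φ a * M.φ b = M.φ b * M.φ a at hab
    change M.φ a ≠ 1 at a1
    change M.φ b ≠ 1 at b1
    change M.φ a ≠ M.φ b at hab1
    refine hreg M a ha b hb ?_ ?_ ?_ ?_ ?_ ?_
    · exact hinj _ (mul_mem ha ha) 1 (one_mem _) (by rw [M.mul _ _ (hEN ha) (hEN ha), haa, M.one])
    · exact hinj _ (mul_mem hb hb) 1 (one_mem _) (by rw [M.mul _ _ (hEN hb) (hEN hb), hbb, M.one])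
    · exact hinj _ (mul_mem ha hb) _ (mul_mem hb ha) (by
        rw [M.mul _ _ (hEN ha) (hEN hb), M.mul _ _ (hEN hb) (hEN ha), hab])
    · rintro rfl; exact a1 M.one
    · rintro rfl; exact b1 M.one
    · rintro rfl; exact hab1 rfl

/-- `8 ∣ |N|` -/
theorem Uno.eight {N : Subgroup G} (U : Uno N) : 2 ^ 3 ∣ Nat.card ↥N := by
  obtain ⟨M⟩ := U.lab
  have h1 : Nat.card ↥(alt (Finset.univ : Finset (Fin 7))) ∣ Nat.card ↥N :=
    Subgroup.card_dvd_of_surjective M.homK M.homK_surjective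
  have h2 : Nat.card ↥(alt (Finset.univ : Finset (Fin 7))) = 2520 := by
    rw [alt_univ, nat_card_alternatingGroup]
    simp [Nat.factorial]
  rw [h2] at h1
  exact dvd_trans (by norm_num) h1

/-- a Sylow 2-subgroup of `KN N` contains a four-group -/
theorem Uno.four_syl {N Q : Subgroup G} (U : Uno N) (hQ : IsSyl (KN N) Q) :
    ∃ a ∈ Q, ∃ b ∈ Q, a * a = 1 ∧ b * b = 1 ∧ a * b = b * a ∧ a ≠ 1 ∧ b ≠ 1 ∧ a ≠ b := by
  obtain ⟨a, b, ha, hb, haa, hbb, hab, a1, b1, hne⟩ := U.four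
  have h1 : IsPGroup 2 ↥(closure {a, b}) := TT.isPGroup_closure (by
      rintro t (rfl | rfl)
      · exact haa
      · exact hbb) (by
      rintro t (rfl | rfl) t' (rfl | rfl)
      · rfl
      · exact hab
      · exact hab.symm
      · rfl)
  have h2 : closure {a, b} ≤ KN N := by
    rw [closure_le]
    rintro t (rfl | rfl)
    · exact ha
    · exact hb
  obtain ⟨g, hg, h3⟩ := hQ.conj h1 h2
  have h4 : ∀ {t : G}, t ∈ closure {a, b} → g⁻¹ * t * g⁻¹⁻¹ ∈ Q := by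
    intro t ht
    have := mem_cj.mp (h3 ht)
    rwa [inv_inv]
  refine ⟨_, h4 (subset_closure (by simp)), _, h4 (subset_closure (by simp)), conj_sq haa, conj_sq hbb, ?_,
    conj_ne_one a1, conj_ne_one b1, ?_⟩
  · calc g⁻¹ * a * g⁻¹⁻¹ * (g⁻¹ * b * g⁻¹⁻¹) = g⁻¹ * (a * b) * g⁻¹⁻¹ := by group
      _ = g⁻¹ * (b * a) * g⁻¹⁻¹ := by rw [hab]
      _ = _ := by group
  · intro h
    exact hne ((MulAut.conj g⁻¹).injective h)

/-- **(T3)**, `N ≤ KN N'` -/
theorem Uno.eq_of_le {N : Subgroup G} (U : Uno N) (g : G) (h : N ≤ KN (cj g N)) : cj g N = N := by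
  by_contra hne
  have U' := U.conj g
  have hcj : ∃ k, cj g N = cj k N := ⟨g, rfl⟩
  -- an involution of `N`
  obtain ⟨v₀, hv₀, hv₀'⟩ := exists_inv U.comp
  -- a Sylow 2-subgroup `Q` of `KN N`, commuting with an involution `v` of `N`
  obtain ⟨Q, hQ, -⟩ := exists_isSyl (E := KN N) (R₀ := ⊥) IsPGroup.of_bot bot_le
  obtain ⟨v, hv1, hv2, hv3⟩ := SL.exists_fixed_involution (odd_card_core N) hQ.two (sq_of_order hv₀')
    (fun x hx => conj_mem_core (le_normalizer hv₀) hx) (fun t ht x hx => conj_mem_core (hQ.le ht).1 hx) (by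
      intro t ht
      have h1 : Fixes t N := hQ.le ht
      have h2 : v₀⁻¹ = v₀ := inv_eq_of_mul_eq_one_left (sq_of_order hv₀')
      have h3 := (fixes_iff_conj.mp h1).2 v₀ hv₀
      rwa [h2] at h3)
  have hv : v ∈ N := by
    have h1 : v = v₀⁻¹ * (v₀ * v) := by group
    rw [h1]
    exact mul_mem (inv_mem hv₀) (core_le N hv1)
  have hv0 : v ≠ 1 := by
    intro h1
    rw [h1, mul_one] at hv1
    have h2 := eq_one_of_mem_core_sq hv1 (sq_of_order hv₀')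
    rw [h2, orderOf_one] at hv₀'
    omega
  have hQN : Q ≤ normalizer (cj g N : Set G) := fun t ht => U'.t1 v hv2 hv0 (h hv) t (hv3 t ht)
  rcases U.four_or U' hcj hne hQ.two hQ.le hQN (U.four_syl hQ) with h1 | ⟨h1, -⟩
  · exact hne (U.perp g h h1)
  · have h2 : 2 ^ 3 ∣ Nat.card ↥(KN N) := by
      have h3 : Nat.card ↥(KN (cj g N)) = Nat.card ↥(KN N) := by rw [← cj_KN, card_cj]
      rw [← h3]
      exact U.eight.trans (card_dvd_of_le h)
    have h3 := hQ.dvd_card h2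
    rw [h1] at h3
    omega

/-- **(T3)** -/
theorem Uno.eq_of_cover {N : Subgroup G} (U : Uno N) (g : G) (h : N ⊓ KN (cj g N) ⊔ core N = N) : cj g N = N := by
  by_contra hne
  have U' := U.conj g
  have hcj : ∃ k, cj g N = cj k N := ⟨g, rfl⟩
  obtain ⟨A, hA⟩ : ∃ A, A = N ⊓ KN (cj g N) := ⟨_, rfl⟩
  rw [← hA] at h
  have hP := isComp_of_cover U.comp (sup_pElem U.comp h) (pElem_pElem A)
  have hPA : PComponents.pElem 2 A ≤ A := PComponents.pElem_le _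
  obtain ⟨v, hv, w, hw, vv, ww, vw, v1, w1, hvw⟩ := exists_four hP (by
    intro u hu huu hf
    have huN : u ∈ N := (hA ▸ hPA hu : u ∈ N ⊓ KN (cj g N)).1
    have h1 : Fixes u N := (fixes_iff_of_sup (sup_pElem U.comp h) hf.1 (le_normalizer huN)).mp hf
    obtain ⟨M⟩ := U.lab
    have h2 : M.φ u = 1 := (M.fixes_iff (le_normalizer huN)).mpr h1
    exact eq_one_of_mem_core_sq ((M.core_iff u huN).mp h2) huu)
  have hvA : v ∈ N ⊓ KN (cj g N) := hA ▸ hPA hv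
  have hwA : w ∈ N ⊓ KN (cj g N) := hA ▸ hPA hw
  have hcore : core N ≤ normalizer (cj g N : Set G) :=
    Cfsg.Agent.CoverCore.Abs.le_of_four vv ww vw v1 w1 hvw (odd_card_core N)
      (fun x hx => conj_mem_core (le_normalizer hvA.1) hx) (fun x hx => conj_mem_core (le_normalizer hwA.1) hx)
      (fun x _ h => U'.t1 v vv v1 hvA.2 x h) (fun x _ h => U'.t1 w ww w1 hwA.2 x h)
      (fun x _ h => U'.t1 _ (ClsOne.sq_mul vv ww vw) (ClsOne.mul_ne_one vv hvw)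
        ((KN (cj g N)).mul_mem hvA.2 hwA.2) x h)
  have hle : N ≤ normalizer (cj g N : Set G) := by
    conv_lhs => rw [← h]
    refine sup_le ?_ hcore
    rw [hA]
    exact inf_le_right.trans (KN_le _)
  have hnf : ¬ Fixes v N := by
    intro hf
    obtain ⟨M⟩ := U.lab
    have h2 : M.φ v = 1 := (M.fixes_iff (le_normalizer hvA.1)).mpr hf
    exact v1 (eq_one_of_mem_core_sq ((M.core_iff v hvA.1).mp h2) vv)
  exact hne (U.eq_of_le g (le_KN_of_le U.comp U.simple (le_normalizer hvA.1) hnf hvA.2 hle))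

end Cfsg.Agent.UGT.A7.M1
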