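import Cfsg.Agent.UGT.A7.M1.OneB
import Mathlib.GroupTheory.GroupAction.MultipleTransitivity

/-!
# THEOREM M1 (bb #14042), one member: `K(N) ∩ N(N')` with a four-group

`Uno.rank_of_four`: if `KN N ∩ N(N')` contains a four-group for some conjugate `N' ≠ N`, then `G` has sectional 2-rank at
most 4.
-/

set_option autoImplicit false

open Cfsg Subgroup Equiv Equiv.Perm
open Cfsg.Agent.UAlt
open Cfsg.Agent.SignalizersComponents Cfsg.Agent.Lib
open Cfsg.Agent.SignalizersComponents.IntrinsicBasic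
open Cfsg.Agent.SignalizersComponents.IntrinsicIntr
open Cfsg.Agent.SignalizersComponents.PLayerAut
open Cfsg.Agent.Intrinsic Cfsg.Agent.Intrinsic.Basic Cfsg.Agent.Intrinsic.Cen Cfsg.Agent.Intrinsic.Diag
open Cfsg.Agent.McLLyComp.Act
open Cfsg.Agent.UGT.TriBase
open Cfsg.Agent.UGT.L2i Cfsg.Agent.UGT.L2i.ClsCov Cfsg.Agent.UGT.L2i.ClsRel
open scoped commutatorElement

universe u

namespace Cfsg.Agent.UGT.A7.M1

/-- regular four-groups are conjugate -/
theorem Reg.exists_conj {s t : Perm (Fin 7)} (h : Reg s t) : ∃ g : Perm (Fin 7),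
    g * s * g⁻¹ = swap 0 1 * swap 2 3 ∧ g * t * g⁻¹ = swap 0 2 * swap 1 3 := by
  obtain ⟨i, j, k, l, hij, hik, hil, hjk, hjl, hkl, rfl, rfl⟩ := h
  have := Equiv.Perm.isMultiplyPretransitive (Fin 7) 4
  let x : Fin 4 ↪ Fin 7 := ⟨![i, j, k, l], by
    intro a b hab
    fin_cases a <;> fin_cases b <;> simp_all⟩
  let y : Fin 4 ↪ Fin 7 := ⟨![0, 1, 2, 3], by decide⟩
  obtain ⟨g, hg⟩ := MulAction.exists_smul_eq (Perm (Fin 7)) x y
  have h0 : g i = 0 := by
    have := congrArg (fun f : Fin 4 ↪ Fin 7 => f 0) hg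
    exact this
  have h1 : g j = 1 := by
    have := congrArg (fun f : Fin 4 ↪ Fin 7 => f 1) hg
    exact this
  have h2 : g k = 2 := by
    have := congrArg (fun f : Fin 4 ↪ Fin 7 => f 2) hg
    exact this
  have h3 : g l = 3 := by
    have := congrArg (fun f : Fin 4 ↪ Fin 7 => f 3) hg
    exact this
  have key : ∀ a b c d : Fin 7, g * (swap a b * swap c d) * g⁻¹ = swap (g a) (g b) * swap (g c) (g d) := by
    intro a b c d
    rw [swap_apply_apply, swap_apply_apply]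
    group
  exact ⟨g, by rw [key, h0, h1, h2, h3], by rw [key, h0, h1, h2, h3]⟩

variable {G : Type u} [Group G] [Finite G]

omit [Finite G] in
theorem cj_normalizer' (g : G) (W : Subgroup G) :
    cj g (normalizer (W : Set G)) = normalizer (cj g W : Set G) := by
  ext x
  rw [mem_cj, mem_normalizer_iff_cj, mem_normalizer_iff_cj]
  constructor
  · intro h
    have h1 := congrArg (cj g) h
    rw [← cj_mul, show g * (g⁻¹ * x * g) = x * g by group, cj_mul] at h1
    exact h1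
  · intro h
    have h1 := congrArg (cj g⁻¹) h
    rw [cj_inv_cj, ← cj_mul, ← cj_mul] at h1
    exact h1

/-- an element of `X ∩ KN N` which is an involution modulo `O(X)` -/
theorem exists_root {X N : Subgroup G} (M : Lab X) {u : G} (hu : u ∈ X) (huN : u ∈ KN N)
    (h1 : M.φ u * M.φ u = 1) : ∃ v ∈ X, v ∈ KN N ∧ v * v = 1 ∧ M.φ v = M.φ u := by
  have hodd : Odd (Nat.card ↥(core X ⊓ KN N)) :=
    Odd.of_dvd_nat (odd_card_core X) (card_dvd_of_le inf_le_left)
  have h2 : u ^ 2 ^ 1 ∈ core X ⊓ KN N := by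
    rw [pow_one, pow_two]
    refine mem_inf.2 ⟨?_, mul_mem huN huN⟩
    rw [← M.core_iff _ (mul_mem hu hu), M.mul _ _ (le_normalizer hu) (le_normalizer hu), h1]
  obtain ⟨m, h3, h4⟩ := Lifting.exists_two_part hodd h2
  refine ⟨u ^ m, pow_mem hu m, pow_mem huN m, by rw [← pow_two, ← h3, pow_one], ?_⟩
  exact ((M.eq_iff hu (pow_mem hu m)).mpr h4.1).symm

/-- two commuting involutions of `X ∩ KN N` over given ones -/
theorem exists_four_root {X N : Subgroup G} (M : Lab X) {u w : G} (hu : u ∈ X) (huN : u ∈ KN N) (hw : w ∈ X)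
    (hwN : w ∈ KN N) (h1 : M.φ u * M.φ u = 1) (h2 : M.φ w * M.φ w = 1) (h3 : M.φ u * M.φ w = M.φ w * M.φ u) :
    ∃ v ∈ X, ∃ v' ∈ X, v ∈ KN N ∧ v' ∈ KN N ∧ v * v = 1 ∧ v' * v' = 1 ∧ v * v' = v' * v ∧ M.φ v = M.φ u ∧
      M.φ v' = M.φ w := by
  obtain ⟨v, hv, hvN, hvv, hvu⟩ := exists_root M hu huN h1
  have hodd : Odd (Nat.card ↥(core X ⊓ KN N)) :=
    Odd.of_dvd_nat (odd_card_core X) (card_dvd_of_le inf_le_left)
  have hn : ∀ {x : G}, x ∈ X → x ∈ KN N → x ∈ normalizer ((core X ⊓ KN N : Subgroup G) : Set G) := by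
    intro x hx hxN
    have e1 : x ∈ normalizer (core X : Set G) := le_normalizer_core X hx
    have e2 : x ∈ normalizer (KN N : Set G) := le_normalizer hxN
    rw [mem_normalizer_iff_cj] at e1 e2 ⊢
    rw [cj_inf, e1, e2]
  obtain ⟨o, ho, hoo, hvo⟩ := Lifting.exists_involution hodd (v := v) (x := w) (n := 1)
    (by rw [pow_one, pow_two, hvv]) (hn hv hvN) (hn hw hwN) (by
      refine mem_inf.2 ⟨?_, mul_mem hwN hwN⟩
      rw [← M.core_iff _ (mul_mem hw hw), M.mul _ _ (le_normalizer hw) (le_normalizer hw), h2]) (by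
      refine mem_inf.2 ⟨?_, mul_mem (inv_mem hwN) (mul_mem (mul_mem hvN hwN) (inv_mem hvN))⟩
      rw [← M.eq_iff hw (mul_mem (mul_mem hv hw) (inv_mem hv)), M.conj (le_normalizer hv) (le_normalizer hw),
        hvu, h3, mul_inv_cancel_right])
  refine ⟨v, hv, w * o, mul_mem hw (core_le X ho.1), hvN, mul_mem hwN ho.2, hvv, hoo, hvo, hvu, ?_⟩
  rw [M.mul _ _ (le_normalizer hw) (le_normalizer (core_le X ho.1)), (M.core_iff o (core_le X ho.1)).mpr ho.1,
    mul_one]

/-- in `D₈` a four-group contains the centre -/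
theorem dihedral_four : ∀ x y : DihedralGroup 4, x * x = 1 → y * y = 1 → x * y = y * x → x ≠ 1 → y ≠ 1 →
    x ≠ y → DihedralGroup.r 2 = x ∨ DihedralGroup.r 2 = y ∨ DihedralGroup.r 2 = x * y := by
  decide

theorem dihedral_center : ∀ x : DihedralGroup 4, (∀ y, x * y = y * x) → x = 1 ∨ x = DihedralGroup.r 2 := by
  decide

theorem dihedral_r2 : (∀ y : DihedralGroup 4, DihedralGroup.r 2 * y = y * DihedralGroup.r 2) ∧
    (DihedralGroup.r 2 : DihedralGroup 4) ≠ 1 ∧ (DihedralGroup.r 2 : DihedralGroup 4) * DihedralGroup.r 2 = 1 := by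
  decide

omit [Finite G] in
/-- a four-group of `P ≃ D₈` -/
theorem four_dihedral {P : Subgroup G} (e : ↥P ≃* DihedralGroup 4) {u w : G} (hu : u ∈ P) (hw : w ∈ P)
    (uu : u * u = 1) (ww : w * w = 1) (uw : u * w = w * u) (u1 : u ≠ 1) (w1 : w ≠ 1) (hne : u ≠ w) :
    ∃ z ∈ P, z ≠ 1 ∧ z * z = 1 ∧ (∀ p ∈ P, z * p = p * z) ∧ (z = u ∨ z = w ∨ z = u * w) ∧
      ((∀ p ∈ P, u * p = p * u) → (∀ p ∈ P, w * p = p * w) → False) := by
  obtain ⟨r1, r2, r3⟩ := dihedral_r2
  have hmul : ∀ {a b : ↥P}, e a * e b = e (a * b) := fun {a b} => (map_mul e a b).symm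
  have hsym : ∀ {a : ↥P} {x : DihedralGroup 4}, x = e a → ((e.symm x : ↥P) : G) = a := by
    intro a x h
    rw [h, e.symm_apply_apply]
  have hne1 : ∀ {a : ↥P}, (a : G) ≠ 1 → e a ≠ 1 := by
    intro a h1 h2
    exact h1 (congrArg Subtype.val (e.injective (h2.trans (map_one e).symm)))
  refine ⟨e.symm (DihedralGroup.r 2), (e.symm _).2, ?_, ?_, ?_, ?_, ?_⟩
  · intro h
    apply r2
    have h1 : e.symm (DihedralGroup.r 2) = 1 := Subtype.ext h
    have h2 := congrArg e h1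
    rwa [e.apply_symm_apply, map_one] at h2
  · have h1 : e.symm (DihedralGroup.r 2) * e.symm (DihedralGroup.r 2) = 1 := by
      rw [← map_mul, r3, map_one]
    exact congrArg Subtype.val h1
  · intro p hp
    have h1 : e.symm (DihedralGroup.r 2) * ⟨p, hp⟩ = ⟨p, hp⟩ * e.symm (DihedralGroup.r 2) := by
      apply e.injective
      rw [map_mul, map_mul, e.apply_symm_apply, r1]
    exact congrArg Subtype.val h1
  · rcases dihedral_four (e ⟨u, hu⟩) (e ⟨w, hw⟩) (by
      rw [hmul, ← map_one e]; exact congrArg e (Subtype.ext uu)) (by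
      rw [hmul, ← map_one e]; exact congrArg e (Subtype.ext ww)) (by
      rw [hmul, hmul]; exact congrArg e (Subtype.ext uw)) (hne1 u1) (hne1 w1) (by
      intro h
      exact hne (congrArg Subtype.val (e.injective h))) with h | h | h
    · exact Or.inl (hsym h)
    · exact Or.inr (Or.inl (hsym h))
    · refine Or.inr (Or.inr ?_)
      rw [hmul] at h
      exact hsym h
  · intro h1 h2
    have c1 : ∀ {a : G} (ha : a ∈ P), (∀ p ∈ P, a * p = p * a) → a ≠ 1 → e ⟨a, ha⟩ = DihedralGroup.r 2 := by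
      intro a ha h a1
      rcases dihedral_center (e ⟨a, ha⟩) (by
        intro y
        obtain ⟨⟨p, hp⟩, rfl⟩ := e.surjective y
        rw [hmul, hmul]
        exact congrArg e (Subtype.ext (h p hp))) with h3 | h3
      · exact absurd h3 (hne1 a1)
      · exact h3
    have h3 := (c1 hu h1 u1).trans (c1 hw h2 w1).symm
    exact hne (congrArg Subtype.val (e.injective h3))

/-- **a four-group of `KN N ∩ N(N')`, `N'` a conjugate of `N`, `N' ≠ N`** -/
theorem Uno.rank_of_four {N : Subgroup G} (U : Uno N) (g : G) (hne : cj g N ≠ N) {a b : G}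
    (ha : Fixes a N) (hb : Fixes b N) (haa : a * a = 1) (hbb : b * b = 1) (hab : a * b = b * a)
    (a1 : a ≠ 1) (b1 : b ≠ 1) (hab1 : a ≠ b) (haX : a ∈ normalizer (cj g N : Set G))
    (hbX : b ∈ normalizer (cj g N : Set G)) : SectionalPRankLE 2 4 G := by
  obtain ⟨X, hX⟩ : ∃ X, X = cj g N := ⟨_, rfl⟩
  have U' : Uno X := hX ▸ U.conj g
  rw [← hX] at haX hbX hne
  have hNX : N = cj g⁻¹ X := by rw [hX, cj_inv_cj]
  -- (T3) both ways
  have hn1 : ¬ X ≤ KN N := by
    intro h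
    rw [hNX] at h
    have h1 := U'.eq_of_le g⁻¹ h
    rw [← hNX] at h1
    exact hne h1.symm
  have hn2 : ¬ N ≤ KN X := by
    intro h
    rw [hX] at h
    have h1 := U.eq_of_le g h
    rw [← hX] at h1
    exact hne h1
  -- (i) regular
  have hE2 : IsPGroup 2 ↥(closure {a, b}) := TT.isPGroup_closure (by
      rintro t (rfl | rfl)
      · exact haa
      · exact hbb) (by
      rintro t (rfl | rfl) t' (rfl | rfl)
      · rfl
      · exact hab
      · exact hab.symm
      · rfl)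
  have haE : a ∈ closure {a, b} := subset_closure (by simp)
  have hbE : b ∈ closure {a, b} := subset_closure (by simp)
  have hEK : closure {a, b} ≤ KN N := by
    rw [closure_le]
    rintro t (rfl | rfl)
    · exact ha
    · exact hb
  have hEX : closure {a, b} ≤ normalizer (X : Set G) := by
    rw [closure_le]
    rintro t (rfl | rfl)
    · exact haX
    · exact hbX
  rcases U.four_or U' ⟨g, hX⟩ hne hE2 hEK hEX ⟨a, haE, b, hbE, haa, hbb, hab, a1, b1, hab1⟩ with h | ⟨-, hreg⟩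
  · exact absurd h hn1
  obtain ⟨M₀⟩ := U'.lab
  obtain ⟨g₀, hg1, hg2⟩ := (hreg M₀ a haE b hbE haa hbb hab a1 b1 hab1).exists_conj
  obtain ⟨M, hM⟩ := exists_relabel M₀ g₀
  rw [← hM] at hg1 hg2
  -- (ii) roots of `X ∩ KN N`
  have hcomm : ∀ {x y : G}, x * x = 1 → x ≠ 1 → x ∈ KN N → y ∈ KN N → x ∈ normalizer (X : Set G) →
      y ∈ normalizer (X : Set G) → ∀ {r : Perm (Fin 7)}, r ∈ alt (Finset.univ : Finset (Fin 7)) →
      M.φ x * r = r * M.φ x → ∃ v ∈ X, v ∈ KN N ∧ M.φ v = r * M.φ y * r⁻¹ * (M.φ y)⁻¹ := by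
    intro x y hxx x1 hxN hyN hxX hyX r hr hxr
    obtain ⟨c, hcX, hxc, hcr⟩ := M.exists_comm_lift hxX (n := 1) (by rw [pow_one, pow_two, hxx]) hr hxr
    have hcN : c ∈ normalizer (N : Set G) := U.t1 x hxx x1 hxN c hxc.symm
    have hcX' : c ∈ normalizer (X : Set G) := le_normalizer hcX
    refine ⟨c * y * c⁻¹ * y⁻¹, ?_, ?_, ?_⟩
    · have h1 : y * c⁻¹ * y⁻¹ ∈ X := (mem_normalizer_iff.1 hyX _).1 (X.inv_mem hcX)
      have h2 : c * y * c⁻¹ * y⁻¹ = c * (y * c⁻¹ * y⁻¹) := by group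
      rw [h2]
      exact mul_mem hcX h1
    · exact mul_mem (ClsOne.fixes_conj hcN hyN) (inv_mem hyN)
    · rw [M.mul _ _ (mul_mem (mul_mem hcX' hyX) (inv_mem hcX')) (inv_mem hyX), M.conj hcX' hyX, M.inv hyX, hcr]
  obtain ⟨u₁, hu1, hu1N, hu1φ⟩ := hcomm haa a1 ha hb haX hbX (r := swap 0 1 * swap 4 5)
    (by rw [alt_univ, mem_alternatingGroup]; decide) (by rw [hg1]; decide)
  obtain ⟨w₁, hw1, hw1N, hw1φ⟩ := hcomm hbb b1 hb ha hbX haX (r := swap 0 2 * swap 4 5)
    (by rw [alt_univ, mem_alternatingGroup]; decide) (by rw [hg2]; decide)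
  rw [hg2] at hu1φ
  rw [hg1] at hw1φ
  replace hu1φ : M.φ u₁ = swap 0 1 * swap 2 3 := hu1φ.trans (by decide)
  replace hw1φ : M.φ w₁ = swap 0 2 * swap 1 3 := hw1φ.trans (by decide)
  obtain ⟨u, huX, w, hwX, huN, hwN, uu, ww, uw, huφ, hwφ⟩ := exists_four_root M hu1 hu1N hw1 hw1N
    (by rw [hu1φ]; decide) (by rw [hw1φ]; decide) (by rw [hu1φ, hw1φ]; decide)
  rw [hu1φ] at huφ
  rw [hw1φ] at hwφ
  have u1 : u ≠ 1 := by
    rintro rfl
    rw [M.one] at huφ
    exact absurd huφ (by decide)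
  have w1 : w ≠ 1 := by
    rintro rfl
    rw [M.one] at hwφ
    exact absurd hwφ (by decide)
  have huw : u ≠ w := by
    rintro rfl
    rw [huφ] at hwφ
    exact absurd hwφ (by decide)
  -- (iii) a Sylow 2-subgroup of `N(X)`
  have hU2 : IsPGroup 2 ↥(closure {u, w}) := TT.isPGroup_closure (by
      rintro t (rfl | rfl)
      · exact uu
      · exact ww) (by
      rintro t (rfl | rfl) t' (rfl | rfl)
      · rfl
      · exact uw
      · exact uw.symm
      · rfl)
  have hUX : closure {u, w} ≤ normalizer (X : Set G) := by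
    rw [closure_le]
    rintro t (rfl | rfl)
    · exact le_normalizer huX
    · exact le_normalizer hwX
  obtain ⟨S, hS, hUS⟩ := exists_isSyl hU2 hUX
  have huS : u ∈ S := hUS (subset_closure (by simp))
  have hwS : w ∈ S := hUS (subset_closure (by simp))
  obtain ⟨M', -, -, F⟩ := exists_frE M le_normalizer le_rfl hS
  have hT := F.twoP
  obtain ⟨Q, hQ⟩ : ∃ Q, Q = S ⊓ KN X := ⟨_, rfl⟩
  have hQfix : ∀ q, q ∈ Q ↔ q ∈ fix S X := by
    intro q
    rw [hQ, mem_fix]
    rfl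
  have hQQs : Q ≤ Qs S X M' F.TN := fun q hq => F.fix_le_Qs ((hQfix q).1 hq)
  have hQsyl : IsSyl (KN X) Q := by
    rw [hQ]
    refine hS.inf (KN_le X) ?_
    intro x hx
    rw [mem_normalizer_iff_cj] at hx ⊢
    rw [cj_KN, hx]
  have huP : u ∈ S ⊓ X := ⟨huS, huX⟩
  have hwP : w ∈ S ⊓ X := ⟨hwS, hwX⟩
  have hQN : Q ≤ normalizer (N : Set G) := fun q hq =>
    U.t1 u uu u1 huN q (hT.comm u huP q (hQQs hq)).symm
  have hQ4 : Nat.card ↥Q = 4 := by
    rcases U'.four_or U ⟨g⁻¹, hNX⟩ hne.symm hQsyl.two hQsyl.le hQN (U'.four_syl hQsyl) with h | h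
    · exact absurd h hn2
    · exact h.1
  -- (iv) `Qs` is not abelian
  have hnab : ∃ p ∈ Qs S X M' F.TN, ∃ q ∈ Qs S X M' F.TN, p * q ≠ q * p := by
    by_contra hcon
    push Not at hcon
    obtain ⟨e⟩ := F.equivP
    obtain ⟨z, hzP, z1, zz, hzc, hz, hcen⟩ := four_dihedral e huP hwP uu ww uw u1 w1 huw
    have hzN : z ∈ KN N := by
      rcases hz with h | h | h <;> rw [h]
      · exact huN
      · exact hwN
      · exact mul_mem huN hwN
    have hSN : S ≤ normalizer (N : Set G) := by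
      intro s hs
      obtain ⟨p, hp, q, hq, rfl⟩ := hT.sup s hs
      refine U.t1 z zz z1 hzN _ ?_
      rw [mul_assoc, ← hT.comm z hzP q hq, ← mul_assoc, ← hzc p hp, mul_assoc]
    have hS1 : IsSyl (normalizer (N : Set G)) (cj g⁻¹ S) := by
      have h1 := Q2.Om.isSyl_cj hS g⁻¹
      rwa [cj_normalizer', ← hNX] at h1
    obtain ⟨h, hh, hle⟩ := hS1.conj hS.two hSN
    have hS2 : S = cj h (cj g⁻¹ S) := Subgroup.eq_of_le_of_card_ge hle (by rw [card_cj, card_cj])
    have hX2 : cj (h * g⁻¹) X = N := by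
      rw [cj_mul, ← hNX]
      exact mem_normalizer_iff_cj.mp hh
    rw [← cj_mul] at hS2
    have hQ2 : cj (h * g⁻¹) Q = S ⊓ KN N := by
      rw [hQ, cj_inf, ← hS2, cj_KN, hX2]
    -- `Q` is central in `S`
    have hQc : ∀ q ∈ Q, ∀ s ∈ S, q * s = s * q := by
      intro q hq s hs
      obtain ⟨p, hp, r, hr, rfl⟩ := hT.sup s hs
      rw [← mul_assoc, ← hT.comm p hp q (hQQs hq), mul_assoc, hcon q (hQQs hq) r hr, ← mul_assoc]
    have hQc2 : ∀ q ∈ S ⊓ KN N, ∀ s ∈ S, q * s = s * q := by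
      intro q hq s hs
      rw [← hQ2, mem_cj] at hq
      rw [hS2, mem_cj] at hs
      have h1 := hQc _ hq _ hs
      obtain ⟨k, hk⟩ : ∃ k, k = h * g⁻¹ := ⟨_, rfl⟩
      rw [← hk] at h1
      calc q * s = k * (k⁻¹ * q * k * (k⁻¹ * s * k)) * k⁻¹ := by group
        _ = k * (k⁻¹ * s * k * (k⁻¹ * q * k)) * k⁻¹ := by rw [h1]
        _ = s * q := by group
    exact hcen (fun p hp => hQc2 u ⟨huS, huN⟩ p hp.1) (fun p hp => hQc2 w ⟨hwS, hwN⟩ p hp.1)
  -- (v) `|Qs| = 8`
  have hw0 : w0 * w0 = 1 := by decide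
  have hcard8 : Nat.card ↥(Qs S X M' F.TN) ∣ 8 := by
    obtain ⟨f, hf⟩ : ∃ f : ↥(Qs S X M' F.TN) →* Perm (Fin 7),
        f = M'.hom.comp (Subgroup.inclusion (fun q (hq : q ∈ Qs S X M' F.TN) => F.TN (mem_Qs.1 hq).1)) := ⟨_, rfl⟩
    have hf' : ∀ q : ↥(Qs S X M' F.TN), f q = M'.φ q := by
      intro q; rw [hf]; rfl
    have h1 : Nat.card ↥f.ker = 4 := by
      have h2 : f.ker = Q.subgroupOf (Qs S X M' F.TN) := by
        ext q
        rw [MonoidHom.mem_ker, hf', mem_subgroupOf, hQfix, F.fix_iff q.2.1]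
      rw [h2, Nat.card_congr (subgroupOfEquivOfLe hQQs).toEquiv, hQ4]
    have h3 : Nat.card ↥f.range ∣ 2 := by
      have h4 : f.range ≤ zpowers w0 := by
        rintro _ ⟨q, rfl⟩
        rw [hf']
        rcases (mem_Qs.1 q.2).2 with h | h <;> rw [h]
        · exact one_mem _
        · exact mem_zpowers _
      refine (card_dvd_of_le h4).trans ?_
      rw [Nat.card_zpowers]
      exact orderOf_dvd_of_pow_eq_one (by rw [pow_two, hw0])
    have h5 : Nat.card ↥f.ker * f.ker.index = Nat.card ↥(Qs S X M' F.TN) := Subgroup.card_mul_index _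
    rw [Subgroup.index_ker] at h5
    rw [← h5, h1]
    exact mul_dvd_mul_left 4 h3
  have h8 : Nat.card ↥(Qs S X M' F.TN) = 8 := by
    have h4 : 4 ∣ Nat.card ↥(Qs S X M' F.TN) := by
      rw [← hQ4]
      exact card_dvd_of_le hQQs
    obtain ⟨m, hm⟩ := h4
    rw [hm] at hcard8
    have hm2 : m ∣ 2 := by
      have h5 : 4 * m ∣ 4 * 2 := hcard8
      exact (Nat.mul_dvd_mul_iff_left (by norm_num)).mp h5
    rcases (Nat.dvd_prime Nat.prime_two).mp hm2 with h5 | h5
    · exfalso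
      rw [h5] at hm
      have : Fact (Nat.Prime 2) := ⟨Nat.prime_two⟩
      have h6 := IsPGroup.isMulCommutative_of_card_eq_prime_sq (p := 2) (G := ↥(Qs S X M' F.TN)) (by rw [hm]; norm_num)
      obtain ⟨p, hp, q, hq, hpq⟩ := hnab
      exact hpq (congrArg Subtype.val (h6.is_comm.comm ⟨p, hp⟩ ⟨q, hq⟩))
    · rw [hm, h5]
  obtain ⟨c, hc⟩ := exists_eightS h8 hnab
  obtain ⟨z, hz⟩ := F.exists_z
  have hcX : Fixes c X := by
    obtain ⟨p, hp, q, hq, hpq⟩ := hnab
    have hpN := F.TN hp.1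
    have hqN := F.TN hq.1
    have h1 : p * q * p⁻¹ * q⁻¹ = c := by
      rcases hc.com p hp q hq with h | h
      · exfalso
        apply hpq
        calc p * q = (p * q * p⁻¹ * q⁻¹) * (q * p) := by group
          _ = q * p := by rw [h, one_mul]
      · exact h
    have h2 : M'.φ p * M'.φ q = M'.φ q * M'.φ p := by
      rcases (mem_Qs.1 hp).2 with h | h <;> rcases (mem_Qs.1 hq).2 with h' | h' <;> rw [h, h']
      · rw [one_mul, mul_one]
      · rw [one_mul, mul_one]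
    have hcN : c ∈ normalizer (X : Set G) := F.TN hc.mem.1
    rw [← M'.fixes_iff hcN, ← h1, M'.mul _ _ (mul_mem (mul_mem hpN hqN) (inv_mem hpN)) (inv_mem hqN),
      M'.conj hpN hqN, M'.inv hqN, h2, mul_inv_cancel_right, mul_inv_cancel]
  have hSc : S ≤ centralizer ({c} : Set G) := by
    intro s hs
    rw [mem_centralizer_singleton_iff]
    obtain ⟨p, hp, q, hq, rfl⟩ := hT.sup s hs
    rw [mul_assoc, ← hc.cen q hq, ← mul_assoc, hT.comm p hp c hc.mem, mul_assoc]
  have hcsyl : IsSyl (centralizer ({c} : Set G)) S := by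
    refine ⟨hS.two, hSc, fun R hR1 hR2 hR3 => hS.max R hR1 (hR2.trans ?_) hR3⟩
    intro x hx
    rw [mem_centralizer_singleton_iff] at hx
    exact U'.t1 c hc.sq hc.ne hcX x hx
  exact rank_of_eight hz hc hT hcsyl

end Cfsg.Agent.UGT.A7.M1
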