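import Cfsg.Agent.UGT.A7.M1.OneC

/-!
# THEOREM M1 (bb #14042), one member: the end

`rank_of_one`: the class of `N₀`, `N₀ / O(N₀) ≅ A₇`, has one member only: sectional 2-rank at most 4.
-/

set_option autoImplicit false

open Cfsg Subgroup Equiv Equiv.Perm
open Cfsg.Agent.UAlt
open Cfsg.Agent.SignalizersComponents Cfsg.Agent.Lib
open Cfsg.Agent.SignalizersComponents.IntrinsicBasic
open Cfsg.Agent.SignalizersComponents.IntrinsicIntr
open Cfsg.Agent.SignalizersComponents.PLayerAut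
open Cfsg.Agent.Intrinsic Cfsg.Agent.Intrinsic.Basic Cfsg.Agent.Intrinsic.Cen Cfsg.Agent.Intrinsic.Diag
open Cfsg.Agent.McLLyComp.Act
open Cfsg.Agent.UGT.TriBase
open Cfsg.Agent.UGT.L2i Cfsg.Agent.UGT.L2i.ClsCov Cfsg.Agent.UGT.L2i.ClsRel
open scoped commutatorElement

universe u

namespace Cfsg.Agent.UGT.A7.SL1

/-- Construction of `Base` from the isomorphism type of `L / W`. -/
theorem Base.ofQuot {G : Type u} [Group G] [Finite G] {M L K W : Subgroup G} (hn : (W.subgroupOf L).Normal)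
    (hs : IsSimpleGroup (L ⧸ W.subgroupOf L)) (hna : ¬ ∀ x y : L ⧸ W.subgroupOf L, x * y = y * x)
    (hev : 2 ∣ Nat.card (L ⧸ W.subgroupOf L))
    (LM : L ≤ M) (KM : K ≤ M) (WL : W ≤ L) (WK : W ≤ K) (oddW : Odd (Nat.card W))
    (nW : ∀ m ∈ M, ∀ w ∈ W, m * w * m⁻¹ ∈ W) (nL : ∀ m ∈ M, ∀ x ∈ L, m * x * m⁻¹ ∈ L)
    (nK : ∀ m ∈ M, ∀ x ∈ K, m * x * m⁻¹ ∈ K) (comm : ∀ x ∈ L, ∀ k ∈ K, x * k * x⁻¹ * k⁻¹ ∈ W)
    (full : ∀ m ∈ M, (∀ x ∈ L, m * x * m⁻¹ * x⁻¹ ∈ W) → m ∈ K)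
    (t1 : ∀ y ∈ K, y * y = 1 → y ≠ 1 → ∀ c : G, c * y = y * c → c ∈ M)
    (t2 : ∀ g : G, g ∉ M → ∀ y ∈ K, y * y = 1 → y ≠ 1 → g * y * g⁻¹ ∉ K)
    (t3 : ∀ g : G, g ∉ M → ∃ x ∈ L, ∀ k ∈ K, g * k * g⁻¹ ∈ M → (g * k * g⁻¹)⁻¹ * x ∉ W)
    (t4 : ∃ a ∈ K, ∃ b ∈ K, a * a = 1 ∧ b * b = 1 ∧ a * b = b * a ∧ a ≠ 1 ∧ b ≠ 1 ∧ a ≠ b) :
    Base M L K W where
  LM := LM
  KM := KM
  WL := WL
  WK := WK
  oddW := oddW
  evenL := by
    intro h
    have h1 : Nat.card (L ⧸ W.subgroupOf L) ∣ Nat.card L := card_quotient_dvd_card _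
    exact (Nat.not_even_iff_odd.mpr h) (even_iff_two_dvd.mpr (hev.trans h1))
  nW := nW
  nL := nL
  nK := nK
  comm := comm
  full := full
  simple := SL.simple_of_quot hn hs
  nab := by
    intro h
    apply hna
    intro x y
    obtain ⟨a, rfl⟩ := QuotientGroup.mk_surjective x
    obtain ⟨b, rfl⟩ := QuotientGroup.mk_surjective y
    rw [← QuotientGroup.mk_mul, ← QuotientGroup.mk_mul, eq_comm, QuotientGroup.eq, mem_subgroupOf]
    have h4 := h a⁻¹ (L.inv_mem a.2) b⁻¹ (L.inv_mem b.2)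
    simpa [mul_assoc] using h4
  t1 := t1
  t2 := t2
  t3 := t3
  t4 := t4

end Cfsg.Agent.UGT.A7.SL1

namespace Cfsg.Agent.UGT.A7.M1

variable {G : Type u} [Group G] [Finite G] {𝒩 : Set (Subgroup G)}

/-- `Uno` for a class with one member -/
theorem Uno.of_sys (S : Sys 𝒩) {N0 : Subgroup G} (h0 : N0 ∈ 𝒩) (hone : ∀ N ∈ 𝒩, ClsRel.Rel N N0 → N = N0)
    (four : ∃ a b : G, Fixes a N0 ∧ Fixes b N0 ∧ a * a = 1 ∧ b * b = 1 ∧ a * b = b * a ∧ a ≠ 1 ∧ b ≠ 1 ∧ a ≠ b)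
    (lab : Nonempty (Lab N0)) : Uno N0 where
  comp := S.comp _ h0
  t1 := fun y hyy hy1 hy x hx =>
    (ClsOne.mem_H_one S h0 hone).mp (S.t1 h0 (S.self_mem_cls h0) (ClsRel.order_of_sq hyy hy1) hy hx)
  t2 := fun y g hyy hy1 hy hyg =>
    hone _ (S.conj _ h0 g) (S.rel_of_fixes (S.conj _ h0 g) h0 (ClsRel.order_of_sq hyy hy1) hyg hy)
  perp := fun g h1 h2 => hone _ (S.conj _ h0 g) (Or.inr ⟨h2, h1⟩)
  four := four
  lab := lab

/-- **(T3)** for a class with one member -/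
theorem t3_one (S : Sys 𝒩) {N0 : Subgroup G} (h0 : N0 ∈ 𝒩) (hone : ∀ N ∈ 𝒩, ClsRel.Rel N N0 → N = N0)
    (U : Uno N0) {g : G} (hcov : ∀ x ∈ N0, ∃ k, Fixes k N0 ∧ (g * k * g⁻¹)⁻¹ * x ∈ core (S.H h0)) : g ∈ S.H h0 := by
  have hc := S.comp _ h0
  have hcH := S.isComp_H h0 (S.self_mem_cls h0)
  have hAcov : N0 ⊓ KN (cj g N0) ⊔ core N0 = N0 := by
    refine le_antisymm (sup_le inf_le_left (core_le N0)) ?_
    refine hc.le_of_two fun x hx n hn => ?_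
    obtain ⟨k, hk, hkx⟩ := hcov x hx
    obtain ⟨j, hj⟩ : ∃ j, j = g * k * g⁻¹ := ⟨_, rfl⟩
    rw [← hj] at hkx
    have hjK : Fixes j (cj g N0) := by rw [hj]; exact hk.cj g
    have hH : x ∈ S.H h0 := hcH.le hx
    have hjH : j ∈ S.H h0 := by
      have h2 : j = x * (j⁻¹ * x)⁻¹ := by group
      rw [h2]
      exact mul_mem hH (inv_mem (core_le _ hkx))
    have h2 : j ^ 2 ^ n ∈ core (S.H h0) := by
      have h3 : (⟨j, hjH⟩ : ↥(S.H h0)) ^ 2 ^ n ∈ oddCore ↥(S.H h0) := by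
        have h4 : ((⟨j, hjH⟩ : ↥(S.H h0)) : ↥(S.H h0) ⧸ oddCore ↥(S.H h0)) = ((⟨x, hH⟩ : ↥(S.H h0)) : _) :=
          QuotientGroup.eq.mpr ((mem_core_iff _).mp hkx)
        rw [← QuotientGroup.eq_one_iff, QuotientGroup.mk_pow, h4, ← QuotientGroup.mk_pow]
        have h5 : (⟨x, hH⟩ : ↥(S.H h0)) ^ 2 ^ n = 1 := Subtype.ext (by simpa using hn)
        rw [h5, QuotientGroup.mk_one]
      exact (mem_core_iff (pow_mem hjH _)).mpr h3
    obtain ⟨m, hm1, hm2⟩ := Cfsg.Agent.Intrinsic.Lifting.exists_two_part (odd_card_core (S.H h0)) h2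
    have h3 : x⁻¹ * j ^ m ∈ core (S.H h0) := by
      have h4 : x⁻¹ * j ^ m = (j⁻¹ * x)⁻¹ * (j⁻¹ * j ^ m) := by group
      rw [h4]
      exact mul_mem (inv_mem hkx) hm2
    have h4 : j ^ m ∈ N0 := hcH.mem_of_two hx h3 hm1
    have h5 : (j ^ m)⁻¹ * x ∈ core N0 := by
      rw [hcH.core_eq]
      refine ⟨N0.mul_mem (N0.inv_mem h4) hx, ?_⟩
      have h6 : (j ^ m)⁻¹ * x = (x⁻¹ * j ^ m)⁻¹ := by group
      rw [h6]
      exact Subgroup.inv_mem _ h3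
    have h6 : x = j ^ m * ((j ^ m)⁻¹ * x) := by group
    rw [h6]
    have hjK' : j ^ m ∈ KN (cj g N0) := pow_mem (mem_KN.mpr hjK) m
    exact mul_mem (mem_sup_left ⟨h4, hjK'⟩) (mem_sup_right h5)
  rw [ClsOne.mem_H_one S h0 hone, mem_normalizer_iff_cj]
  exact U.eq_of_cover g hAcov

/-- `SL1.Base` for a class with one member -/
theorem base_one (S : Sys 𝒩) {N0 : Subgroup G} (h0 : N0 ∈ 𝒩) (hone : ∀ N ∈ 𝒩, ClsRel.Rel N N0 → N = N0)
    (hs : IsSimpleGroup (↥N0 ⧸ oddCore ↥N0)) (hnab : ¬ ∀ x y : ↥N0 ⧸ oddCore ↥N0, x * y = y * x)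
    (U : Uno N0) : SL1.Base (S.H h0) (N0 ⊔ core (S.H h0)) (KN N0) (core (S.H h0)) := by
  have hc := S.isComp_H h0 (S.self_mem_cls h0)
  have hself := S.self_mem_cls h0
  have hKH : KN N0 ≤ S.H h0 := (KN_le N0).trans (S.normalizer_le_H h0 hself)
  have hHn : ∀ m ∈ S.H h0, m ∈ normalizer (N0 : Set G) := fun m hm => (ClsOne.mem_H_one S h0 hone).mp hm
  obtain ⟨hn, ⟨e⟩⟩ := ClsOne.exists_equiv hc
  have hfix : ∀ {y : G}, Fixes y N0 → ∀ x ∈ N0 ⊔ core (S.H h0), y * x * y⁻¹ * x⁻¹ ∈ core (S.H h0) :=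
    fun {y} hy => ((S.fixes_iff h0 hself).mpr hy).2
  refine SL1.Base.ofQuot hn e.symm.isSimpleGroup ?_ ?_ (sup_le hc.le (core_le _)) hKH le_sup_right ?_
    (odd_card_core _) ?_ ?_ ?_ ?_ ?_ ?_ ?_ ?_ ?_
  · intro hcomm
    apply hnab
    intro x y
    apply e.injective
    rw [_root_.map_mul, _root_.map_mul]
    exact hcomm _ _
  · rw [← Nat.card_congr e.toEquiv]
    have h1 := (S.comp _ h0).not_odd (N := core N0) (odd_card_core N0)
    by_contra h2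
    apply h1
    -- an odd quotient: `N0` is generated by 2-elements
    refine (S.comp _ h0).le_of_two fun k hk n hkn => ?_
    rw [mem_core_iff hk, ← QuotientGroup.eq_one_iff]
    have h3 : (((⟨k, hk⟩ : ↥N0) : ↥N0 ⧸ oddCore ↥N0)) ^ 2 ^ n = 1 := by
      rw [← QuotientGroup.mk_pow]
      have h4 : (⟨k, hk⟩ : ↥N0) ^ 2 ^ n = 1 := Subtype.ext (by simpa using hkn)
      rw [h4, QuotientGroup.mk_one]
    have h4 := orderOf_dvd_of_pow_eq_one h3
    have h5 := orderOf_dvd_natCard (((⟨k, hk⟩ : ↥N0) : ↥N0 ⧸ oddCore ↥N0))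
    obtain ⟨m, -, hm⟩ := (Nat.dvd_prime_pow Nat.prime_two).mp h4
    rw [← orderOf_eq_one_iff, hm]
    rcases Nat.eq_zero_or_pos m with hm0 | hm0
    · rw [hm0, pow_zero]
    · exfalso
      apply h2
      rw [hm] at h5
      exact (dvd_pow_self 2 (by omega)).trans h5
  · intro w hw
    exact hc.fixes_of_core hw
  · intro m hm w hw
    exact conj_mem_core (le_normalizer hm) hw
  · intro m hm x hx
    have h1 : cj m (N0 ⊔ core (S.H h0)) = N0 ⊔ core (S.H h0) := by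
      have h2 : m ∈ normalizer (core (S.H h0) : Set G) := le_normalizer_core _ hm
      rw [cj_def, Subgroup.map_sup, ← cj_def, ← cj_def, mem_normalizer_iff_cj.mp (hHn m hm),
        mem_normalizer_iff_cj.mp h2]
    have h2 := conj_mem_cj (g := m) hx
    rwa [h1] at h2
  · intro m hm x hx
    exact ClsOne.fixes_conj (hHn m hm) hx
  · intro x hx k hk
    have h1 := inv_mem (hfix (y := k) hk x hx)
    have h2 : (k * x * k⁻¹ * x⁻¹)⁻¹ = x * k * x⁻¹ * k⁻¹ := by group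
    rwa [h2] at h1
  · intro m hm hx
    exact (S.fixes_iff h0 hself).mp ⟨hm, hx⟩
  · intro y hy hyy hy1 c hcy
    exact S.t1 h0 hself (ClsRel.order_of_sq hyy hy1) hy hcy
  · intro g hg y hy hyy hy1 hcon
    apply hg
    have h1 : Fixes (g * y * g⁻¹) (cj g N0) := hy.cj g
    have h2 : orderOf (g * y * g⁻¹) = 2 := by rw [orderOf_conj]; exact ClsRel.order_of_sq hyy hy1
    exact S.t2 h0 hself hself h2 hcon h1
  · intro g hg
    by_contra hcon
    push Not at hcon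
    apply hg
    refine t3_one S h0 hone U fun x hx => ?_
    obtain ⟨k, hk, -, hkx⟩ := hcon x (mem_sup_left hx)
    exact ⟨k, hk, hkx⟩
  · obtain ⟨a, b, ha, hb, h1⟩ := U.four
    exact ⟨a, ha, b, hb, h1⟩

/-- **The class of `N₀` has one member.** -/
theorem rank_of_one (h1173 : SL.P1173.{u}) (hO : oddCore G = ⊥) {X : Subgroup G} (hX : X.Normal)
    (hXs : IsSimpleGroup X) (hXc : centralizer (X : Set G) = ⊥) {N0 : Subgroup G} (h : Cls0 N0)
    (lab : Nonempty (Lab N0)) (hone : ∀ N ∈ Cj N0, ClsRel.Rel N N0 → N = N0) : SectionalPRankLE 2 4 G := by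
  have S := h.sys
  have h0 := self_mem_Cj N0
  have U : Uno N0 := Uno.of_sys S h0 hone h.four lab
  by_cases h1 : SL1.One (S.H h0) (KN N0)
  · exact absurd ((base_one S h0 hone h.simple h.nab U).false_of_normal_simple h1 h1173 hO hX hXs hXc) not_false
  · rw [SL1.One] at h1
    push Not at h1
    obtain ⟨g, hg, a, ha, b, hb, hga, hgb, haa, hbb, hab, a1, b1, hne, -⟩ := h1
    rw [ClsOne.mem_H_one S h0 hone] at hg hga hgb
    have key : ∀ {x : G}, g⁻¹ * x * g ∈ normalizer (N0 : Set G) → x ∈ normalizer (cj g N0 : Set G) := by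
      intro x hx
      rw [mem_normalizer_iff_cj] at hx ⊢
      have h2 := congrArg (cj g) hx
      rw [← cj_mul, show g * (g⁻¹ * x * g) = x * g by group, cj_mul] at h2
      exact h2
    exact U.rank_of_four g (fun h => hg (mem_normalizer_iff_cj.mpr h)) ha hb haa hbb hab a1 b1 hne (key hga) (key hgb)

end Cfsg.Agent.UGT.A7.M1
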