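import Cfsg.Agent.UGT.L2Inner.Bad7
import Cfsg.Agent.UGT.A7.DiagBase
import Cfsg.Agent.UGT.A7.WZero

/-!
# Permutations of seven points for THEOREM M1

* `fix_card`, `exists_conj_b1`: even involutions are conjugate to `b1 = (01)(23)`.
* `root_same`: involutions with fixed points `{4,5,6}` are `b1`, `b2`, `b3`.
* `comm_V`, `TL_conj`: elements commuting with `V₄ = {1, b1, b2, b3}`.
* `no_eight`: no abelian subgroup of order eight in `A₇`.
-/

set_option autoImplicit false
set_option linter.unusedSectionVars false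

open Subgroup Equiv Equiv.Perm
open Cfsg.Agent.UAlt
open Cfsg.Agent.UGT.L2Inner (P7 b1 b2 b3 ta IsV)

namespace Cfsg.Agent.UGT.A7.M1

theorem b_facts : b1 * b1 = 1 ∧ b2 * b2 = 1 ∧ b3 * b3 = 1 ∧ b1 * b2 = b3 ∧ b2 * b1 = b3 ∧
    b1 * b3 = b2 ∧ b3 * b1 = b2 ∧ b2 * b3 = b1 ∧ b3 * b2 = b1 ∧
    b1 ≠ 1 ∧ b2 ≠ 1 ∧ b3 ≠ 1 ∧ b1 ≠ b2 ∧ b1 ≠ b3 ∧ b2 ≠ b3 ∧ ta * ta = 1 ∧ ta ≠ 1 := by decide

theorem b1_fix : fixIn (Finset.univ : Finset (Fin 7)) b1 = {4, 5, 6} := by decide

theorem b2_fix : fixIn (Finset.univ : Finset (Fin 7)) b2 = {4, 5, 6} := by decide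

theorem b3_fix : fixIn (Finset.univ : Finset (Fin 7)) b3 = {4, 5, 6} := by decide

theorem ta_fix : fixIn (Finset.univ : Finset (Fin 7)) ta = {0, 1, 2, 3, 6} := by decide

/-- transpositions on `{4,5,6}` -/
def TL : List P7 := [swap 4 5, swap 4 6, swap 5 6]

theorem TL_cases {t : P7} (h : t ∈ TL) : t = swap 4 5 ∨ t = swap 4 6 ∨ t = swap 5 6 := by
  simpa [TL] using h

theorem TL_facts {t : P7} (h : t ∈ TL) :
    t * t = 1 ∧ t ≠ 1 ∧ ∀ x : Fin 7, x ∉ ({4, 5, 6} : Finset (Fin 7)) → t x = x := by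
  rcases TL_cases h with rfl | rfl | rfl
  · decide
  · decide
  · decide

theorem TL_comm {t t' : P7} (h : t ∈ TL) (h' : t' ∈ TL) (hc : t * t' = t' * t) : t = t' := by
  rcases TL_cases h with rfl | rfl | rfl <;> rcases TL_cases h' with rfl | rfl | rfl
  · rfl
  · exact absurd hc (by decide)
  · exact absurd hc (by decide)
  · exact absurd hc (by decide)
  · rfl
  · exact absurd hc (by decide)
  · exact absurd hc (by decide)
  · exact absurd hc (by decide)
  · rfl

theorem TL_conj {t : P7} (h : t ∈ TL) : ∃ s : P7, (s = 1 ∨ s ∈ TL) ∧ s * t * s⁻¹ = ta := by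
  rcases TL_cases h with rfl | rfl | rfl
  · exact ⟨1, Or.inl rfl, by decide⟩
  · exact ⟨swap 5 6, Or.inr (by simp [TL]), by decide⟩
  · exact ⟨swap 4 6, Or.inr (by simp [TL]), by decide⟩

theorem V_mul {σ τ : P7} (h : IsV σ) (h' : IsV τ) : IsV (σ * τ) := by
  obtain ⟨h11, h22, h33, h12, h21, h13, h31, h23, h32, -⟩ := b_facts
  rcases h with rfl | rfl | rfl | rfl <;> rcases h' with rfl | rfl | rfl | rfl
  all_goals simp only [one_mul, mul_one, h11, h22, h33, h12, h21, h13, h31, h23, h32]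
  all_goals simp [IsV]

theorem V_sq {σ : P7} (h : IsV σ) : σ * σ = 1 := by
  obtain ⟨h11, h22, h33, -⟩ := b_facts
  rcases h with rfl | rfl | rfl | rfl
  · rw [one_mul]
  · exact h11
  · exact h22
  · exact h33

theorem V_inv {σ : P7} (h : IsV σ) : σ⁻¹ = σ := inv_eq_of_mul_eq_one_left (V_sq h)

theorem V_comm {σ τ : P7} (h : IsV σ) (h' : IsV τ) : σ * τ = τ * σ := by
  calc σ * τ = (τ * τ) * (σ * τ) * (σ * σ) := by rw [V_sq h, V_sq h', one_mul, mul_one]
    _ = τ * ((τ * σ) * (τ * σ)) * σ := by group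
    _ = τ * σ := by rw [V_sq (V_mul h' h), mul_one]

theorem V_fix {σ : P7} (h : IsV σ) (h1 : σ ≠ 1) : fixIn (Finset.univ : Finset (Fin 7)) σ = {4, 5, 6} := by
  rcases h with rfl | rfl | rfl | rfl
  · exact absurd rfl h1
  · exact b1_fix
  · exact b2_fix
  · exact b3_fix

/-- what fixes `0, 1, 2, 3` commutes with `V₄` -/
theorem V_comm_fix {σ τ : P7} (h : IsV σ) (h' : ∀ x : Fin 7, x ∉ ({4, 5, 6} : Finset (Fin 7)) → τ x = x) :
    σ * τ = τ * σ := by
  by_cases h1 : σ = 1
  · rw [h1, one_mul, mul_one]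
  · refine (comm_of_mem_sym_fixIn (S := Finset.univ) (σ := σ) (g := τ) ?_).symm
    intro x hx
    rw [V_fix h h1] at hx
    exact h' x hx

theorem cases7 : ∀ x : Fin 7, x = 0 ∨ x = 1 ∨ x = 2 ∨ x = 3 ∨ x = 4 ∨ x = 5 ∨ x = 6 := by decide

theorem ext7 {σ τ : P7} (h0 : σ 0 = τ 0) (h1 : σ 1 = τ 1) (h2 : σ 2 = τ 2) (h3 : σ 3 = τ 3) (h4 : σ 4 = τ 4)
    (h5 : σ 5 = τ 5) (h6 : σ 6 = τ 6) : σ = τ := by
  ext x
  rcases cases7 x with rfl | rfl | rfl | rfl | rfl | rfl | rfl
  exacts [congrArg Fin.val h0, congrArg Fin.val h1, congrArg Fin.val h2, congrArg Fin.val h3, congrArg Fin.val h4,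
    congrArg Fin.val h5, congrArg Fin.val h6]

/-- a permutation commuting with `V₄` is the product of an element of `V₄` and a permutation of `{4,5,6}` -/
theorem exists_V_mul {σ : P7} (h1 : σ * b1 = b1 * σ) (h2 : σ * b2 = b2 * σ) :
    ∃ v, IsV v ∧ ∀ x : Fin 7, x ∉ ({4, 5, 6} : Finset (Fin 7)) → (v * σ) x = x := by
  have e1 : ∀ x, σ (b1 x) = b1 (σ x) := fun x => congrArg (fun z : P7 => z x) h1
  have e2 : ∀ x, σ (b2 x) = b2 (σ x) := fun x => congrArg (fun z : P7 => z x) h2
  have key : ∀ v, IsV v → v (σ 0) = 0 → ∀ x : Fin 7, x ∉ ({4, 5, 6} : Finset (Fin 7)) → (v * σ) x = x := by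
    intro v hv h0 x hx
    have c1 : v * b1 = b1 * v := V_comm hv (Or.inr (Or.inl rfl))
    have c2 : v * b2 = b2 * v := V_comm hv (Or.inr (Or.inr (Or.inl rfl)))
    have k1 : ∀ y, v (b1 y) = b1 (v y) := fun y => congrArg (fun z : P7 => z y) c1
    have k2 : ∀ y, v (b2 y) = b2 (v y) := fun y => congrArg (fun z : P7 => z y) c2
    change v (σ x) = x
    rcases cases7 x with rfl | rfl | rfl | rfl | rfl | rfl | rfl
    · exact h0
    · have a1 : (1 : Fin 7) = b1 0 := by decide
      rw [a1, e1, k1, h0]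
    · have a1 : (2 : Fin 7) = b2 0 := by decide
      rw [a1, e2, k2, h0]
    · have a1 : (3 : Fin 7) = b1 (b2 0) := by decide
      rw [a1, e1, e2, k1, k2, h0]
    · exact absurd (by decide) hx
    · exact absurd (by decide) hx
    · exact absurd (by decide) hx
  have hne : b1 (σ 0) ≠ σ 0 := by
    rw [← e1]
    intro h
    exact absurd (σ.injective h) (by decide)
  rcases cases7 (σ 0) with k | k | k | k | k | k | k
  · exact ⟨1, Or.inl rfl, key 1 (Or.inl rfl) (by rw [k]; rfl)⟩
  · exact ⟨b1, Or.inr (Or.inl rfl), key b1 (Or.inr (Or.inl rfl)) (by rw [k]; decide)⟩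
  · exact ⟨b2, Or.inr (Or.inr (Or.inl rfl)), key b2 (Or.inr (Or.inr (Or.inl rfl))) (by rw [k]; decide)⟩
  · exact ⟨b3, Or.inr (Or.inr (Or.inr rfl)), key b3 (Or.inr (Or.inr (Or.inr rfl))) (by rw [k]; decide)⟩
  · exact absurd (by rw [k]; decide) hne
  · exact absurd (by rw [k]; decide) hne
  · exact absurd (by rw [k]; decide) hne

/-- involutions on `{4,5,6}` -/
theorem mem_TL {δ : P7} (h : ∀ x : Fin 7, x ∉ ({4, 5, 6} : Finset (Fin 7)) → δ x = x) (hδ : δ * δ = 1)
    (h1 : δ ≠ 1) : δ ∈ TL := by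
  have e0 : δ 0 = 0 := h 0 (by decide)
  have e1 : δ 1 = 1 := h 1 (by decide)
  have e2 : δ 2 = 2 := h 2 (by decide)
  have e3 : δ 3 = 3 := h 3 (by decide)
  have hs : ∀ x, δ (δ x) = x := fun x => congrArg (fun z : P7 => z x) hδ
  have hm : ∀ x, x = 4 ∨ x = 5 ∨ x = 6 → δ x = 4 ∨ δ x = 5 ∨ δ x = 6 := by
    intro x hx
    by_contra hcon
    have h2 : δ x ∉ ({4, 5, 6} : Finset (Fin 7)) := by
      simp only [Finset.mem_insert, Finset.mem_singleton]
      exact hcon
    have h3 := h _ h2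
    rw [hs] at h3
    rw [← h3] at h2
    rcases hx with rfl | rfl | rfl <;> exact h2 (by decide)
  have s45 : ∀ i j : Fin 7, (swap i j : P7) i = j := fun i j => swap_apply_left i j
  rcases hm 4 (Or.inl rfl) with k4 | k4 | k4
  · rcases hm 5 (Or.inr (Or.inl rfl)) with k5 | k5 | k5
    · exact absurd (δ.injective (k4.trans k5.symm)) (by decide)
    · exfalso
      apply h1
      have k6 : δ 6 = 6 := by
        rcases hm 6 (Or.inr (Or.inr rfl)) with k | k | k
        · exact absurd (δ.injective (k4.trans k.symm)) (by decide)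
        · exact absurd (δ.injective (k5.trans k.symm)) (by decide)
        · exact k
      exact ext7 e0 e1 e2 e3 k4 k5 k6
    · have k6 : δ 6 = 5 := by rw [← k5, hs]
      have : δ = swap 5 6 := ext7 (e0.trans (by decide)) (e1.trans (by decide)) (e2.trans (by decide))
        (e3.trans (by decide)) (k4.trans (by decide)) (k5.trans (by decide)) (k6.trans (by decide))
      rw [this]; simp [TL]
  · have k5 : δ 5 = 4 := by rw [← k4, hs]
    have k6 : δ 6 = 6 := by
      rcases hm 6 (Or.inr (Or.inr rfl)) with k | k | k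
      · exact absurd (δ.injective (k5.trans k.symm)) (by decide)
      · exact absurd (δ.injective (k4.trans k.symm)) (by decide)
      · exact k
    have : δ = swap 4 5 := ext7 (e0.trans (by decide)) (e1.trans (by decide)) (e2.trans (by decide))
      (e3.trans (by decide)) (k4.trans (by decide)) (k5.trans (by decide)) (k6.trans (by decide))
    rw [this]; simp [TL]
  · have k6 : δ 6 = 4 := by rw [← k4, hs]
    have k5 : δ 5 = 5 := by
      rcases hm 5 (Or.inr (Or.inl rfl)) with k | k | k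
      · exact absurd (δ.injective (k6.trans k.symm)) (by decide)
      · exact k
      · exact absurd (δ.injective (k4.trans k.symm)) (by decide)
    have : δ = swap 4 6 := ext7 (e0.trans (by decide)) (e1.trans (by decide)) (e2.trans (by decide))
      (e3.trans (by decide)) (k4.trans (by decide)) (k5.trans (by decide)) (k6.trans (by decide))
    rw [this]; simp [TL]

theorem TL_comm_V {t σ : P7} (ht : t = 1 ∨ t ∈ TL) (h : IsV σ) : σ * t = t * σ := by
  refine V_comm_fix h ?_
  rcases ht with rfl | ht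
  · intro x _
    rfl
  · exact (TL_facts ht).2.2

/-- involutions commuting with `V₄` -/
theorem inv_cases {σ : P7} (h1 : σ * b1 = b1 * σ) (h2 : σ * b2 = b2 * σ) (hσ : σ * σ = 1) :
    IsV σ ∨ ∃ t ∈ TL, IsV (σ * t) := by
  obtain ⟨v, hv, hf⟩ := exists_V_mul h1 h2
  have c1 : v * σ = σ * v := by
    rcases hv with rfl | rfl | rfl | rfl
    · rw [one_mul, mul_one]
    · exact h1.symm
    · exact h2.symm
    · have : b3 = b1 * b2 := b_facts.2.2.2.1.symm
      rw [this]
      calc b1 * b2 * σ = b1 * (b2 * σ) := by group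
        _ = (b1 * σ) * b2 := by rw [← h2]; group
        _ = σ * (b1 * b2) := by rw [← h1]; group
  by_cases hd : v * σ = 1
  · left
    have h3 : σ = v := by
      have h4 := eq_inv_of_mul_eq_one_right hd
      rw [h4, V_inv hv]
    rw [h3]; exact hv
  · right
    have h3 := mem_TL hf (by
      calc v * σ * (v * σ) = v * (σ * v) * σ := by group
        _ = v * (v * σ) * σ := by rw [c1]
        _ = (v * v) * (σ * σ) := by group
        _ = 1 := by rw [V_sq hv, hσ, one_mul]) hd
    refine ⟨_, h3, ?_⟩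
    have h4 : σ * (v * σ) = v := by
      calc σ * (v * σ) = (σ * v) * σ := by group
        _ = v * (σ * σ) := by rw [← c1]; group
        _ = v := by rw [hσ, mul_one]
    rw [h4]
    exact hv

/-- involutions with fixed points `4, 5, 6` -/
theorem root_same {τ : P7} (hτ : τ * τ = 1) (hf : fixIn (Finset.univ : Finset (Fin 7)) τ = {4, 5, 6}) :
    τ = b1 ∨ τ = b2 ∨ τ = b3 := by
  have hs : ∀ x, τ (τ x) = x := fun x => congrArg (fun z : P7 => z x) hτ
  have hfx : ∀ x, τ x = x ↔ x ∈ ({4, 5, 6} : Finset (Fin 7)) := fun x => by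
    rw [← hf, mem_fixIn]
    simp
  have e4 : τ 4 = 4 := (hfx 4).mpr (by decide)
  have e5 : τ 5 = 5 := (hfx 5).mpr (by decide)
  have e6 : τ 6 = 6 := (hfx 6).mpr (by decide)
  have n0 : τ 0 ≠ 0 := fun h => absurd ((hfx 0).mp h) (by decide)
  have n1 : τ 1 ≠ 1 := fun h => absurd ((hfx 1).mp h) (by decide)
  have n2 : τ 2 ≠ 2 := fun h => absurd ((hfx 2).mp h) (by decide)
  have n3 : τ 3 ≠ 3 := fun h => absurd ((hfx 3).mp h) (by decide)
  have inj : ∀ {x y z : Fin 7}, τ x = z → τ y = z → x = y := fun h h' => τ.injective (h.trans h'.symm)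
  rcases cases7 (τ 0) with k | k | k | k | k | k | k
  · exact absurd k n0
  · left
    have k1 : τ 1 = 0 := by rw [← k, hs]
    have k2 : τ 2 = 3 := by
      rcases cases7 (τ 2) with j | j | j | j | j | j | j
      · exact absurd (inj j k1) (by decide)
      · exact absurd (inj j k) (by decide)
      · exact absurd j n2
      · exact j
      · exact absurd (inj j e4) (by decide)
      · exact absurd (inj j e5) (by decide)
      · exact absurd (inj j e6) (by decide)
    have k3 : τ 3 = 2 := by rw [← k2, hs]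
    exact ext7 (k.trans (by decide)) (k1.trans (by decide)) (k2.trans (by decide)) (k3.trans (by decide))
      (e4.trans (by decide)) (e5.trans (by decide)) (e6.trans (by decide))
  · right; left
    have k2 : τ 2 = 0 := by rw [← k, hs]
    have k1 : τ 1 = 3 := by
      rcases cases7 (τ 1) with j | j | j | j | j | j | j
      · exact absurd (inj j k2) (by decide)
      · exact absurd j n1
      · exact absurd (inj j k) (by decide)
      · exact j
      · exact absurd (inj j e4) (by decide)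
      · exact absurd (inj j e5) (by decide)
      · exact absurd (inj j e6) (by decide)
    have k3 : τ 3 = 1 := by rw [← k1, hs]
    exact ext7 (k.trans (by decide)) (k1.trans (by decide)) (k2.trans (by decide)) (k3.trans (by decide))
      (e4.trans (by decide)) (e5.trans (by decide)) (e6.trans (by decide))
  · right; right
    have k3 : τ 3 = 0 := by rw [← k, hs]
    have k1 : τ 1 = 2 := by
      rcases cases7 (τ 1) with j | j | j | j | j | j | j
      · exact absurd (inj j k3) (by decide)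
      · exact absurd j n1
      · exact j
      · exact absurd (inj j k) (by decide)
      · exact absurd (inj j e4) (by decide)
      · exact absurd (inj j e5) (by decide)
      · exact absurd (inj j e6) (by decide)
    have k2 : τ 2 = 1 := by rw [← k1, hs]
    exact ext7 (k.trans (by decide)) (k1.trans (by decide)) (k2.trans (by decide)) (k3.trans (by decide))
      (e4.trans (by decide)) (e5.trans (by decide)) (e6.trans (by decide))
  · exact absurd (inj k e4) (by decide)
  · exact absurd (inj k e5) (by decide)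
  · exact absurd (inj k e6) (by decide)

theorem fixIn_eq_compl (σ : P7) : fixIn (Finset.univ : Finset (Fin 7)) σ = (σ.support)ᶜ := by
  ext x
  rw [mem_fixIn, Finset.mem_compl, mem_support]
  simp

/-- an involution in `Alt` has three fixed points -/
theorem fix_card {σ : P7} (hs : sign σ = 1) (hσ : σ * σ = 1) (h1 : σ ≠ 1) :
    (fixIn (Finset.univ : Finset (Fin 7)) σ).card = 3 := by
  have h2 : orderOf σ = 2 := orderOf_eq_prime (by rw [pow_two, hσ]) h1
  obtain ⟨n, hn⟩ := cycleType_prime_order (σ := σ) (by rw [h2]; exact Nat.prime_two)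
  rw [h2] at hn
  have h3 := sum_cycleType σ
  rw [hn, Multiset.sum_replicate, smul_eq_mul] at h3
  have h4 : σ.support.card ≤ 7 := (Finset.card_le_univ _).trans (by rw [Fintype.card_fin])
  have h5 : sign σ = (-1) ^ ((n + 1) * 2 + (n + 1)) := by
    rw [sign_of_cycleType, hn, Multiset.sum_replicate, Multiset.card_replicate, smul_eq_mul]
  have h6 : n = 1 := by
    have h7 : n ≤ 2 := by omega
    interval_cases n
    · rw [hs] at h5; exact absurd h5 (by decide)
    · rfl
    · rw [hs] at h5; exact absurd h5 (by decide)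
  subst h6
  rw [fixIn_eq_compl, Finset.card_compl, Fintype.card_fin]
  omega

theorem cycleType_of_fix {σ : P7} (hσ : σ * σ = 1) (h3 : (fixIn (Finset.univ : Finset (Fin 7)) σ).card = 3) :
    σ.cycleType = Multiset.replicate 2 2 := by
  have h1 : σ ≠ 1 := by
    rintro rfl
    exact absurd h3 (by decide)
  have h2 : orderOf σ = 2 := orderOf_eq_prime (by rw [pow_two, hσ]) h1
  obtain ⟨n, hn⟩ := cycleType_prime_order (σ := σ) (by rw [h2]; exact Nat.prime_two)
  rw [h2] at hn
  have h4 := sum_cycleType σ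
  rw [hn, Multiset.sum_replicate, smul_eq_mul] at h4
  rw [fixIn_eq_compl, Finset.card_compl, Fintype.card_fin] at h3
  have h5 : σ.support.card ≤ 7 := (Finset.card_le_univ _).trans (by rw [Fintype.card_fin])
  have h6 : n = 1 := by omega
  rw [hn, h6]

/-- the roots are conjugate -/
theorem exists_conj_b1 {σ : P7} (hσ : σ * σ = 1) (h3 : (fixIn (Finset.univ : Finset (Fin 7)) σ).card = 3) :
    ∃ g : P7, g * σ * g⁻¹ = b1 := by
  have h1 : IsConj σ b1 := by
    rw [isConj_iff_cycleType_eq, cycleType_of_fix hσ h3, cycleType_of_fix b_facts.1 (by rw [b1_fix]; rfl)]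
  exact isConj_iff.mp h1

/-- a nontrivial even permutation supported on two 3-sets -/
theorem eq_of_alt {F F' : Finset (Fin 7)} (hF : F.card = 3) (hF' : F'.card = 3) {σ : P7} (h : σ ∈ alt F)
    (h' : σ ∈ alt F') (h1 : σ ≠ 1) : F = F' := by
  by_contra hne
  apply h1
  have h2 : (F ∩ F').card ≤ 2 := by
    by_contra hc
    push Not at hc
    have h3 : F ∩ F' = F := Finset.eq_of_subset_of_card_le Finset.inter_subset_left (by omega)
    have h4 : F ∩ F' = F' := Finset.eq_of_subset_of_card_le Finset.inter_subset_right (by omega)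
    exact hne (h3.symm.trans h4)
  have h3 : σ.support ⊆ F ∩ F' := by
    intro x hx
    rw [mem_support] at hx
    rw [Finset.mem_inter]
    constructor
    · by_contra hn
      exact hx (h.2 x hn)
    · by_contra hn
      exact hx (h'.2 x hn)
  have h4 : σ.support.card ≤ 2 := (Finset.card_le_card h3).trans h2
  by_contra hσ
  have h5 : σ.support.card = 2 := by
    have h6 := two_le_card_support_of_ne_one hσ
    omega
  rw [card_support_eq_two] at h5
  have h6 := h5.sign_eq
  rw [show sign σ = 1 from mem_alternatingGroup.mp h.1] at h6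
  exact absurd h6 (by decide)

/-- relabelling of fixed points -/
theorem fixIn_conj (g σ : P7) : fixIn (Finset.univ : Finset (Fin 7)) (g * σ * g⁻¹) =
    (fixIn (Finset.univ : Finset (Fin 7)) σ).map g.toEmbedding := by
  ext x
  rw [mem_fixIn, Finset.mem_map]
  constructor
  · rintro ⟨-, h⟩
    refine ⟨g⁻¹ x, mem_fixIn.mpr ⟨Finset.mem_univ _, ?_⟩, by simp⟩
    have h1 : g (σ (g⁻¹ x)) = x := h
    rw [Perm.eq_inv_iff_eq]
    exact h1
  · rintro ⟨y, hy, rfl⟩
    refine ⟨Finset.mem_univ _, ?_⟩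
    have h1 := (mem_fixIn.mp hy).2
    simp [h1]

/-- what fixes `{0, 1, 2, 3, 6}` -/
theorem one_or_ta {σ : P7} (h : ∀ x ∈ fixIn (Finset.univ : Finset (Fin 7)) ta, σ x = x) : σ = 1 ∨ σ = ta := by
  have h0 : σ 0 = 0 := h 0 (by decide)
  have h1 : σ 1 = 1 := h 1 (by decide)
  have h2 : σ 2 = 2 := h 2 (by decide)
  have h3 : σ 3 = 3 := h 3 (by decide)
  have h6 : σ 6 = 6 := h 6 (by decide)
  have inj : ∀ {x y z : Fin 7}, σ x = z → σ y = z → x = y := fun h h' => σ.injective (h.trans h'.symm)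
  have h45 : ∀ x : Fin 7, x = 4 ∨ x = 5 → σ x = 4 ∨ σ x = 5 := by
    intro x hx
    have hx' : x ≠ 0 ∧ x ≠ 1 ∧ x ≠ 2 ∧ x ≠ 3 ∧ x ≠ 6 := by
      rcases hx with rfl | rfl <;> decide
    rcases cases7 (σ x) with k | k | k | k | k | k | k
    · exact absurd (inj k h0) hx'.1
    · exact absurd (inj k h1) hx'.2.1
    · exact absurd (inj k h2) hx'.2.2.1
    · exact absurd (inj k h3) hx'.2.2.2.1
    · exact Or.inl k
    · exact Or.inr k
    · exact absurd (inj k h6) hx'.2.2.2.2
  rcases h45 4 (Or.inl rfl) with k4 | k4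
  · left
    have k5 : σ 5 = 5 := (h45 5 (Or.inr rfl)).resolve_left fun k => absurd (inj k k4) (by decide)
    exact ext7 h0 h1 h2 h3 k4 k5 h6
  · right
    have k5 : σ 5 = 4 := (h45 5 (Or.inr rfl)).resolve_right fun k => absurd (inj k k4) (by decide)
    exact ext7 (h0.trans (by decide)) (h1.trans (by decide)) (h2.trans (by decide)) (h3.trans (by decide))
      (k4.trans (by decide)) (k5.trans (by decide)) (h6.trans (by decide))

/-- a set of size 3 is moved by an element of `Alt` -/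
theorem exists_move {F : Finset (Fin 7)} (hF : F.card = 3) : ∃ σ ∈ alt (Finset.univ : Finset (Fin 7)),
    ∃ i ∈ F, σ i ∉ F := by
  obtain ⟨i, hi⟩ : F.Nonempty := by rw [← Finset.card_pos]; omega
  have h1 : 1 < (Fᶜ).card := by rw [Finset.card_compl, Fintype.card_fin]; omega
  obtain ⟨j, hj, k, hk, hjk⟩ := Finset.one_lt_card.mp h1
  rw [Finset.mem_compl] at hj hk
  have hij : i ≠ j := by rintro rfl; exact hj hi
  have hik : i ≠ k := by rintro rfl; exact hk hi
  refine ⟨swap i j * swap i k, ?_, i, hi, ?_⟩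
  · rw [alt_univ, mem_alternatingGroup, Perm.sign_mul, sign_swap hij, sign_swap hik]
    decide
  · rw [Perm.mul_apply, swap_apply_left, swap_apply_of_ne_of_ne hik.symm hjk.symm]
    exact hk

theorem card_A7 : Nat.card ↥(alternatingGroup (Fin 7)) = 2520 := by
  have h1 := nat_card_alternatingGroup (α := Fin 7)
  rw [h1, Nat.card_eq_fintype_card, Fintype.card_fin]
  decide

theorem not_dvd_index {B : Subgroup ↥(alternatingGroup (Fin 7))} (hB : Nat.card B = 8) : ¬ 2 ∣ B.index := by
  have h2 := B.card_mul_index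
  rw [hB, card_A7] at h2
  have h3 : B.index = 315 := by omega
  rw [h3]
  decide

/-- the Sylow 2-subgroups of `A₇` are conjugate to `P0` -/
theorem exists_syl_conj (S : Sylow 2 ↥(alternatingGroup (Fin 7))) : ∃ g : ↥(alternatingGroup (Fin 7)),
    ∀ σ ∈ P0, ∃ a ∈ S, ∀ hσ : σ ∈ alternatingGroup (Fin 7), g * a * g⁻¹ = ⟨σ, hσ⟩ := by
  have hp : Fact (Nat.Prime 2) := ⟨Nat.prime_two⟩
  have hP8 : Nat.card (P0.subgroupOf (alternatingGroup (Fin 7))) = 8 := by
    have hle : P0 ≤ alternatingGroup (Fin 7) := fun x hx => (mem_inf.mp hx).2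
    rw [Nat.card_congr (subgroupOfEquivOfLe hle).toEquiv]
    exact card_P0
  have hP2 : IsPGroup 2 (P0.subgroupOf (alternatingGroup (Fin 7))) :=
    IsPGroup.of_card (n := 3) (by rw [hP8]; norm_num)
  obtain ⟨g, hg⟩ := MulAction.exists_smul_eq ↥(alternatingGroup (Fin 7)) S (hP2.toSylow (not_dvd_index hP8))
  refine ⟨g, fun σ hσ => ?_⟩
  have h1 : (⟨σ, (mem_inf.mp hσ).2⟩ : ↥(alternatingGroup (Fin 7))) ∈
      ((hP2.toSylow (not_dvd_index hP8) : Sylow 2 _) : Subgroup ↥(alternatingGroup (Fin 7))) :=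
    mem_subgroupOf.mpr hσ
  rw [← hg] at h1
  obtain ⟨a, ha, h2⟩ := h1
  exact ⟨a, ha, fun _ => h2⟩

/-- no abelian subgroup of order eight in `A₇` -/
theorem no_eight {A : Subgroup ↥(alternatingGroup (Fin 7))} (h8 : Nat.card A = 8)
    (hc : ∀ a ∈ A, ∀ b ∈ A, a * b = b * a) : False := by
  have hp : Fact (Nat.Prime 2) := ⟨Nat.prime_two⟩
  have hA2 : IsPGroup 2 A := IsPGroup.of_card (n := 3) (by rw [h8]; norm_num)
  obtain ⟨g, hg⟩ := exists_syl_conj (hA2.toSylow (not_dvd_index h8))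
  obtain ⟨a, ha, ha'⟩ := hg _ (g0_mem (.r 1))
  obtain ⟨b, hb, hb'⟩ := hg _ (g0_mem (.sr 0))
  have e1 := ha' (mem_inf.mp (g0_mem (.r 1))).2
  have e2 := hb' (mem_inf.mp (g0_mem (.sr 0))).2
  have h1 := hc a ha b hb
  have h2 : (g * a * g⁻¹) * (g * b * g⁻¹) = (g * b * g⁻¹) * (g * a * g⁻¹) := by
    calc (g * a * g⁻¹) * (g * b * g⁻¹) = g * (a * b) * g⁻¹ := by group
      _ = g * (b * a) * g⁻¹ := by rw [h1]
      _ = _ := by group
  rw [e1, e2] at h2
  have h3 : g0 (.r 1) * g0 (.sr 0) = g0 (.sr 0) * g0 (.r 1) := congrArg Subtype.val h2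
  rw [← g0_mul, ← g0_mul] at h3
  exact absurd (g0_inj h3) (by decide)

/-- a Sylow 2-subgroup of `A₇` has two distinct involutions -/
theorem two_inv_syl (S : Sylow 2 ↥(alternatingGroup (Fin 7))) : ∃ a ∈ S, ∃ b ∈ S, a * a = 1 ∧ b * b = 1 ∧
    a ≠ 1 ∧ b ≠ 1 ∧ a ≠ b := by
  obtain ⟨g, hg⟩ := exists_syl_conj S
  obtain ⟨a, ha, ha'⟩ := hg _ (g0_mem (.r 2))
  obtain ⟨b, hb, hb'⟩ := hg _ (g0_mem (.sr 0))
  have e1 := ha' (mem_inf.mp (g0_mem (.r 2))).2
  have e2 := hb' (mem_inf.mp (g0_mem (.sr 0))).2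
  have key : ∀ (c : ↥(alternatingGroup (Fin 7))) (d : DihedralGroup 4) (h : g0 d ∈ alternatingGroup (Fin 7)),
      g * c * g⁻¹ = ⟨g0 d, h⟩ → d * d = 1 → c * c = 1 := by
    intro c d h hc hd
    have h1 : (g * c * g⁻¹) * (g * c * g⁻¹) = 1 := by
      rw [hc]
      apply Subtype.ext
      change g0 d * g0 d = 1
      rw [← g0_mul, hd]
      decide
    calc c * c = g⁻¹ * ((g * c * g⁻¹) * (g * c * g⁻¹)) * g := by group
      _ = 1 := by rw [h1]; group
  have key2 : ∀ (c : ↥(alternatingGroup (Fin 7))) (d : DihedralGroup 4) (h : g0 d ∈ alternatingGroup (Fin 7)),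
      g * c * g⁻¹ = ⟨g0 d, h⟩ → g0 d ≠ 1 → c ≠ 1 := by
    intro c d h hc hd h1
    rw [h1, mul_one, mul_inv_cancel] at hc
    exact hd (congrArg Subtype.val hc).symm
  refine ⟨a, ha, b, hb, key a _ _ e1 (by decide), key b _ _ e2 (by decide), key2 a _ _ e1 (by decide),
    key2 b _ _ e2 (by decide), fun h => ?_⟩
  rw [h, e2] at e1
  have h3 : g0 (.sr 0) = g0 (.r 2) := congrArg Subtype.val e1
  exact absurd (g0_inj h3) (by decide)

end Cfsg.Agent.UGT.A7.M1
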