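import Cfsg.Agent.UGT.A9.Lam

/-!
# THEOREM M1 (helper179 #14042), fact (f3): regular four-groups of `S₇`

* `Reg s t` : `⟨s, t⟩` is a regular four-group on four points;
* `gen_or_reg` : a four-group of `S₇` is regular, or `A₇` is generated by the centralizers in `A₇` of its involutions;
* `card_of_reg` : a 2-subgroup `R` of `S₇` with a four-group, all of whose four-groups are regular, has order 4.
-/

set_option autoImplicit false

open Cfsg Subgroup Equiv Equiv.Perm
open Cfsg.Agent.UAlt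
open Cfsg.Agent.StdAlt.PermTypes (cyc cyc_conj)

namespace Cfsg.Agent.UGT.A7.M1

/-- `⟨s, t⟩` is a regular four-group on the points `i, j, k, l` -/
def Reg (s t : Perm (Fin 7)) : Prop := ∃ i j k l : Fin 7, i ≠ j ∧ i ≠ k ∧ i ≠ l ∧ j ≠ k ∧ j ≠ l ∧ k ≠ l ∧
  s = swap i j * swap k l ∧ t = swap i k * swap j l

namespace RegPf

/-- an involution without fixed points on `A`: `|A|` is even -/
theorem even_of_moved {A : Finset (Fin 7)} {u : Perm (Fin 7)} (hu : ∀ x ∈ A, u x ∈ A) (hu2 : u * u = 1)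
    (hm : ∀ x ∈ A, u x ≠ x) : Even A.card := by
  have h1 : ∑ x ∈ A, (1 : ZMod 2) = 0 := by
    refine Finset.sum_involution (fun x _ => u x) (fun x _ => by decide) (fun x hx _ => hm x hx)
      (fun x hx => hu x hx) (fun x _ => ?_)
    show u (u x) = x
    rw [← Perm.mul_apply, hu2]; rfl
  rw [Finset.sum_const, nsmul_eq_mul, mul_one] at h1
  exact (ZMod.natCast_eq_zero_iff_even).mp h1

theorem odd_fix {A : Finset (Fin 7)} {u : Perm (Fin 7)} (hA : Odd A.card) (hu : ∀ x ∈ A, u x ∈ A)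
    (hu2 : u * u = 1) : Odd (fixIn A u).card := by
  have hinv : ∀ x, u (u x) = x := fun x => by rw [← Perm.mul_apply, hu2]; rfl
  have h1 : Even (A.filter fun x => ¬ u x = x).card := by
    refine even_of_moved (fun x hx => ?_) hu2 (fun x hx => (Finset.mem_filter.mp hx).2)
    obtain ⟨hxA, hx⟩ := Finset.mem_filter.mp hx
    refine Finset.mem_filter.mpr ⟨hu x hxA, fun h => hx ?_⟩
    rw [hinv] at h
    exact h.symm
  have h2 : (fixIn A u).card + (A.filter fun x => ¬ u x = x).card = A.card :=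
    Finset.card_filter_add_card_filter_not _
  rcases Nat.even_or_odd (fixIn A u).card with h3 | h3
  · exact absurd hA (Nat.not_odd_iff_even.mpr (h2 ▸ h3.add h1))
  · exact h3

theorem odd_fix_univ {u : Perm (Fin 7)} (hu2 : u * u = 1) : Odd (fixIn Finset.univ u).card :=
  odd_fix (by rw [Finset.card_univ, Fintype.card_fin]; decide) (fun _ _ => Finset.mem_univ _) hu2

/-- two commuting involutory permutations of 7 points have a common fixed point -/
theorem exists_fixed {s t : Perm (Fin 7)} (hs : s * s = 1) (ht : t * t = 1) (hst : s * t = t * s) :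
    ∃ e, s e = e ∧ t e = e := by
  have h1 : Odd (fixIn (fixIn Finset.univ s) t).card := odd_fix (odd_fix_univ hs) (fun x hx => by
    rw [mem_fixIn] at hx ⊢
    refine ⟨Finset.mem_univ _, ?_⟩
    rw [← Perm.mul_apply, hst, Perm.mul_apply, hx.2]) ht
  obtain ⟨e, he⟩ := Finset.card_pos.mp h1.pos
  rw [mem_fixIn, mem_fixIn] at he
  exact ⟨e, he.1.2, he.2⟩

theorem alt_fix_le {s : Perm (Fin 7)} {X : Subgroup (Perm (Fin 7))}
    (h : ∀ r ∈ alternatingGroup (Fin 7), r * s = s * r → r ∈ X) : alt (fixIn Finset.univ s) ≤ X := fun r hr =>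
  h r (alt_le _ hr) (mem_centralizer_singleton_iff.mp (alt_fixIn_le_centralizer Finset.univ s hr).2)

theorem three_le {A : Finset (Fin 7)} {p : Fin 7} (hp : p ∈ A) (hA : Odd A.card) : A = {p} ∨ 3 ≤ A.card := by
  rcases lt_or_ge A.card 3 with h | h
  · left
    have h1 : A.card = 1 := by
      obtain ⟨k, hk⟩ := hA
      omega
    obtain ⟨q, rfl⟩ := Finset.card_eq_one.mp h1
    rw [Finset.mem_singleton.mp hp]
  · exact Or.inr h

theorem union_le {A B : Finset (Fin 7)} {p : Fin 7} (hpA : p ∈ A) (hpB : p ∈ B) (hA : A = {p} ∨ 3 ≤ A.card)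
    (hB : B = {p} ∨ 3 ≤ B.card) {X : Subgroup (Perm (Fin 7))} (h1 : alt A ≤ X) (h2 : alt B ≤ X) :
    alt (A ∪ B) ≤ X ∧ (A ∪ B = {p} ∨ 3 ≤ (A ∪ B).card) := by
  rcases hA with rfl | hA
  · have : {p} ∪ B = B := Finset.union_eq_right.mpr (Finset.singleton_subset_iff.mpr hpB)
    rw [this]
    exact ⟨h2, hB⟩
  · rcases hB with rfl | hB
    · have : A ∪ {p} = A := Finset.union_eq_left.mpr (Finset.singleton_subset_iff.mpr hpA)
      rw [this]
      exact ⟨h1, Or.inr hA⟩
    · exact ⟨A9.alt_union_one hpA hpB hA hB h1 h2, Or.inr (hA.trans (Finset.card_le_card Finset.subset_union_left))⟩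

/-- no orbit of length four -/
theorem gen_of_noorb {s t : Perm (Fin 7)} (hs : s * s = 1) (ht : t * t = 1) (hst : s * t = t * s)
    (h : ∀ a, s a = a ∨ t a = a ∨ s (t a) = a) {X : Subgroup (Perm (Fin 7))}
    (h1 : ∀ r ∈ alternatingGroup (Fin 7), r * s = s * r → r ∈ X)
    (h2 : ∀ r ∈ alternatingGroup (Fin 7), r * t = t * r → r ∈ X)
    (h3 : ∀ r ∈ alternatingGroup (Fin 7), r * (s * t) = s * t * r → r ∈ X) : alternatingGroup (Fin 7) ≤ X := by
  obtain ⟨e, hes, het⟩ := exists_fixed hs ht hst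
  have hest : (s * t) * (s * t) = 1 := by
    calc (s * t) * (s * t) = s * (t * s) * t := by group
      _ = s * (s * t) * t := by rw [hst]
      _ = (s * s) * (t * t) := by group
      _ = 1 := by rw [hs, ht, one_mul]
  have m1 : e ∈ fixIn Finset.univ s := mem_fixIn.mpr ⟨Finset.mem_univ _, hes⟩
  have m2 : e ∈ fixIn Finset.univ t := mem_fixIn.mpr ⟨Finset.mem_univ _, het⟩
  have m3 : e ∈ fixIn Finset.univ (s * t) := mem_fixIn.mpr ⟨Finset.mem_univ _, by rw [Perm.mul_apply, het, hes]⟩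
  obtain ⟨k1, k2⟩ := union_le m1 m2 (three_le m1 (odd_fix_univ hs)) (three_le m2 (odd_fix_univ ht))
    (alt_fix_le h1) (alt_fix_le h2)
  obtain ⟨k3, -⟩ := union_le (Finset.mem_union_left _ m1) m3 k2 (three_le m3 (odd_fix_univ hest)) k1 (alt_fix_le h3)
  rw [← alt_univ]
  refine le_trans (alt_mono fun x _ => ?_) k3
  rcases h x with hx | hx | hx
  · exact Finset.mem_union_left _ (Finset.mem_union_left _ (mem_fixIn.mpr ⟨Finset.mem_univ _, hx⟩))
  · exact Finset.mem_union_left _ (Finset.mem_union_right _ (mem_fixIn.mpr ⟨Finset.mem_univ _, hx⟩))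
  · exact Finset.mem_union_right _ (mem_fixIn.mpr ⟨Finset.mem_univ _, hx⟩)

/-- labels of the points at an orbit of length four -/
theorem exists_label {s t : Perm (Fin 7)} (hs : s * s = 1) (ht : t * t = 1) (hst : s * t = t * s) {a e : Fin 7}
    (h1 : s a ≠ a) (h2 : t a ≠ a) (h3 : s (t a) ≠ a) (he1 : s e = e) (he2 : t e = e) :
    ∃ σ : Perm (Fin 7), σ 0 = a ∧ σ 1 = s a ∧ σ 2 = t a ∧ σ 3 = s (t a) ∧ σ 6 = e := by
  have is : ∀ x, s (s x) = x := fun x => by rw [← Perm.mul_apply, hs]; rfl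
  have it : ∀ x, t (t x) = x := fun x => by rw [← Perm.mul_apply, ht]; rfl
  have ist : ∀ x, s (t x) = t (s x) := fun x => by rw [← Perm.mul_apply, hst, Perm.mul_apply]
  have n01 : a ≠ s a := h1.symm
  have n02 : a ≠ t a := h2.symm
  have n03 : a ≠ s (t a) := h3.symm
  have n12 : s a ≠ t a := fun h => h3 (by rw [← h, is])
  have n13 : s a ≠ s (t a) := fun h => n02 (s.injective h)
  have n23 : t a ≠ s (t a) := fun h => by
    rw [ist] at h
    exact n01 (t.injective h)
  have e0 : a ≠ e := fun h => h1 (by rw [h, he1])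
  have e1 : s a ≠ e := fun h => e0 (by rw [← is a, h, he1])
  have e2 : t a ≠ e := fun h => e0 (by rw [← it a, h, he2])
  have e3 : s (t a) ≠ e := fun h => e2 (by rw [← is (t a), h, he1])
  have hcard : (Finset.univ \ {a, s a, t a, s (t a), e} : Finset (Fin 7)).card = 2 := by
    rw [Finset.card_sdiff_of_subset (Finset.subset_univ _), Finset.card_univ, Fintype.card_fin]
    have : ({a, s a, t a, s (t a), e} : Finset (Fin 7)).card = 5 := by
      rw [Finset.card_insert_of_notMem, Finset.card_insert_of_notMem, Finset.card_insert_of_notMem,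
        Finset.card_insert_of_notMem, Finset.card_singleton]
      · simp [e3]
      · simp [n23, e2]
      · simp [n12, n13, e1]
      · simp [n01, n02, n03, e0]
    rw [this]
  obtain ⟨f, g, hfg, hD⟩ := Finset.card_eq_two.mp hcard
  have hf : f ∉ ({a, s a, t a, s (t a), e} : Finset (Fin 7)) := by
    have : f ∈ (Finset.univ \ {a, s a, t a, s (t a), e} : Finset (Fin 7)) := by rw [hD]; simp
    exact (Finset.mem_sdiff.mp this).2
  have hg : g ∉ ({a, s a, t a, s (t a), e} : Finset (Fin 7)) := by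
    have : g ∈ (Finset.univ \ {a, s a, t a, s (t a), e} : Finset (Fin 7)) := by rw [hD]; simp
    exact (Finset.mem_sdiff.mp this).2
  simp only [Finset.mem_insert, Finset.mem_singleton, not_or] at hf hg
  obtain ⟨f0, f1, f2, f3, f6⟩ := hf
  obtain ⟨g0, g1, g2, g3, g6⟩ := hg
  have hinj : Function.Injective (![a, s a, t a, s (t a), f, g, e] : Fin 7 → Fin 7) := by
    intro x y h
    by_contra hxy
    fin_cases x <;> fin_cases y <;>
      first
      | exact hxy rfl
      | exact n01 h | exact n01 h.symm | exact n02 h | exact n02 h.symm | exact n03 h | exact n03 h.symm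
      | exact n12 h | exact n12 h.symm | exact n13 h | exact n13 h.symm | exact n23 h | exact n23 h.symm
      | exact e0 h | exact e0 h.symm | exact e1 h | exact e1 h.symm | exact e2 h | exact e2 h.symm
      | exact e3 h | exact e3 h.symm | exact f0 h | exact f0 h.symm | exact f1 h | exact f1 h.symm
      | exact f2 h | exact f2 h.symm | exact f3 h | exact f3 h.symm | exact f6 h | exact f6 h.symm
      | exact g0 h | exact g0 h.symm | exact g1 h | exact g1 h.symm | exact g2 h | exact g2 h.symm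
      | exact g3 h | exact g3 h.symm | exact g6 h | exact g6 h.symm | exact hfg h | exact hfg h.symm
  exact ⟨Equiv.ofBijective _ (Finite.injective_iff_bijective.mp hinj), rfl, rfl, rfl, rfl, rfl⟩

/-- a permutation fixing 0, 1, 2, 3, 6 -/
theorem eq_or {w : Perm (Fin 7)} (h0 : w 0 = 0) (h1 : w 1 = 1) (h2 : w 2 = 2) (h3 : w 3 = 3) (h6 : w 6 = 6) :
    w = 1 ∨ w = swap 4 5 := by
  have key : ∀ x : Fin 7, (x = 4 ∨ x = 5) → w x = 4 ∨ w x = 5 := by
    intro x hx
    have hne : ∀ y : Fin 7, w y = y → w x ≠ y ∨ x = y := by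
      intro y hy
      by_cases h : w x = y
      · right; exact w.injective (h.trans hy.symm)
      · exact Or.inl h
    have k0 := hne 0 h0
    have k1 := hne 1 h1
    have k2 := hne 2 h2
    have k3 := hne 3 h3
    have k6 := hne 6 h6
    rcases hx with rfl | rfl
    all_goals
      generalize w _ = z at k0 k1 k2 k3 k6 ⊢
      revert k0 k1 k2 k3 k6 z
      decide
  have k4 := key 4 (Or.inl rfl)
  have k5 := key 5 (Or.inr rfl)
  rcases k4 with k4 | k4
  · have k5' : w 5 = 5 := by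
      rcases k5 with k5 | k5
      · exact absurd (w.injective (k5.trans k4.symm)) (by decide)
      · exact k5
    left
    ext x
    fin_cases x <;> simp [h0, h1, h2, h3, h6, k4, k5']
  · have k5' : w 5 = 4 := by
      rcases k5 with k5 | k5
      · exact k5
      · exact absurd (w.injective (k5.trans k4.symm)) (by decide)
    right
    ext x
    fin_cases x
    · show ((w 0 : Fin 7) : ℕ) = _; rw [h0]; decide
    · show ((w 1 : Fin 7) : ℕ) = _; rw [h1]; decide
    · show ((w 2 : Fin 7) : ℕ) = _; rw [h2]; decide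
    · show ((w 3 : Fin 7) : ℕ) = _; rw [h3]; decide
    · show ((w 4 : Fin 7) : ℕ) = _; rw [k4]; decide
    · show ((w 5 : Fin 7) : ℕ) = _; rw [k5']; decide
    · show ((w 6 : Fin 7) : ℕ) = _; rw [h6]; decide

theorem alt_le_of_three {H : Subgroup (Perm (Fin 7))} (e1 : cyc (6 : Fin 7) 4 5 ∈ H)
    (h : ∀ i : Fin 7, i ≠ 4 → i ≠ 5 → ∃ g ∈ H, g 6 = i ∧ g 4 = 4 ∧ g 5 = 5) : alternatingGroup (Fin 7) ≤ H := by
  rw [← alt_univ]
  refine Ident.alt_le_of_cyc_two (c := 4) (d := 5) (Finset.mem_univ _) (Finset.mem_univ _) (by decide)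
    (by decide) fun i _ hi4 hi5 => ?_
  obtain ⟨g, hg, h6, h4, h5⟩ := h i hi4 hi5
  have h7 := cyc_conj g 6 4 5
  rw [h6, h4, h5] at h7
  rw [← h7]
  exact mul_mem (mul_mem hg e1) (inv_mem hg)

def z0 : Perm (Fin 7) := swap 0 1 * swap 2 3
def t0 : Perm (Fin 7) := swap 0 2 * swap 1 3

/-- `X` contains `(4 5 6)` and the centralizer of `(02)(13)(45)` -/
theorem gen_a {X : Subgroup (Perm (Fin 7))} (e1 : cyc (6 : Fin 7) 4 5 ∈ X)
    (h : ∀ r ∈ alternatingGroup (Fin 7), r * (t0 * swap 4 5) = t0 * swap 4 5 * r → r ∈ X) :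
    alternatingGroup (Fin 7) ≤ X := by
  have hh : cyc (0 : Fin 7) 1 4 * cyc 2 3 5 ∈ X := by
    refine h _ ?_ ?_
    · rw [Equiv.Perm.mem_alternatingGroup]; decide
    · decide
  have hh2 := mul_mem hh hh
  have e2 : cyc (0 : Fin 7) 2 6 ∈ X := by
    have h1 := mul_mem (mul_mem hh e1) (inv_mem hh)
    rwa [show cyc (0 : Fin 7) 1 4 * cyc 2 3 5 * cyc 6 4 5 * (cyc (0 : Fin 7) 1 4 * cyc 2 3 5)⁻¹ = cyc 0 2 6 by decide] at h1
  have e3 : cyc (1 : Fin 7) 3 6 ∈ X := by
    have h1 := mul_mem (mul_mem hh2 e1) (inv_mem hh2)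
    rwa [show cyc (0 : Fin 7) 1 4 * cyc 2 3 5 * (cyc 0 1 4 * cyc 2 3 5) * cyc 6 4 5 *
      (cyc (0 : Fin 7) 1 4 * cyc 2 3 5 * (cyc 0 1 4 * cyc 2 3 5))⁻¹ = cyc 1 3 6 by decide] at h1
  refine alt_le_of_three e1 fun i h4 h5 => ?_
  fin_cases i
  · exact ⟨_, e2, by decide, by decide, by decide⟩
  · exact ⟨_, e3, by decide, by decide, by decide⟩
  · exact ⟨_, inv_mem e2, by decide, by decide, by decide⟩
  · exact ⟨_, inv_mem e3, by decide, by decide, by decide⟩
  · exact absurd rfl h4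
  · exact absurd rfl h5
  · exact ⟨1, X.one_mem, by decide, by decide, by decide⟩

/-- `X` contains `(4 5 6)` and the centralizer of `(01)(23)(45)` -/
theorem gen_b {X : Subgroup (Perm (Fin 7))} (e1 : cyc (6 : Fin 7) 4 5 ∈ X)
    (h : ∀ r ∈ alternatingGroup (Fin 7), r * (z0 * swap 4 5) = z0 * swap 4 5 * r → r ∈ X) :
    alternatingGroup (Fin 7) ≤ X := by
  have hh : cyc (0 : Fin 7) 2 4 * cyc 1 3 5 ∈ X := by
    refine h _ ?_ ?_
    · rw [Equiv.Perm.mem_alternatingGroup]; decide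
    · decide
  have hh2 := mul_mem hh hh
  have e2 : cyc (0 : Fin 7) 1 6 ∈ X := by
    have h1 := mul_mem (mul_mem hh e1) (inv_mem hh)
    rwa [show cyc (0 : Fin 7) 2 4 * cyc 1 3 5 * cyc 6 4 5 * (cyc (0 : Fin 7) 2 4 * cyc 1 3 5)⁻¹ = cyc 0 1 6 by decide] at h1
  have e3 : cyc (2 : Fin 7) 3 6 ∈ X := by
    have h1 := mul_mem (mul_mem hh2 e1) (inv_mem hh2)
    rwa [show cyc (0 : Fin 7) 2 4 * cyc 1 3 5 * (cyc 0 2 4 * cyc 1 3 5) * cyc 6 4 5 *
      (cyc (0 : Fin 7) 2 4 * cyc 1 3 5 * (cyc 0 2 4 * cyc 1 3 5))⁻¹ = cyc 2 3 6 by decide] at h1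
  refine alt_le_of_three e1 fun i h4 h5 => ?_
  fin_cases i
  · exact ⟨_, e2, by decide, by decide, by decide⟩
  · exact ⟨_, inv_mem e2, by decide, by decide, by decide⟩
  · exact ⟨_, e3, by decide, by decide, by decide⟩
  · exact ⟨_, inv_mem e3, by decide, by decide, by decide⟩
  · exact absurd rfl h4
  · exact absurd rfl h5
  · exact ⟨1, X.one_mem, by decide, by decide, by decide⟩

/-- the standard form of `(s, t)` -/
theorem std_form {s t : Perm (Fin 7)} (hs : s * s = 1) (ht : t * t = 1) (hst : s * t = t * s) {σ : Perm (Fin 7)}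
    {a e : Fin 7} (h0 : σ 0 = a) (h1 : σ 1 = s a) (h2 : σ 2 = t a) (h3 : σ 3 = s (t a)) (h6 : σ 6 = e)
    (he1 : s e = e) (he2 : t e = e) :
    (σ⁻¹ * s * σ = z0 ∨ σ⁻¹ * s * σ = z0 * swap 4 5) ∧ (σ⁻¹ * t * σ = t0 ∨ σ⁻¹ * t * σ = t0 * swap 4 5) := by
  have is : ∀ x, s (s x) = x := fun x => by rw [← Perm.mul_apply, hs]; rfl
  have it : ∀ x, t (t x) = x := fun x => by rw [← Perm.mul_apply, ht]; rfl
  have ist : ∀ x, s (t x) = t (s x) := fun x => by rw [← Perm.mul_apply, hst, Perm.mul_apply]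
  have key : ∀ (u : Perm (Fin 7)) (x y : Fin 7), u (σ x) = σ y → (σ⁻¹ * u * σ) x = y := by
    intro u x y h
    rw [Perm.mul_apply, Perm.mul_apply, h, ← Perm.mul_apply, inv_mul_cancel, Perm.one_apply]
  have s0 := key s 0 1 (by rw [h0, h1])
  have s1 := key s 1 0 (by rw [h0, h1, is])
  have s2 := key s 2 3 (by rw [h2, h3])
  have s3 := key s 3 2 (by rw [h2, h3, is])
  have s6 := key s 6 6 (by rw [h6, he1])
  have t0' := key t 0 2 (by rw [h0, h2])
  have t2' := key t 2 0 (by rw [h0, h2, it])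
  have t1' := key t 1 3 (by rw [h1, h3, ist])
  have t3' := key t 3 1 (by rw [h1, h3, ist, it])
  have t6' := key t 6 6 (by rw [h6, he2])
  have hz : z0 * z0 = 1 := by decide
  have htt : t0 * t0 = 1 := by decide
  constructor
  · rcases eq_or (w := z0 * (σ⁻¹ * s * σ)) (by rw [Perm.mul_apply, s0]; decide) (by rw [Perm.mul_apply, s1]; decide)
      (by rw [Perm.mul_apply, s2]; decide) (by rw [Perm.mul_apply, s3]; decide)
      (by rw [Perm.mul_apply, s6]; decide) with h | h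
    · left
      calc σ⁻¹ * s * σ = (z0 * z0) * (σ⁻¹ * s * σ) := by rw [hz, one_mul]
        _ = z0 * (z0 * (σ⁻¹ * s * σ)) := by group
        _ = z0 := by rw [h, mul_one]
    · right
      calc σ⁻¹ * s * σ = (z0 * z0) * (σ⁻¹ * s * σ) := by rw [hz, one_mul]
        _ = z0 * (z0 * (σ⁻¹ * s * σ)) := by group
        _ = z0 * swap 4 5 := by rw [h]
  · rcases eq_or (w := t0 * (σ⁻¹ * t * σ)) (by rw [Perm.mul_apply, t0']; decide) (by rw [Perm.mul_apply, t1']; decide)
      (by rw [Perm.mul_apply, t2']; decide) (by rw [Perm.mul_apply, t3']; decide)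
      (by rw [Perm.mul_apply, t6']; decide) with h | h
    · left
      calc σ⁻¹ * t * σ = (t0 * t0) * (σ⁻¹ * t * σ) := by rw [htt, one_mul]
        _ = t0 * (t0 * (σ⁻¹ * t * σ)) := by group
        _ = t0 := by rw [h, mul_one]
    · right
      calc σ⁻¹ * t * σ = (t0 * t0) * (σ⁻¹ * t * σ) := by rw [htt, one_mul]
        _ = t0 * (t0 * (σ⁻¹ * t * σ)) := by group
        _ = t0 * swap 4 5 := by rw [h]

theorem reg_of_std {s t σ : Perm (Fin 7)} (hs : σ⁻¹ * s * σ = z0) (ht : σ⁻¹ * t * σ = t0) : Reg s t := by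
  have hs' : s = σ * z0 * σ⁻¹ := by rw [← hs]; group
  have ht' : t = σ * t0 * σ⁻¹ := by rw [← ht]; group
  have hne : ∀ {x y : Fin 7}, x ≠ y → σ x ≠ σ y := fun h h' => h (σ.injective h')
  refine ⟨σ 0, σ 1, σ 2, σ 3, hne (by decide), hne (by decide), hne (by decide), hne (by decide), hne (by decide),
    hne (by decide), ?_, ?_⟩
  · rw [hs', swap_apply_apply, swap_apply_apply, z0]; group
  · rw [ht', swap_apply_apply, swap_apply_apply, t0]; group

theorem dbl_sq {i j k l : Fin 7} (hij : i ≠ j) (hik : i ≠ k) (hil : i ≠ l) (hjk : j ≠ k) (hjl : j ≠ l)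
    (hkl : k ≠ l) : swap i j * swap k l * (swap i j * swap k l) = 1 := by
  ext x
  congr 1
  simp only [Perm.mul_apply, swap_apply_def]
  split_ifs <;> simp_all

theorem dbl_apply {i j k l : Fin 7} (hik : i ≠ k) (hil : i ≠ l) (hjk : j ≠ k) (hjl : j ≠ l) :
    (swap i j * swap k l) i = j ∧ (swap i j * swap k l) j = i ∧ (swap i j * swap k l) k = l ∧
      (swap i j * swap k l) l = k := by
  refine ⟨?_, ?_, ?_, ?_⟩
  · rw [Perm.mul_apply, swap_apply_of_ne_of_ne hik hil, swap_apply_left]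
  · rw [Perm.mul_apply, swap_apply_of_ne_of_ne hjk hjl, swap_apply_right]
  · rw [Perm.mul_apply, swap_apply_left, swap_apply_of_ne_of_ne hil.symm hjl.symm]
  · rw [Perm.mul_apply, swap_apply_right, swap_apply_of_ne_of_ne hik.symm hjk.symm]

theorem dbl_comm {i j k l : Fin 7} (hij : i ≠ j) (hik : i ≠ k) (hil : i ≠ l) (hjk : j ≠ k) (hjl : j ≠ l)
    (hkl : k ≠ l) : swap i j * swap k l * (swap i k * swap j l) = swap i k * swap j l * (swap i j * swap k l) := by
  obtain ⟨a1, a2, a3, a4⟩ := dbl_apply hij hil hjk.symm hkl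
  have h1 : swap i k * swap j l * (swap i j * swap k l) * (swap i k * swap j l)⁻¹ = swap k l * swap i j := by
    calc swap i k * swap j l * (swap i j * swap k l) * (swap i k * swap j l)⁻¹
        = (swap i k * swap j l * swap i j * (swap i k * swap j l)⁻¹) *
          (swap i k * swap j l * swap k l * (swap i k * swap j l)⁻¹) := by group
      _ = swap k l * swap i j := by rw [← swap_apply_apply, ← swap_apply_apply, a1, a3, a2, a4]
  have h2 : swap k l * swap i j = swap i j * swap k l := by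
    have h3 := swap_apply_apply (swap k l) i j
    rw [swap_apply_of_ne_of_ne hik hil, swap_apply_of_ne_of_ne hjk hjl] at h3
    calc swap k l * swap i j = (swap k l * swap i j * (swap k l)⁻¹) * swap k l := by group
      _ = _ := by rw [← h3]
  rw [h2] at h1
  calc _ = (swap i k * swap j l * (swap i j * swap k l) * (swap i k * swap j l)⁻¹) * (swap i k * swap j l) := by
        rw [h1]
    _ = _ := by group

theorem std_of_reg {s t : Perm (Fin 7)} (h : Reg s t) : s * s = 1 ∧ t * t = 1 ∧ s * t = t * s ∧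
    ∃ σ : Perm (Fin 7), s = σ * z0 * σ⁻¹ ∧ t = σ * t0 * σ⁻¹ := by
  obtain ⟨i, j, k, l, hij, hik, hil, hjk, hjl, hkl, rfl, rfl⟩ := h
  have hs := dbl_sq hij hik hil hjk hjl hkl
  have ht := dbl_sq hik hij hil hjk.symm hkl hjl
  have hst := dbl_comm hij hik hil hjk hjl hkl
  obtain ⟨a1, a2, a3, a4⟩ := dbl_apply (i := i) (j := j) (k := k) (l := l) hik hil hjk hjl
  obtain ⟨b1, b2, b3, b4⟩ := dbl_apply (i := i) (j := k) (k := j) (l := l) hij hil hjk.symm hkl
  obtain ⟨e, he1, he2⟩ := exists_fixed hs ht hst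
  obtain ⟨σ, h0, h1, h2, h3, -⟩ := exists_label hs ht hst (a := i) (by rw [a1]; exact hij.symm)
    (by rw [b1]; exact hik.symm) (by rw [b1, a3]; exact hil.symm) he1 he2
  rw [a1] at h1
  rw [b1] at h2
  rw [b1, a3] at h3
  refine ⟨hs, ht, hst, σ, ?_, ?_⟩
  · rw [z0, ← h0, ← h1, ← h2, ← h3, swap_apply_apply, swap_apply_apply]; group
  · rw [t0, ← h0, ← h1, ← h2, ← h3, swap_apply_apply, swap_apply_apply]; group

theorem reg_pts {s t : Perm (Fin 7)} (h : Reg s t) (x : Fin 7) :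
    (s x = x → t x = x) ∧ (s x ≠ x → t x ≠ x ∧ t x ≠ s x) := by
  obtain ⟨-, -, -, σ, rfl, rfl⟩ := std_of_reg h
  obtain ⟨y, rfl⟩ := σ.surjective x
  have key : ∀ (u : Perm (Fin 7)), (σ * u * σ⁻¹) (σ y) = σ (u y) := by
    intro u
    rw [Perm.mul_apply, Perm.mul_apply, ← Perm.mul_apply σ⁻¹ σ, inv_mul_cancel, Perm.one_apply]
  rw [key, key]
  simp only [ne_eq, σ.injective.eq_iff]
  clear key
  revert y
  decide

/-- elements of 2-power order of `S₇` -/
theorem pow_four {r : Perm (Fin 7)} {n : ℕ} (hr : r ^ 2 ^ n = 1) : r ^ 4 = 1 := by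
  have h1 : orderOf r ∣ 4 := by
    rw [← Perm.lcm_cycleType, Multiset.lcm_dvd]
    intro c hc
    have h2 : c ≤ 7 := by
      have h3 := Perm.le_card_support_of_mem_cycleType hc
      have h4 := Finset.card_le_univ r.support
      rw [Fintype.card_fin] at h4
      omega
    have h3 : c ∣ 2 ^ n := (Perm.dvd_of_mem_cycleType hc).trans (orderOf_dvd_of_pow_eq_one hr)
    obtain ⟨m, hm, rfl⟩ := (Nat.dvd_prime_pow Nat.prime_two).mp h3
    have h4 : m ≤ 2 := by
      by_contra h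
      have : 2 ^ 3 ≤ 2 ^ m := Nat.pow_le_pow_right (by norm_num) (by omega)
      omega
    exact (Nat.pow_dvd_pow 2 h4)
  exact orderOf_dvd_iff_pow_eq_one.mp h1

def good (r : Perm (Fin 7)) : Prop := r 4 = 4 ∧ r 5 = 5 ∧ r 6 = 6 ∧ r 0 ≠ 0 ∧ r 0 ≠ 1

instance (r : Perm (Fin 7)) : Decidable (good r) := by unfold good; infer_instance

def chk (r : Perm (Fin 7)) : Bool :=
  !(decide (r * z0 = z0 * r)) || !(decide (r * r * (r * r) = 1)) ||
  (decide (r * r = 1) && decide (r ≠ 1) && decide (r ≠ z0) && !(decide (good r))) ||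
  (decide (r * t0 * (r * t0) = 1) && decide (r * t0 ≠ 1) && decide (r * t0 ≠ z0) && !(decide (good (r * t0)))) ||
  decide (r = 1) || decide (r = z0) || decide (r = t0) || decide (r = z0 * t0)

set_option maxRecDepth 1000000 in
theorem chk_all : ∀ r : Perm (Fin 7), chk r = true := by
  decide +kernel

theorem std_check {r : Perm (Fin 7)} (h1 : r * z0 = z0 * r) (h2 : r * r * (r * r) = 1)
    (h3 : r * r = 1 → r ≠ 1 → r ≠ z0 → good r) (h4 : r * t0 * (r * t0) = 1 → r * t0 ≠ 1 → r * t0 ≠ z0 → good (r * t0)) :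
    r = 1 ∨ r = z0 ∨ r = t0 ∨ r = z0 * t0 := by
  have h := chk_all r
  simp only [chk, Bool.or_eq_true, Bool.and_eq_true, Bool.not_eq_true', decide_eq_true_eq, decide_eq_false_iff_not] at h
  tauto

theorem good_of_reg {z r σ : Perm (Fin 7)} (hz : z = σ * z0 * σ⁻¹) (h : Reg z r) : good (σ⁻¹ * r * σ) := by
  have key : ∀ (u : Perm (Fin 7)) (y : Fin 7), (σ * u * σ⁻¹) (σ y) = σ (u y) := by
    intro u y
    rw [Perm.mul_apply, Perm.mul_apply, ← Perm.mul_apply σ⁻¹ σ, inv_mul_cancel, Perm.one_apply]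
  have hr : r = σ * (σ⁻¹ * r * σ) * σ⁻¹ := by group
  have fixp : ∀ y : Fin 7, z0 y = y → (σ⁻¹ * r * σ) y = y := by
    intro y hy
    have h1 := (reg_pts h (σ y)).1 (by rw [hz, key, hy])
    rw [hr, key] at h1
    exact σ.injective h1
  have h0 := (reg_pts h (σ 0)).2 (by
    rw [hz, key]
    exact fun h' => absurd (σ.injective h') (by decide))
  rw [hr, key, hz, key] at h0
  exact ⟨fixp 4 (by decide), fixp 5 (by decide), fixp 6 (by decide), fun h' => h0.1 (congrArg σ h'),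
    fun h' => h0.2 (congrArg σ (h'.trans (by decide)))⟩

end RegPf

/-- **(F3)** -/
theorem gen_or_reg {s t : Perm (Fin 7)} (hs : s * s = 1) (ht : t * t = 1) (hst : s * t = t * s) (_hs1 : s ≠ 1)
    (_ht1 : t ≠ 1) (_hne : s ≠ t) : Reg s t ∨ ∀ X : Subgroup (Perm (Fin 7)),
      (∀ r ∈ alternatingGroup (Fin 7), r * s = s * r → r ∈ X) →
      (∀ r ∈ alternatingGroup (Fin 7), r * t = t * r → r ∈ X) →
      (∀ r ∈ alternatingGroup (Fin 7), r * (s * t) = s * t * r → r ∈ X) → alternatingGroup (Fin 7) ≤ X := by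
  by_cases horb : ∀ a, s a = a ∨ t a = a ∨ s (t a) = a
  · exact Or.inr fun X h1 h2 h3 => RegPf.gen_of_noorb hs ht hst horb h1 h2 h3
  push Not at horb
  obtain ⟨a, a1, a2, a3⟩ := horb
  obtain ⟨e, he1, he2⟩ := RegPf.exists_fixed hs ht hst
  obtain ⟨σ, h0, h1, h2, h3, h6⟩ := RegPf.exists_label hs ht hst a1 a2 a3 he1 he2
  obtain ⟨hS, hT⟩ := RegPf.std_form hs ht hst h0 h1 h2 h3 h6 he1 he2
  -- conjugation of the hypotheses
  have tr : ∀ (X : Subgroup (Perm (Fin 7))) (u : Perm (Fin 7)),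
      (∀ r ∈ alternatingGroup (Fin 7), r * u = u * r → r ∈ X) →
      ∀ r ∈ alternatingGroup (Fin 7), r * (σ⁻¹ * u * σ) = σ⁻¹ * u * σ * r → r ∈ X.comap (MulAut.conj σ).toMonoidHom := by
    intro X u hX r hr hru
    refine hX _ ?_ ?_
    · exact (inferInstance : (alternatingGroup (Fin 7)).Normal).conj_mem r hr σ
    · show σ * r * σ⁻¹ * u = u * (σ * r * σ⁻¹)
      calc σ * r * σ⁻¹ * u = σ * (r * (σ⁻¹ * u * σ)) * σ⁻¹ := by group
        _ = σ * (σ⁻¹ * u * σ * r) * σ⁻¹ := by rw [hru]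
        _ = u * (σ * r * σ⁻¹) := by group
  have back : ∀ X : Subgroup (Perm (Fin 7)), alternatingGroup (Fin 7) ≤ X.comap (MulAut.conj σ).toMonoidHom →
      alternatingGroup (Fin 7) ≤ X := by
    intro X hX r hr
    have h1 := hX ((inferInstance : (alternatingGroup (Fin 7)).Normal).conj_mem r hr σ⁻¹)
    have h2 : σ * (σ⁻¹ * r * σ⁻¹⁻¹) * σ⁻¹ ∈ X := h1
    rwa [show σ * (σ⁻¹ * r * σ⁻¹⁻¹) * σ⁻¹ = r by group] at h2
  have hcyc : cyc (6 : Fin 7) 4 5 ∈ alternatingGroup (Fin 7) := by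
    rw [Equiv.Perm.mem_alternatingGroup]; decide
  rcases hS with hS | hS <;> rcases hT with hT | hT
  · exact Or.inl (RegPf.reg_of_std hS hT)
  · refine Or.inr fun X k1 k2 k3 => back X (RegPf.gen_a ?_ ?_)
    · exact tr X s k1 _ hcyc (by rw [hS]; decide)
    · rw [← hT]; exact tr X t k2
  · refine Or.inr fun X k1 k2 k3 => back X (RegPf.gen_b ?_ ?_)
    · exact tr X t k2 _ hcyc (by rw [hT]; decide)
    · rw [← hS]; exact tr X s k1
  · refine Or.inr fun X k1 k2 k3 => back X (RegPf.gen_a ?_ ?_)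
    · refine tr X (s * t) k3 _ hcyc ?_
      rw [show σ⁻¹ * (s * t) * σ = (σ⁻¹ * s * σ) * (σ⁻¹ * t * σ) by group, hS, hT]
      decide
    · rw [← hT]; exact tr X t k2

/-- **(F3')** -/
theorem card_of_reg {R : Subgroup (Perm (Fin 7))} (hR : IsPGroup 2 R)
    (hex : ∃ s ∈ R, ∃ t ∈ R, s * s = 1 ∧ t * t = 1 ∧ s * t = t * s ∧ s ≠ 1 ∧ t ≠ 1 ∧ s ≠ t)
    (hreg : ∀ s ∈ R, ∀ t ∈ R, s * s = 1 → t * t = 1 → s * t = t * s → s ≠ 1 → t ≠ 1 → s ≠ t → Reg s t) :
    Nat.card R = 4 := by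
  obtain ⟨s, hs, t, ht, hs2, ht2, hst, hs1, ht1, hne⟩ := hex
  -- a central involution
  obtain ⟨z, hz, hz2, hz1, hzc⟩ : ∃ z ∈ R, z * z = 1 ∧ z ≠ 1 ∧ ∀ r ∈ R, r * z = z * r := by
    have : Nontrivial R := ⟨⟨s, hs⟩, 1, fun h => hs1 (congrArg Subtype.val h)⟩
    have hcn : Nontrivial (center R) := hR.center_nontrivial
    obtain ⟨n, hn⟩ := IsPGroup.iff_card.mp (hR.to_subgroup (center R))
    have h2 : 2 ∣ Nat.card (center R) := by
      rw [hn]
      refine dvd_pow_self 2 ?_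
      rintro rfl
      rw [pow_zero] at hn
      exact absurd (Nat.card_eq_one_iff_unique.mp hn).1 (not_subsingleton_iff_nontrivial.mpr hcn)
    obtain ⟨⟨z, hzc⟩, hzo⟩ := exists_prime_orderOf_dvd_card' 2 h2
    obtain ⟨h3, h4⟩ := orderOf_eq_prime_iff.mp hzo
    refine ⟨z, z.2, ?_, ?_, ?_⟩
    · have := congrArg (fun x : ↥(center R) => ((x : R) : Perm (Fin 7))) h3
      simpa [pow_two] using this
    · intro h
      exact h4 (Subtype.ext (Subtype.ext h))
    · intro r hr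
      exact congrArg Subtype.val (mem_center_iff.mp hzc ⟨r, hr⟩)
  obtain ⟨t', ht', ht'2, ht'1, hzt'⟩ : ∃ t' ∈ R, t' * t' = 1 ∧ t' ≠ 1 ∧ z ≠ t' := by
    by_cases h : z = s
    · exact ⟨t, ht, ht2, ht1, h ▸ hne⟩
    · exact ⟨s, hs, hs2, hs1, h⟩
  have hreg' := hreg z hz t' ht' hz2 ht'2 (hzc t' ht').symm hz1 ht'1 hzt'
  obtain ⟨-, -, hcomm, σ, hσz, hσt⟩ := RegPf.std_of_reg hreg'
  have cj1 : ∀ x y : Perm (Fin 7), σ⁻¹ * (x * y) * σ = (σ⁻¹ * x * σ) * (σ⁻¹ * y * σ) := fun x y => by group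
  have cjz : σ⁻¹ * z * σ = RegPf.z0 := by rw [hσz]; group
  have cjt : σ⁻¹ * t' * σ = RegPf.t0 := by rw [hσt]; group
  have back : ∀ x y : Perm (Fin 7), σ⁻¹ * x * σ = y → x = σ * y * σ⁻¹ := fun x y h => by rw [← h]; group
  have hgood : ∀ r ∈ R, (σ⁻¹ * r * σ) * (σ⁻¹ * r * σ) = 1 → σ⁻¹ * r * σ ≠ 1 → σ⁻¹ * r * σ ≠ RegPf.z0 →
      RegPf.good (σ⁻¹ * r * σ) := by
    intro r hr h1 h2 h3
    refine RegPf.good_of_reg hσz (hreg z hz r hr hz2 ?_ (hzc r hr).symm hz1 ?_ ?_)
    · rw [← cj1] at h1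
      rw [back _ _ h1]; group
    · rintro rfl
      exact h2 (by group)
    · rintro rfl
      exact h3 cjz
  have hall : ∀ r ∈ R, r = 1 ∨ r = z ∨ r = t' ∨ r = z * t' := by
    intro r hr
    obtain ⟨n, hn⟩ := hR ⟨r, hr⟩
    have hn' : r ^ 2 ^ n = 1 := congrArg Subtype.val hn
    have hr4 : (σ⁻¹ * r * σ) * (σ⁻¹ * r * σ) * ((σ⁻¹ * r * σ) * (σ⁻¹ * r * σ)) = 1 := by
      rw [← cj1, ← cj1]
      have : r * r * (r * r) = r ^ 4 := by simp only [pow_succ, pow_zero, one_mul, mul_assoc]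
      rw [this, RegPf.pow_four hn']; group
    have hcz : (σ⁻¹ * r * σ) * RegPf.z0 = RegPf.z0 * (σ⁻¹ * r * σ) := by
      rw [← cjz, ← cj1, ← cj1, hzc r hr]
    have h5 := RegPf.std_check hcz hr4 (hgood r hr) (by
      rw [← cjt, ← cj1]
      exact hgood _ (R.mul_mem hr ht'))
    rcases h5 with h | h | h | h
    · left
      rw [back _ _ h]; group
    · right; left
      rw [back _ _ h, hσz]
    · right; right; left
      rw [back _ _ h, hσt]
    · right; right; right
      rw [back _ _ h, hσz, hσt]; group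
  have hset : (R : Set (Perm (Fin 7))) = (({1, z, t', z * t'} : Finset (Perm (Fin 7))) : Set (Perm (Fin 7))) := by
    ext r
    simp only [SetLike.mem_coe, Finset.coe_insert, Finset.coe_singleton, Set.mem_insert_iff, Set.mem_singleton_iff]
    constructor
    · exact hall r
    · rintro (rfl | rfl | rfl | rfl)
      · exact R.one_mem
      · exact hz
      · exact ht'
      · exact R.mul_mem hz ht'
  have hzt1 : z * t' ≠ 1 := fun h => hzt' (by
    calc z = z * (t' * t') := by rw [ht'2, mul_one]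
      _ = (z * t') * t' := by group
      _ = t' := by rw [h, one_mul])
  have hcard : ({1, z, t', z * t'} : Finset (Perm (Fin 7))).card = 4 := by
    rw [Finset.card_insert_of_notMem, Finset.card_insert_of_notMem, Finset.card_insert_of_notMem,
      Finset.card_singleton]
    · rw [Finset.mem_singleton]
      exact fun h => hz1 (mul_eq_right.mp h.symm)
    · simp only [Finset.mem_insert, Finset.mem_singleton, not_or]
      exact ⟨hzt', fun h => ht'1 (mul_eq_left.mp h.symm)⟩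
    · simp only [Finset.mem_insert, Finset.mem_singleton, not_or]
      exact ⟨hz1.symm, ht'1.symm, hzt1.symm⟩
  have : Nat.card R = Set.ncard (R : Set (Perm (Fin 7))) := rfl
  rw [this, hset, Set.ncard_coe_finset, hcard]

end Cfsg.Agent.UGT.A7.M1
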