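import Cfsg.Agent.UGT.A7.M1.Glue7
import Cfsg.Agent.UGT.A7.M1.CfgTwo
import Cfsg.Agent.UGT.A7.M1.BadSeven
import Cfsg.Agent.UGT.L2Inner.SevenPerm

/-!
# The setting `Sit` for `M / O(M) ≅ A₇`

* `exists_v2`: the labels of a generating four-group are `⟨(01)(23), (01)(45)⟩`.
* `Pre7.replace`: `l` may be replaced by any involution of `M`.
* `Pre7.sit`: the setting.
-/

set_option autoImplicit false
set_option linter.unusedSectionVars false

open Cfsg Subgroup Equiv Equiv.Perm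
open Cfsg.Agent.UAlt
open Cfsg.Agent.SignalizersComponents Cfsg.Agent.Lib
open Cfsg.Agent.SignalizersComponents.IntrinsicBasic
open Cfsg.Agent.SignalizersComponents.PLayerAut
open Cfsg.Agent.Intrinsic.Basic Cfsg.Agent.Intrinsic.Cen Cfsg.Agent.Intrinsic.Diag
open Cfsg.Agent.McLLyComp.Act
open Cfsg.Agent.UGT.Triple Cfsg.Agent.UGT.TriBase Cfsg.Agent.UGT.TMCBase
open Cfsg.Agent.UGT.L2Inner (P7 b1 b2 b3 IsV Four jn relab relab_φ)
open Cfsg.Agent.UGT.A7.M1.Bad (app_comm)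
open scoped commutatorElement

namespace Cfsg.Agent.UGT.A7.M1.Sit7

universe u

theorem ext7 {σ ρ : P7} (h0 : σ 0 = ρ 0) (h1 : σ 1 = ρ 1) (h2 : σ 2 = ρ 2) (h3 : σ 3 = ρ 3)
    (h4 : σ 4 = ρ 4) (h5 : σ 5 = ρ 5) (h6 : σ 6 = ρ 6) : σ = ρ := Bad.ext7 h0 h1 h2 h3 h4 h5 h6

/-- an even involution commuting with `(01)(23)`, not in `V₄`, is conjugate to `(01)(45)` in the centralizer -/
theorem exists_u2 {τ : P7} (h1 : τ * u1 = u1 * τ) (hττ : τ * τ = 1) (hs : sign τ = 1) (hn : ¬ IsV τ) :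
    ∃ g : P7, g * u1 * g⁻¹ = u1 ∧ g * τ * g⁻¹ = u2 := by
  have e1 := app_comm h1
  have hs2 : ∀ i, τ (τ i) = i := fun i => congrArg (fun f : P7 => f i) hττ
  have hfix : ∀ i, u1 i = i → u1 (τ i) = τ i := fun i hi => by rw [← e1, hi]
  have hmov : ∀ i, u1 i ≠ i → u1 (τ i) ≠ τ i := fun i hi h => hi (τ.injective (by rw [e1, h]))
  have m1 : ∀ i : Fin 7, u1 i = i → i = 4 ∨ i = 5 ∨ i = 6 := by decide
  have m2 : ∀ i : Fin 7, u1 i ≠ i → i = 0 ∨ i = 1 ∨ i = 2 ∨ i = 3 := by decide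
  have inj : ∀ {i j : Fin 7}, i ≠ j → τ i ≠ τ j := fun h h' => h (τ.injective h')
  have t1 : τ 1 = u1 (τ 0) := e1 0
  have t3 : τ 3 = u1 (τ 2) := e1 2
  have A : (τ 0 = 0 ∧ τ 1 = 1 ∧ τ 2 = 2 ∧ τ 3 = 3) ∨ (τ 0 = 0 ∧ τ 1 = 1 ∧ τ 2 = 3 ∧ τ 3 = 2) ∨
      (τ 0 = 1 ∧ τ 1 = 0 ∧ τ 2 = 2 ∧ τ 3 = 3) ∨ (τ 0 = 1 ∧ τ 1 = 0 ∧ τ 2 = 3 ∧ τ 3 = 2) ∨
      (τ 0 = 2 ∧ τ 1 = 3 ∧ τ 2 = 0 ∧ τ 3 = 1) ∨ (τ 0 = 3 ∧ τ 1 = 2 ∧ τ 2 = 1 ∧ τ 3 = 0) := by
    have c2 : τ 2 = 0 ∨ τ 2 = 1 ∨ τ 2 = 2 ∨ τ 2 = 3 := m2 _ (hmov 2 (by decide))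
    rcases m2 _ (hmov 0 (by decide)) with c0 | c0 | c0 | c0
    · have t1' : τ 1 = 1 := by rw [t1, c0]; decide
      rcases c2 with c | c | c | c
      · exact absurd (c0.trans c.symm) (inj (by decide))
      · exact absurd (t1'.trans c.symm) (inj (by decide))
      · exact Or.inl ⟨c0, t1', c, by rw [t3, c]; decide⟩
      · exact Or.inr (Or.inl ⟨c0, t1', c, by rw [t3, c]; decide⟩)
    · have t1' : τ 1 = 0 := by rw [t1, c0]; decide
      rcases c2 with c | c | c | c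
      · exact absurd (t1'.trans c.symm) (inj (by decide))
      · exact absurd (c0.trans c.symm) (inj (by decide))
      · exact Or.inr (Or.inr (Or.inl ⟨c0, t1', c, by rw [t3, c]; decide⟩))
      · exact Or.inr (Or.inr (Or.inr (Or.inl ⟨c0, t1', c, by rw [t3, c]; decide⟩)))
    · have t1' : τ 1 = 3 := by rw [t1, c0]; decide
      have t2' : τ 2 = 0 := by rw [← c0, hs2]
      exact Or.inr (Or.inr (Or.inr (Or.inr (Or.inl ⟨c0, t1', t2', by rw [t3, t2']; decide⟩))))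
    · have t1' : τ 1 = 2 := by rw [t1, c0]; decide
      have t3' : τ 3 = 0 := by rw [← c0, hs2]
      have t2' : τ 2 = 1 := by rw [← t1', hs2]
      exact Or.inr (Or.inr (Or.inr (Or.inr (Or.inr ⟨c0, t1', t2', t3'⟩))))
  have B : (τ 4 = 4 ∧ τ 5 = 5 ∧ τ 6 = 6) ∨ (τ 4 = 4 ∧ τ 5 = 6 ∧ τ 6 = 5) ∨ (τ 4 = 5 ∧ τ 5 = 4 ∧ τ 6 = 6) ∨
      (τ 4 = 6 ∧ τ 5 = 5 ∧ τ 6 = 4) := by
    have c5 := m1 _ (hfix 5 (by decide))
    have c6 := m1 _ (hfix 6 (by decide))
    rcases m1 _ (hfix 4 (by decide)) with c4 | c4 | c4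
    · rcases c5 with c | c | c
      · exact absurd (c4.trans c.symm) (inj (by decide))
      · rcases c6 with d | d | d
        · exact absurd (c4.trans d.symm) (inj (by decide))
        · exact absurd (c.trans d.symm) (inj (by decide))
        · exact Or.inl ⟨c4, c, d⟩
      · exact Or.inr (Or.inl ⟨c4, c, by rw [← c, hs2]⟩)
    · have t5 : τ 5 = 4 := by rw [← c4, hs2]
      rcases c6 with d | d | d
      · exact absurd (t5.trans d.symm) (inj (by decide))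
      · exact absurd (c4.trans d.symm) (inj (by decide))
      · exact Or.inr (Or.inr (Or.inl ⟨c4, t5, d⟩))
    · have t6 : τ 6 = 4 := by rw [← c4, hs2]
      rcases c5 with c | c | c
      · exact absurd (t6.trans c.symm) (inj (by decide))
      · exact Or.inr (Or.inr (Or.inr ⟨c4, c, t6⟩))
      · exact absurd (c4.trans c.symm) (inj (by decide))
  rcases A with ⟨a, b, c, d⟩ | ⟨a, b, c, d⟩ | ⟨a, b, c, d⟩ | ⟨a, b, c, d⟩ | ⟨a, b, c, d⟩ | ⟨a, b, c, d⟩ <;>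
    rcases B with ⟨e, f, g⟩ | ⟨e, f, g⟩ | ⟨e, f, g⟩ | ⟨e, f, g⟩
  · have hτ : τ = 1 := ext7 a b c d e f g
    exact absurd (Or.inl hτ) hn
  · have hτ : τ = swap 5 6 := ext7 a b c d e f g
    rw [hτ] at hs
    exact absurd hs (by decide)
  · have hτ : τ = swap 4 5 := ext7 a b c d e f g
    rw [hτ] at hs
    exact absurd hs (by decide)
  · have hτ : τ = swap 4 6 := ext7 a b c d e f g
    rw [hτ] at hs
    exact absurd hs (by decide)
  · have hτ : τ = swap 2 3 := ext7 a b c d e f g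
    rw [hτ] at hs
    exact absurd hs (by decide)
  · have hτ : τ = swap 2 3 * swap 5 6 := ext7 a b c d e f g
    exact ⟨swap 0 2 * swap 1 3 * swap 4 6, by decide, by rw [hτ]; decide⟩
  · have hτ : τ = swap 2 3 * swap 4 5 := ext7 a b c d e f g
    exact ⟨swap 0 2 * swap 1 3, by decide, by rw [hτ]; decide⟩
  · have hτ : τ = swap 2 3 * swap 4 6 := ext7 a b c d e f g
    exact ⟨swap 0 2 * swap 1 3 * swap 5 6, by decide, by rw [hτ]; decide⟩
  · have hτ : τ = swap 0 1 := ext7 a b c d e f g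
    rw [hτ] at hs
    exact absurd hs (by decide)
  · have hτ : τ = swap 0 1 * swap 5 6 := ext7 a b c d e f g
    exact ⟨swap 4 6, by decide, by rw [hτ]; decide⟩
  · have hτ : τ = swap 0 1 * swap 4 5 := ext7 a b c d e f g
    exact ⟨1, by decide, by rw [hτ]; decide⟩
  · have hτ : τ = swap 0 1 * swap 4 6 := ext7 a b c d e f g
    exact ⟨swap 5 6, by decide, by rw [hτ]; decide⟩
  · have hτ : τ = swap 0 1 * swap 2 3 := ext7 a b c d e f g
    exact absurd (Or.inr (Or.inl hτ)) hn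
  · have hτ : τ = swap 0 1 * swap 2 3 * swap 5 6 := ext7 a b c d e f g
    rw [hτ] at hs
    exact absurd hs (by decide)
  · have hτ : τ = swap 0 1 * swap 2 3 * swap 4 5 := ext7 a b c d e f g
    rw [hτ] at hs
    exact absurd hs (by decide)
  · have hτ : τ = swap 0 1 * swap 2 3 * swap 4 6 := ext7 a b c d e f g
    rw [hτ] at hs
    exact absurd hs (by decide)
  · have hτ : τ = swap 0 2 * swap 1 3 := ext7 a b c d e f g
    exact absurd (Or.inr (Or.inr (Or.inl hτ))) hn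
  · have hτ : τ = swap 0 2 * swap 1 3 * swap 5 6 := ext7 a b c d e f g
    rw [hτ] at hs
    exact absurd hs (by decide)
  · have hτ : τ = swap 0 2 * swap 1 3 * swap 4 5 := ext7 a b c d e f g
    rw [hτ] at hs
    exact absurd hs (by decide)
  · have hτ : τ = swap 0 2 * swap 1 3 * swap 4 6 := ext7 a b c d e f g
    rw [hτ] at hs
    exact absurd hs (by decide)
  · have hτ : τ = swap 0 3 * swap 1 2 := ext7 a b c d e f g
    exact absurd (Or.inr (Or.inr (Or.inr hτ))) hn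
  · have hτ : τ = swap 0 3 * swap 1 2 * swap 5 6 := ext7 a b c d e f g
    rw [hτ] at hs
    exact absurd hs (by decide)
  · have hτ : τ = swap 0 3 * swap 1 2 * swap 4 5 := ext7 a b c d e f g
    rw [hτ] at hs
    exact absurd hs (by decide)
  · have hτ : τ = swap 0 3 * swap 1 2 * swap 4 6 := ext7 a b c d e f g
    rw [hτ] at hs
    exact absurd hs (by decide)

variable {G : Type u} [Group G] [Finite G] {l k : G} {M Y Q V : Subgroup G}

theorem exists_move {F : Finset (Fin 7)} (hF : F.card = 3) : ∃ σ ∈ alt (Finset.univ : Finset (Fin 7)),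
    ∃ i ∈ F, σ i ∉ F := by
  obtain ⟨i, hi⟩ : F.Nonempty := by rw [← Finset.card_pos]; omega
  have h1 : 1 < (Fᶜ).card := by rw [Finset.card_compl, Fintype.card_fin]; omega
  obtain ⟨j, hj, k, hk, hjk⟩ := Finset.one_lt_card.mp h1
  rw [Finset.mem_compl] at hj hk
  have hij : i ≠ j := by rintro rfl; exact hj hi
  have hik : i ≠ k := by rintro rfl; exact hk hi
  refine ⟨swap i j * swap i k, ?_, i, hi, ?_⟩
  · rw [alt_univ, mem_alternatingGroup, Perm.sign_mul, sign_swap hij, sign_swap hik]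
    decide
  · rw [Perm.mul_apply, swap_apply_left, swap_apply_of_ne_of_ne hik.symm hjk.symm]
    exact hk

/-- a generating four-group is not regular -/
theorem not_reg {L V : Subgroup G} (hG : Gd L V) (M : Lab L) {F : Finset (Fin 7)} (hF : F.card = 3)
    (h : ∀ v ∈ V, v ≠ 1 → fixIn (Finset.univ : Finset (Fin 7)) (M.φ v) = F) : False := by
  let H : Subgroup G :=
    { carrier := {m | m ∈ L ∧ ∀ i, M.φ m i ∈ F ↔ i ∈ F}
      mul_mem' := by
        rintro a b ⟨ha, ha'⟩ ⟨hb, hb'⟩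
        refine ⟨mul_mem ha hb, fun i => ?_⟩
        rw [M.mul _ _ (le_normalizer ha) (le_normalizer hb), Perm.mul_apply, ha', hb']
      one_mem' := ⟨one_mem _, fun i => by rw [M.one]; rfl⟩
      inv_mem' := by
        rintro a ⟨ha, ha'⟩
        refine ⟨inv_mem ha, fun i => ?_⟩
        rw [M.inv (le_normalizer ha), ← ha', show M.φ a ((M.φ a)⁻¹ i) = i from (M.φ a).apply_symm_apply i] }
  have h1 : L ≤ H := by
    refine hG.gen H fun v hv hv1 m hm => ⟨hm.1, fun i => ?_⟩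
    have hc := M.comm (le_normalizer hm.1) (le_normalizer (hG.le hv)) (Triple.comm_c hm.2)
    have hc' : M.φ m (M.φ v i) = M.φ v (M.φ m i) := congrArg (fun z : P7 => z i) hc
    have hfx : ∀ j, j ∈ F ↔ M.φ v j = j := fun j => by
      rw [← h v hv hv1, mem_fixIn]
      simp
    rw [hfx, hfx, ← hc']
    exact (M.φ m).injective.eq_iff
  obtain ⟨σ, hσ, i, hi, hi'⟩ := exists_move hF
  obtain ⟨m, hm, rfl⟩ := M.lift σ hσ
  exact hi' (((h1 hm).2 i).mpr hi)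

/-- the labels of a generating four-group -/
theorem exists_v2 (hG : Gd M V) (ℓ : Lab M) {t t' : G} (ht : t ∈ V) (ht' : t' ∈ V) (t1 : t ≠ 1) (t1' : t' ≠ 1)
    (hne : t' ≠ t) : ∃ ℓ' : Lab M, ℓ'.φ t = u1 ∧ ℓ'.φ t' = u2 := by
  have htM := hG.le ht
  have htM' := hG.le ht'
  have hroot : ∀ v ∈ V, v ≠ 1 → Cfsg.Agent.StdAlt.Roots.IsRoot (ℓ.φ v) := by
    intro v hv hv1
    have hvM := hG.le hv
    have hvv := hG.four.elem v hv
    refine Star.isRoot_of_even (ℓ.sq (le_normalizer hvM) hvv) (fun h => hv1 ?_) ?_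
    · exact eq_one_of_mem_core_sq ((ℓ.core_iff v hvM).mp h) hvv
    · have := ℓ.mem_alt v hvM
      rwa [alt_univ] at this
  have hr1 : Cfsg.Agent.StdAlt.Roots.IsRoot u1 :=
    Star.isRoot_of_even (by decide) (by decide) (by rw [mem_alternatingGroup]; decide)
  obtain ⟨g, -, hg⟩ := Glue.exists_alt_conj (A := Finset.univ) (hroot t ht t1) hr1
    (fun x hx => absurd (Finset.mem_univ x) hx) (fun x hx => absurd (Finset.mem_univ x) hx)
  obtain ⟨ℓ1, hℓ1⟩ : ∃ ℓ1, ℓ1 = relab ℓ g := ⟨_, rfl⟩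
  have h1 : ℓ1.φ t = u1 := by rw [hℓ1, relab_φ, hg]
  have hc : ℓ1.φ t' * u1 = u1 * ℓ1.φ t' := by
    rw [← h1]
    exact ℓ1.comm (le_normalizer htM') (le_normalizer htM) (L2Inner.comm_of_sq hG.four.elem ht' ht)
  have h2 : ℓ1.φ t' * ℓ1.φ t' = 1 := ℓ1.sq (le_normalizer htM') (hG.four.elem t' ht')
  have hs : sign (ℓ1.φ t') = 1 := (ℓ1.mem_alt t' htM').1
  by_cases hV : IsV (ℓ1.φ t')
  · exfalso
    have hinj : ∀ v ∈ V, v ≠ 1 → ℓ1.φ v ≠ 1 := fun v hv hv1 h =>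
      hv1 (eq_one_of_mem_core_sq ((ℓ1.core_iff v (hG.le hv)).mp h) (hG.four.elem v hv))
    have hfx : ∀ {σ : P7}, IsV σ → σ ≠ 1 → fixIn (Finset.univ : Finset (Fin 7)) σ = {4, 5, 6} := by
      intro σ hσ hσ1
      rcases hσ with rfl | rfl | rfl | rfl
      · exact absurd rfl hσ1
      all_goals decide
    refine not_reg hG ℓ1 (F := {4, 5, 6}) (by decide) fun v hv hv1 => hfx ?_ (hinj v hv hv1)
    rcases hG.four.mem_cases ht ht' t1 t1' hne hv with rfl | rfl | rfl | rfl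
    · exact absurd rfl hv1
    · rw [h1]; exact Or.inr (Or.inl rfl)
    · exact hV
    · rw [ℓ1.mul _ _ (le_normalizer htM) (le_normalizer htM')]
      refine L2Inner.IsV.mul ?_ hV
      rw [h1]; exact Or.inr (Or.inl rfl)
  · obtain ⟨g', h3, h4⟩ := exists_u2 hc h2 hs hV
    exact ⟨relab ℓ1 g', by rw [relab_φ, h1, h3], by rw [relab_φ, h4]⟩

omit [Finite G] in
theorem conj_mul_of_comm {m l k : G} (h : k * m = m * k) : m * (l * k) * m⁻¹ = m * l * m⁻¹ * k := by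
  have h1 : m * k * m⁻¹ = k := by rw [← h, mul_inv_cancel_right]
  calc m * (l * k) * m⁻¹ = m * l * m⁻¹ * (m * k * m⁻¹) := by group
    _ = m * l * m⁻¹ * k := by rw [h1]

/-- `l` may be replaced by any involution of `M` -/
theorem replace (h : Pre7 l k M Q) {l' : G} (hl : l' ∈ M) (hll : l' * l' = 1) (hl1 : l' ≠ 1) : Pre7 l' k M Q := by
  obtain ⟨Mo⟩ := h.a7
  obtain ⟨m, hm, rfl⟩ := A7.Star.exists_conj_inv Mo h.lM hl h.ll hll h.l1 hl1
  refine { self := h.self, a7 := ⟨Mo⟩, comm := h.comm, two := h.two, src := h.src, lM := hl, ll := hll,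
           l1 := hl1, kQ := h.kQ, kk := h.kk, kc := h.kc, max := h.max, rk := h.rk, good := ?_ }
  intro y hy hyy
  obtain ⟨L, hL, hML, hs⟩ := h.good y hy hyy
  refine ⟨L, ?_, hML, hs⟩
  have h1 := cj7 hL m
  rw [conj_mul_of_comm (h.comm k h.kQ m hm), cj_eq_self_of_mem (hML hm)] at h1
  have h2 : m * y * m⁻¹ = y := by rw [← h.comm y hy m hm, mul_inv_cancel_right]
  rwa [h2] at h1

/-- the setting -/
theorem sit (h : Pre7 l k M Q) (hP7 : Mu.Pump7 G) (hY : Four Y) (hYQ : Y ≤ Q) (hk : k ∈ Y) (hV : Four V)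
    (hVM : V ≤ M) (hl : l ∈ V) : Cfg7.Sit (centralizer ({l * k} : Set G)) (Mu.T7 (l * k)) M Y V where
  toFr := h.fr hY hYQ hV hVM
  fam := fam7 hP7 (l * k)
  famY y hy hy1 := h.good y (hYQ hy) (L2Inner.order_two (hY.elem y hy) hy1)
  gt y N hN := by
    obtain ⟨MN⟩ := hN.a7
    exact GT.of_lab MN
  gg j hj := by
    have h1 := hj k ((le_sup_left : Y ≤ Y ⊔ V) hk)
    have h2 := hj l ((le_sup_right : V ≤ Y ⊔ V) hl)
    exact Triple.mem_c (Commute.mul_right (h2 : Commute j l) (h1 : Commute j k))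

/-- exact lifting of the cyclic action on a four-group -/
theorem exists_cyc_of {y t t' : G} (hy : y ∈ M) (htM : t ∈ M) (htM' : t' ∈ M) (htt : t * t = 1) (htt' : t' * t' = 1)
    (hcomm : t * t' = t' * t) (e1 : (y * t * y⁻¹)⁻¹ * t' ∈ core M) (e2 : (y * t' * y⁻¹)⁻¹ * (t * t') ∈ core M) :
    ∃ d ∈ M, d * t * d⁻¹ = t' ∧ d * t' * d⁻¹ = t * t' := by
  have hsq : ∀ v : G, v * v = 1 → (y * v * y⁻¹) * (y * v * y⁻¹) = 1 := by
    intro v hv
    calc y * v * y⁻¹ * (y * v * y⁻¹) = y * (v * v) * y⁻¹ := by group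
      _ = 1 := by rw [hv]; group
  rw [inv_eq_of_mul_eq_one_left (hsq t htt)] at e1
  obtain ⟨w₁, hw₁, hwt⟩ := SL.conj_of_coset (odd_card_core M) (hsq t htt) htt' e1
  obtain ⟨s, hs⟩ : ∃ s, s = w₁ * (y * t' * y⁻¹) * w₁⁻¹ := ⟨_, rfl⟩
  have hww : ∀ v : G, v * v = 1 → (w₁ * v * w₁⁻¹) * (w₁ * v * w₁⁻¹) = 1 := by
    intro v hv
    calc w₁ * v * w₁⁻¹ * (w₁ * v * w₁⁻¹) = w₁ * (v * v) * w₁⁻¹ := by group
      _ = 1 := by rw [hv]; group
  have hss : s * s = 1 := hs ▸ hww _ (hsq t' htt')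
  have hst : s * t' = t' * s := by
    have h5 : s * (w₁ * (y * t * y⁻¹) * w₁⁻¹) = (w₁ * (y * t * y⁻¹) * w₁⁻¹) * s := by
      rw [hs]
      calc w₁ * (y * t' * y⁻¹) * w₁⁻¹ * (w₁ * (y * t * y⁻¹) * w₁⁻¹) = w₁ * y * (t' * t) * y⁻¹ * w₁⁻¹ := by group
        _ = w₁ * y * (t * t') * y⁻¹ * w₁⁻¹ := by rw [hcomm]
        _ = w₁ * (y * t * y⁻¹) * w₁⁻¹ * (w₁ * (y * t' * y⁻¹) * w₁⁻¹) := by group
    rwa [hwt] at h5
  have htts : (t * t') * (t * t') = 1 := by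
    calc (t * t') * (t * t') = t * (t' * t) * t' := by group
      _ = (t * t) * (t' * t') := by rw [← hcomm]; group
      _ = 1 := by rw [htt, htt', one_mul]
  -- `s ≡ t t'`
  have h3 : s * (t * t') ∈ core M := by
    have h4 : y * t' * y⁻¹ * (t * t') ∈ core M := by
      rwa [inv_eq_of_mul_eq_one_left (hsq t' htt')] at e2
    have h5 : s * (t * t') = w₁ * ((y * t' * y⁻¹ * (t * t')) * ((t * t') * w₁⁻¹ * (t * t')⁻¹)) := by
      rw [hs]
      have : (t * t')⁻¹ = t * t' := inv_eq_of_mul_eq_one_left htts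
      calc w₁ * (y * t' * y⁻¹) * w₁⁻¹ * (t * t')
          = w₁ * (y * t' * y⁻¹) * ((t * t') * (t * t')) * w₁⁻¹ * (t * t') := by rw [htts, mul_one]
        _ = w₁ * ((y * t' * y⁻¹ * (t * t')) * ((t * t') * w₁⁻¹ * (t * t'))) := by group
        _ = _ := by rw [this]
    rw [h5]
    refine mul_mem hw₁ (mul_mem h4 ?_)
    exact conj_mem_core (le_normalizer (M.mul_mem htM htM')) (inv_mem hw₁)
  have h4 : s * (t * t') ∈ core M ⊓ centralizer ({t'} : Set G) := by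
    refine ⟨h3, Triple.mem_c ?_⟩
    calc s * (t * t') * t' = s * (t * (t' * t')) := by group
      _ = s * (t' * (t' * t)) := by rw [← mul_assoc t' t' t, htt', mul_one, one_mul]
      _ = (s * t') * (t' * t) := by group
      _ = t' * (s * (t * t')) := by rw [hst, hcomm]; group
  have hodd : Odd (Nat.card ↥(core M ⊓ centralizer ({t'} : Set G))) :=
    Odd.of_dvd_nat (odd_card_core M) (Subgroup.card_dvd_of_le inf_le_left)
  obtain ⟨w₂, hw₂, hw⟩ := SL.conj_of_coset hodd hss htts h4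
  refine ⟨w₂ * (w₁ * y), mul_mem (core_le M hw₂.1) (mul_mem (core_le M hw₁) hy), ?_, ?_⟩
  · have h5 : w₂ * t' = t' * w₂ := Triple.comm_c hw₂.2
    calc w₂ * (w₁ * y) * t * (w₂ * (w₁ * y))⁻¹ = w₂ * (w₁ * (y * t * y⁻¹) * w₁⁻¹) * w₂⁻¹ := by group
      _ = w₂ * t' * w₂⁻¹ := by rw [hwt]
      _ = t' := by rw [h5, mul_inv_cancel_right]
  · calc w₂ * (w₁ * y) * t' * (w₂ * (w₁ * y))⁻¹ = w₂ * (w₁ * (y * t' * y⁻¹) * w₁⁻¹) * w₂⁻¹ := by group
      _ = w₂ * s * w₂⁻¹ := by rw [hs]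
      _ = t * t' := hw

/-- `(01)(23) → (01)(45) → (23)(45)` -/
theorem cyc_of_lab (ℓ : Lab M) {t t' : G} (htM : t ∈ M) (htM' : t' ∈ M) (htt : t * t = 1) (htt' : t' * t' = 1)
    (hcomm : t * t' = t' * t) (h1 : ℓ.φ t = u1) (h2 : ℓ.φ t' = u2) :
    ∃ d ∈ M, d * t * d⁻¹ = t' ∧ d * t' * d⁻¹ = t * t' := by
  obtain ⟨σ, hσ⟩ : ∃ σ : P7, σ = swap 0 2 * swap 1 3 * (swap 0 4 * swap 1 5) := ⟨_, rfl⟩
  obtain ⟨y, hy, hyσ⟩ := ℓ.lift σ (by rw [alt_univ, mem_alternatingGroup, hσ]; decide)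
  have hyN := le_normalizer (H := M) hy
  have htN := le_normalizer (H := M) htM
  have htN' := le_normalizer (H := M) htM'
  have hyM : ∀ v ∈ M, y * v * y⁻¹ ∈ M := fun v hv => M.mul_mem (M.mul_mem hy hv) (M.inv_mem hy)
  refine exists_cyc_of hy htM htM' htt htt' hcomm ?_ ?_
  · rw [← ℓ.eq_iff (hyM t htM) htM', ℓ.conj hyN htN, h1, h2, hyσ, hσ]
    decide
  · rw [← ℓ.eq_iff (hyM t' htM') (M.mul_mem htM htM'), ℓ.conj hyN htN', ℓ.mul _ _ htN htN', h1, h2, hyσ, hσ]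
    decide

end Cfsg.Agent.UGT.A7.M1.Sit7
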