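import Cfsg.Agent.UGT.A7.M1.TAll
import Cfsg.Agent.UGT.TT.End

/-!
# THEOREM M1 (helper179 #14042), `n ≥ 2`: the end

`false_of_two7`: a side of type `A₇` (facts `TF Q`) with at least two components satisfying (T1) and (T2) does not exist in
a group `G` with `O(G) = 1` and a normal simple subgroup `X` with `C_G(X) = 1`.
-/

set_option autoImplicit false

namespace Cfsg.Agent.UGT.A7.M1.TEnd

open Subgroup
open Cfsg.Agent.UGT Cfsg.Agent.UGT.TT Cfsg.Agent.UGT.A7.M1.TSwap Cfsg.Agent.UGT.A7.M1.TNoAdj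
open Cfsg.Agent.UGT.A7.M1.TAll

universe u v w

variable {G : Type u} [Group G] {Q : Type v} [Group Q] {ι : Type w}

theorem base7 (T : TF Q) : TBase Q := ⟨T.fin, T.simple, T.nab, T.inv, T.four⟩

/-- **THEOREM M1, at least two components.** -/
theorem false_of_two7 [Finite G] [Nontrivial ι] {S : Side G Q ι} (h : S.Ok) (T : TF Q)
    (t2 : ∀ (g : G) (i j : ι) (y : G), S.Ind i y 1 → S.Ind j (g⁻¹ * y * g) 1 → y * y = 1 → y ≠ 1 → g ∈ S.H)
    (hO : Cfsg.oddCore G = ⊥) {X : Subgroup G} (hX : X.Normal) (hXs : IsSimpleGroup X)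
    (hXc : centralizer (X : Set G) = ⊥) : False :=
  h.false_of_na (base7 T) (fun _ hg _ _ hv hv' hv2 => noAdj_conj7 h T t2 hg hv hv' hv2)
    (fun ⟨_, _, _, h1, h2, h3⟩ _ hg _ _ hy hy' hy2 => noAdj_all_conj7 h T h1 h2 h3 t2 hg hy hy' hy2) hO hX hXs hXc

end Cfsg.Agent.UGT.A7.M1.TEnd
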