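import Cfsg.Agent.UGT.A7.M1.TSwap
import Cfsg.Agent.UGT.A7.M1.Reg
import Cfsg.Agent.UGT.A7.Star
import Cfsg.Agent.UAlt.AltCent
import Cfsg.Agent.UAlt.ModExists

/-!
# THEOREM M1 (helper179 #14042): the facts `TF` for `A₇`

`tf7 : TF (alternatingGroup (Fin 7))`.
-/

set_option autoImplicit false

open Cfsg Subgroup Equiv Equiv.Perm
open Cfsg.Agent.UAlt
open Cfsg.Agent.StdAlt.PermTypes (cyc cyc_conj)
open Cfsg.Agent.UGT.A7.M1.TSwap (TF)
open scoped commutatorElement

namespace Cfsg.Agent.UGT.A7.M1.TFacts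

open Cfsg.Agent.UGT.A7.M1.RegPf

/-- a perfect group preserving a set of at most four points acts trivially on it -/
theorem perfect_fix {E : Subgroup (Perm (Fin 7))} (hE : E ≤ ⁅E, E⁆) {T : Finset (Fin 7)} (hT : T.card ≤ 4)
    (hp : ∀ g ∈ E, ∀ x, g x ∈ T ↔ x ∈ T) {g : Perm (Fin 7)} (hg : g ∈ E) {x : Fin 7} (hx : x ∈ T) : g x = x := by
  have hsol : Group.IsSolvable (Perm T) := Schreier.Tools.isSolvable_perm_of_card_le_four T (by
    rw [Nat.card_eq_fintype_card, Fintype.card_coe]; exact hT)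
  let f : ↥E →* Perm T :=
    { toFun := fun h => (h : Perm (Fin 7)).subtypePerm (hp h h.2)
      map_one' := by ext y; rfl
      map_mul' := fun a b => by ext y; rfl }
  have hperf : ⁅f.range, f.range⁆ = f.range := by
    have h1 : (⊤ : Subgroup ↥E) ≤ ⁅(⊤ : Subgroup ↥E), ⊤⁆ := by
      have h2 : (⁅(⊤ : Subgroup ↥E), ⊤⁆ : Subgroup ↥E).map E.subtype = ⁅E, E⁆ := by
        rw [map_commutator, ← MonoidHom.range_eq_map, E.range_subtype]
      intro y _
      have h3 : (y : Perm (Fin 7)) ∈ (⁅(⊤ : Subgroup ↥E), ⊤⁆ : Subgroup ↥E).map E.subtype := by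
        rw [h2]; exact hE y.2
      obtain ⟨z, hz, hzy⟩ := h3
      rwa [← Subtype.ext hzy]
    have h2 : ⁅(⊤ : Subgroup ↥E), ⊤⁆ = ⊤ := top_le_iff.mp h1
    rw [MonoidHom.range_eq_map, ← map_commutator, h2]
  have hbot : f.range = ⊥ := by
    by_contra hne
    have : Group.IsSolvable f.range := inferInstance
    exact not_solvable_of_perfect hperf hne this
  have h1 : f ⟨g, hg⟩ ∈ f.range := ⟨_, rfl⟩
  rw [hbot, mem_bot] at h1
  have h2 := congrArg (fun p : Perm T => ((p ⟨x, hx⟩ : T) : Fin 7)) h1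
  exact h2

/-- a permutation of order dividing 4 preserving a set of three points -/
theorem sq_fix {w : Perm (Fin 7)} {U : Finset (Fin 7)} (hU : U.card = 3) (hw : ∀ x ∈ U, w x ∈ U) (h4 : w ^ 4 = 1)
    {y : Fin 7} (hy : y ∈ U) : w (w y) = y := by
  by_contra hne
  have hu2 : (w * w) * (w * w) = 1 := by
    rw [← h4]; simp only [pow_succ, pow_zero, one_mul, mul_assoc]
  have huu : ∀ x, w (w (w (w x))) = x := fun x => by
    have := congrArg (fun p : Perm (Fin 7) => p x) hu2
    simpa using this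
  set U' := U.filter fun x => w (w x) ≠ x with hU'
  have hwU' : ∀ x ∈ U', w x ∈ U' := by
    intro x hx
    obtain ⟨h1, h2⟩ := Finset.mem_filter.mp hx
    exact Finset.mem_filter.mpr ⟨hw x h1, fun h => h2 (w.injective h)⟩
  have hev : Even U'.card := even_of_moved (u := w * w) (fun x hx => hwU' _ (hwU' x hx)) hu2
    (fun x hx => (Finset.mem_filter.mp hx).2)
  have hyU' : y ∈ U' := Finset.mem_filter.mpr ⟨hy, hne⟩
  have hle : U'.card ≤ 2 := by
    have h1 : U'.card ≤ 3 := hU ▸ Finset.card_le_card (Finset.filter_subset _ _)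
    obtain ⟨k, hk⟩ := hev
    omega
  have heq : ({y, w (w y)} : Finset (Fin 7)) = U' := by
    apply Finset.eq_of_subset_of_card_le
    · intro x hx
      rcases Finset.mem_insert.mp hx with rfl | hx
      · exact hyU'
      · rw [Finset.mem_singleton.mp hx]
        exact hwU' _ (hwU' _ hyU')
    · rw [Finset.card_insert_of_notMem (by rw [Finset.mem_singleton]; exact fun h => hne h.symm),
        Finset.card_singleton]
      exact hle
  have h1 := hwU' y hyU'
  rw [← heq, Finset.mem_insert, Finset.mem_singleton] at h1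
  rcases h1 with h1 | h1
  · exact hne (by rw [h1, h1])
  · have h2 := w.injective h1
    exact hne (by rw [← h2, ← h2])

/-- two involutory permutations commuting with an element of order 4 of `S₇` and generating a 2-group commute -/
theorem rank7 {a b c : Perm (Fin 7)} (ha4 : a ^ 4 = 1) (ha2 : a ^ 2 ≠ 1) (hb : b * b = 1) (hc : c * c = 1)
    (hbc : (b * c) ^ 4 = 1) (hab : a * b = b * a) (hac : a * c = c * a) : b * c = c * b := by
  obtain ⟨x, hx⟩ : ∃ x, a (a x) ≠ x := by
    by_contra h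
    push Not at h
    apply ha2
    ext y
    rw [pow_two, Perm.mul_apply, h y]; rfl
  have haa : ∀ y, a (a (a (a y))) = y := fun y => by
    have := congrArg (fun p : Perm (Fin 7) => p y) ha4
    simpa [pow_succ] using this
  -- the orbit of `x`
  have n01 : x ≠ a x := fun h => hx (by rw [← h, ← h])
  have n02 : x ≠ a (a x) := fun h => hx h.symm
  have n03 : x ≠ a (a (a x)) := fun h => hx (by
    have h1 : a x = x := by
      calc a x = a (a (a (a x))) := by rw [← h]
        _ = x := haa x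
    rw [h1, h1])
  have n12 : a x ≠ a (a x) := fun h => n01 (a.injective h)
  have n13 : a x ≠ a (a (a x)) := fun h => n02 (a.injective h)
  have n23 : a (a x) ≠ a (a (a x)) := fun h => n12 (a.injective h)
  set O : Finset (Fin 7) := {x, a x, a (a x), a (a (a x))} with hO
  have hOc : O.card = 4 := by
    rw [hO, Finset.card_insert_of_notMem, Finset.card_insert_of_notMem, Finset.card_insert_of_notMem,
      Finset.card_singleton]
    · simp [n23]
    · simp [n12, n13]
    · simp [n01, n02, n03]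
  have hmemO : ∀ y, y ∈ O ↔ y = x ∨ y = a x ∨ y = a (a x) ∨ y = a (a (a x)) := by
    intro y; rw [hO]; simp
  have haO : ∀ y ∈ O, a y ∈ O := by
    intro y hy
    rw [hmemO] at hy ⊢
    rcases hy with rfl | rfl | rfl | rfl
    · exact Or.inr (Or.inl rfl)
    · exact Or.inr (Or.inr (Or.inl rfl))
    · exact Or.inr (Or.inr (Or.inr rfl))
    · exact Or.inl (haa x)
  have hUc : (Oᶜ).card = 3 := by
    rw [Finset.card_compl, Fintype.card_fin, hOc]
  -- a permutation preserving `O` preserves its complement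
  have hcompl : ∀ u : Perm (Fin 7), (∀ y ∈ O, u y ∈ O) → ∀ y ∈ Oᶜ, u y ∈ Oᶜ := by
    intro u hu y hy
    rw [Finset.mem_compl] at hy ⊢
    intro h
    have h1 : O.map u.toEmbedding = O := by
      apply Finset.eq_of_subset_of_card_le
      · intro z hz
        obtain ⟨z', hz', rfl⟩ := Finset.mem_map.mp hz
        exact hu z' hz'
      · rw [Finset.card_map]
    rw [← h1] at h
    obtain ⟨z', hz', h2⟩ := Finset.mem_map.mp h
    exact hy (by rwa [← u.injective h2])
  have hU2 : ∀ y ∈ Oᶜ, a (a y) = y := fun y hy => sq_fix hUc (hcompl a haO) ha4 hy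
  -- an element commuting with `a` acts on `O` as a power of `a`
  have key : ∀ u : Perm (Fin 7), a * u = u * a → u x ∈ O := by
    intro u hu
    by_contra h
    have h1 := hU2 (u x) (Finset.mem_compl.mpr h)
    have h2 : ∀ y, a (u y) = u (a y) := fun y => by rw [← Perm.mul_apply, hu, Perm.mul_apply]
    rw [h2, h2] at h1
    exact hx (u.injective h1)
  have key2 : ∀ u : Perm (Fin 7), a * u = u * a → ∃ n : ℕ, ∀ y ∈ O, u y = (a ^ n) y := by
    intro u hu
    have h2 : ∀ y, a (u y) = u (a y) := fun y => by rw [← Perm.mul_apply, hu, Perm.mul_apply]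
    have h3 : ∃ n : ℕ, u x = (a ^ n) x := by
      have h4 := key u hu
      rw [hmemO] at h4
      rcases h4 with h | h | h | h
      · exact ⟨0, h⟩
      · exact ⟨1, h⟩
      · exact ⟨2, h⟩
      · exact ⟨3, h⟩
    obtain ⟨n, hn⟩ := h3
    have hcn : ∀ y, (a ^ n) (a y) = a ((a ^ n) y) := fun y => by
      rw [← Perm.mul_apply, ← Perm.mul_apply, ← pow_succ, ← pow_succ']
    refine ⟨n, fun y hy => ?_⟩
    rw [hmemO] at hy
    rcases hy with rfl | rfl | rfl | rfl
    · exact hn
    · rw [← h2, hn, hcn]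
    · rw [← h2, ← h2, hn, hcn, hcn]
    · rw [← h2, ← h2, ← h2, hn, hcn, hcn, hcn]
  obtain ⟨n, hn⟩ := key2 b hab.symm.symm
  obtain ⟨m, hm⟩ := key2 c hac.symm.symm
  have hpow : ∀ (k : ℕ), ∀ y ∈ O, (a ^ k) y ∈ O := by
    intro k
    induction k with
    | zero => intro y hy; exact hy
    | succ k ih =>
      intro y hy
      rw [pow_succ', Perm.mul_apply]
      exact haO _ (ih y hy)
  have hbO : ∀ y ∈ O, b y ∈ O := fun y hy => by rw [hn y hy]; exact hpow n y hy
  have hcO : ∀ y ∈ O, c y ∈ O := fun y hy => by rw [hm y hy]; exact hpow m y hy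
  have hcomm : ∀ y ∈ O, b (c y) = c (b y) := by
    intro y hy
    rw [hm y hy, hn y hy, hn _ (hpow m y hy), hm _ (hpow n y hy), ← Perm.mul_apply, ← Perm.mul_apply, ← pow_add,
      ← pow_add, add_comm]
  have hsq : (b * c) * (b * c) = 1 := by
    ext y
    congr 1
    show b (c (b (c y))) = y
    by_cases hy : y ∈ O
    · have h1 : c (b (c y)) = b (c (c y)) := (hcomm _ (hcO y hy)).symm
      have h2 : ∀ z, c (c z) = z := fun z => by rw [← Perm.mul_apply, hc]; rfl
      have h3 : ∀ z, b (b z) = z := fun z => by rw [← Perm.mul_apply, hb]; rfl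
      rw [h1, h2, h3]
    · exact sq_fix (w := b * c) hUc (fun z hz => hcompl b hbO _ (hcompl c hcO z hz)) hbc (Finset.mem_compl.mpr hy)
  have h1 : b * c = (b * c)⁻¹ := eq_inv_of_mul_eq_one_left hsq
  rw [h1, mul_inv_rev, inv_eq_of_mul_eq_one_left hb, inv_eq_of_mul_eq_one_left hc]

/-- involutions of `S₇` -/
theorem inv_std {a : Perm (Fin 7)} (ha : a * a = 1) (ha1 : a ≠ 1) :
    (∃ i j : Fin 7, i ≠ j ∧ a = swap i j) ∨ ∃ σ : Perm (Fin 7), a = σ * z0 * σ⁻¹ ∨ a = σ * (z0 * swap 4 5) * σ⁻¹ := by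
  have haa : ∀ x, a (a x) = x := fun x => by rw [← Perm.mul_apply, ha]; rfl
  obtain ⟨i, hi⟩ : ∃ i, a i ≠ i := by
    by_contra h
    push Not at h
    exact ha1 (Equiv.ext h)
  by_cases h : ∀ k, k ≠ i → k ≠ a i → a k = k
  · left
    refine ⟨i, a i, hi.symm, ?_⟩
    ext k
    congr 1
    by_cases h1 : k = i
    · rw [h1, swap_apply_left]
    · by_cases h2 : k = a i
      · rw [h2, swap_apply_right, haa]
      · rw [swap_apply_of_ne_of_ne h1 h2, h k h1 h2]
  · right
    push Not at h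
    obtain ⟨k, hki, hkai, hk⟩ := h
    have d1 : i ≠ a k := fun h => hkai (by rw [h, haa])
    have d2 : a i ≠ a k := fun h => hki (a.injective h).symm
    have hx := dbl_sq (i := i) (j := k) (k := a i) (l := a k) hki.symm hi.symm d1 hkai hk.symm d2
    obtain ⟨x1, x2, x3, x4⟩ := dbl_apply (i := i) (j := k) (k := a i) (l := a k) hi.symm d1 hkai hk.symm
    set x : Perm (Fin 7) := swap i k * swap (a i) (a k) with hxd
    have hcomm : a * x = x * a := by
      have h1 : a * x * a⁻¹ = swap (a i) (a k) * swap i k := by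
        calc a * x * a⁻¹ = (a * swap i k * a⁻¹) * (a * swap (a i) (a k) * a⁻¹) := by rw [hxd]; group
          _ = swap (a i) (a k) * swap i k := by rw [← swap_apply_apply, ← swap_apply_apply, haa, haa]
      have h2 : swap (a i) (a k) * swap i k = x := by
        have h3 := swap_apply_apply (swap (a i) (a k)) i k
        rw [swap_apply_of_ne_of_ne hi.symm d1, swap_apply_of_ne_of_ne hkai hk.symm] at h3
        calc swap (a i) (a k) * swap i k
            = (swap (a i) (a k) * swap i k * (swap (a i) (a k))⁻¹) * swap (a i) (a k) := by group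
          _ = _ := by rw [← h3]
      rw [h2] at h1
      calc a * x = (a * x * a⁻¹) * a := by group
        _ = x * a := by rw [h1]
    obtain ⟨e, he1, he2⟩ := exists_fixed ha hx hcomm
    obtain ⟨σ, h0, h1, h2, h3, h6⟩ := exists_label ha hx hcomm (a := i) (e := e) hi (by rw [x1]; exact hki)
      (by rw [x1]; exact d1.symm) he1 he2
    have := (std_form ha hx hcomm h0 h1 h2 h3 h6 he1 he2).1
    refine ⟨σ, ?_⟩
    rcases this with h | h
    · left
      rw [← h]; group
    · right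
      rw [← h]; group

theorem alt_root {q : Perm (Fin 7)} (hq : q ∈ alternatingGroup (Fin 7)) (h2 : q * q = 1) (h1 : q ≠ 1) :
    ∃ σ : Perm (Fin 7), q = σ * z0 * σ⁻¹ := by
  rcases inv_std h2 h1 with ⟨i, j, hij, rfl⟩ | ⟨σ, h | h⟩
  · exfalso
    rw [mem_alternatingGroup, sign_swap hij] at hq
    exact absurd hq (by decide)
  · exact ⟨σ, h⟩
  · exfalso
    rw [mem_alternatingGroup, h, map_mul, map_mul, map_inv, mul_comm, ← mul_assoc, inv_mul_cancel, one_mul] at hq
    exact absurd hq (by decide)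

/-- the centralizer of an involution of `A₇` contains no perfect group -/
theorem perfect_cent {E : Subgroup (Perm (Fin 7))} (hE : E ≤ ⁅E, E⁆) {q : Perm (Fin 7)}
    (hq : q ∈ alternatingGroup (Fin 7)) (h2 : q * q = 1) (h1 : q ≠ 1) (hc : ∀ g ∈ E, g * q = q * g) : E = ⊥ := by
  obtain ⟨σ, hσ⟩ := alt_root hq h2 h1
  have key : ∀ y : Fin 7, q (σ y) = σ (z0 y) := by
    intro y
    rw [hσ, Perm.mul_apply, Perm.mul_apply, ← Perm.mul_apply σ⁻¹ σ, inv_mul_cancel, Perm.one_apply]
  set T : Finset (Fin 7) := Finset.univ.filter fun x => q x ≠ x with hT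
  have hTm : ∀ x, x ∈ T ↔ q x ≠ x := fun x => by rw [hT]; simp
  have hTeq : T = ({0, 1, 2, 3} : Finset (Fin 7)).map σ.toEmbedding := by
    ext x
    obtain ⟨y, rfl⟩ := σ.surjective x
    rw [hTm, key, Finset.mem_map]
    simp only [ne_eq, σ.injective.eq_iff, Equiv.coe_toEmbedding, exists_eq_right]
    clear key
    revert y
    decide
  have hTc : T.card = 4 := by
    rw [hTeq, Finset.card_map]; rfl
  have hTc' : (Tᶜ).card ≤ 4 := by
    rw [Finset.card_compl, Fintype.card_fin, hTc]; norm_num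
  have hp : ∀ g ∈ E, ∀ x, g x ∈ T ↔ x ∈ T := by
    intro g hg x
    rw [hTm, hTm]
    have h3 : q (g x) = g (q x) := by rw [← Perm.mul_apply, ← hc g hg, Perm.mul_apply]
    rw [h3, ne_eq, ne_eq, g.injective.eq_iff]
  rw [eq_bot_iff]
  intro g hg
  rw [mem_bot]
  ext x
  congr 1
  by_cases hx : x ∈ T
  · exact perfect_fix hE hTc.le hp hg hx
  · refine perfect_fix (T := Tᶜ) hE hTc' (fun g hg x => ?_) hg (Finset.mem_compl.mpr hx)
    rw [Finset.mem_compl, Finset.mem_compl, hp g hg x]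

/-- automorphisms of `A₇` as permutations -/
theorem exists_psi : ∃ ψ : MulAut ↥(alternatingGroup (Fin 7)) →* Perm (Fin 7),
    (∀ (f : MulAut ↥(alternatingGroup (Fin 7))) (x : ↥(alternatingGroup (Fin 7))),
      ((f x : ↥(alternatingGroup (Fin 7))) : Perm (Fin 7)) = ψ f * x * (ψ f)⁻¹) ∧
    (∀ q : ↥(alternatingGroup (Fin 7)), ψ (MulAut.conj q) = q) ∧ Function.Injective ψ := by
  obtain ⟨ψ, hψ⟩ := StdAlt.Closing.exists_autHom (Fin 7) (by rw [Fintype.card_fin])
  refine ⟨ψ, hψ, fun q => ?_, ?_⟩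
  · -- `q⁻¹ ψ(q)` centralises `A₇`
    have h1 : ∀ σ ∈ alt (Finset.univ : Finset (Fin 7)), ((q : Perm (Fin 7))⁻¹ * ψ (MulAut.conj q)) * σ =
        σ * ((q : Perm (Fin 7))⁻¹ * ψ (MulAut.conj q)) := by
      intro σ hσ
      rw [alt_univ] at hσ
      have h2 := hψ (MulAut.conj q) ⟨σ, hσ⟩
      have h3 : ((MulAut.conj q ⟨σ, hσ⟩ : ↥(alternatingGroup (Fin 7))) : Perm (Fin 7)) = q * σ * (q : Perm (Fin 7))⁻¹ := rfl
      rw [h3] at h2
      calc ((q : Perm (Fin 7))⁻¹ * ψ (MulAut.conj q)) * σ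
          = (q : Perm (Fin 7))⁻¹ * (ψ (MulAut.conj q) * σ * (ψ (MulAut.conj q))⁻¹) * ψ (MulAut.conj q) := by group
        _ = (q : Perm (Fin 7))⁻¹ * (q * σ * (q : Perm (Fin 7))⁻¹) * ψ (MulAut.conj q) := by rw [← h2]
        _ = σ * ((q : Perm (Fin 7))⁻¹ * ψ (MulAut.conj q)) := by group
    have h2 : (q : Perm (Fin 7))⁻¹ * ψ (MulAut.conj q) = 1 := by
      ext x
      congr 1
      exact apply_of_comm_alt (by decide) h1 (Finset.mem_univ x)
    exact (inv_mul_eq_one.mp h2).symm
  · rw [injective_iff_map_eq_one]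
    intro f hf
    ext x
    rw [hψ, hf]
    simp

theorem perfect_of_simple {G : Type*} [Group G] {K : Subgroup G} (hs : IsSimpleGroup K)
    (hn : ¬ ∀ x ∈ K, ∀ y ∈ K, x * y = y * x) : ⁅K, K⁆ = K := by
  have h1 : _root_.commutator ↥K = ⊤ := by
    refine (IsSimpleGroup.eq_bot_or_eq_top_of_normal (_root_.commutator ↥K) inferInstance).resolve_left fun h => hn ?_
    intro x hx y hy
    have h2 : ⁅(⟨x, hx⟩ : ↥K), ⟨y, hy⟩⁆ ∈ _root_.commutator ↥K := commutator_mem_commutator (mem_top _) (mem_top _)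
    rw [h, mem_bot, commutatorElement_eq_one_iff_mul_comm] at h2
    exact congrArg Subtype.val h2
  have h2 : (_root_.commutator ↥K).map K.subtype = ⁅K, K⁆ := by
    rw [_root_.commutator_def, map_commutator, ← MonoidHom.range_eq_map, K.range_subtype]
  rw [← h2, h1, ← MonoidHom.range_eq_map, K.range_subtype]

/-- **the facts on `A₇`** -/
theorem tf7 : TF ↥(alternatingGroup (Fin 7)) := by
  obtain ⟨ψ, hψ, hψq, hψi⟩ := exists_psi
  have hsimple : IsSimpleGroup (alternatingGroup (Fin 7)) :=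
    alternatingGroup.isSimpleGroup (by rw [Nat.card_fin]; norm_num)
  have hz0 : z0 ∈ alternatingGroup (Fin 7) := by rw [mem_alternatingGroup]; decide
  have ht0 : t0 ∈ alternatingGroup (Fin 7) := by rw [mem_alternatingGroup]; decide
  have hcj : ∀ (σ : Perm (Fin 7)) {x : Perm (Fin 7)}, x ∈ alternatingGroup (Fin 7) →
      σ * x * σ⁻¹ ∈ alternatingGroup (Fin 7) := fun σ x hx =>
    (inferInstance : (alternatingGroup (Fin 7)).Normal).conj_mem x hx σ
  have hfix : ∀ (α : MulAut ↥(alternatingGroup (Fin 7))) (x : Perm (Fin 7)) (hx : x ∈ alternatingGroup (Fin 7)),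
      ψ α * x = x * ψ α → α ⟨x, hx⟩ = ⟨x, hx⟩ := by
    intro α x hx h
    apply Subtype.ext
    rw [hψ]
    show ψ α * x * (ψ α)⁻¹ = x
    rw [h]; group
  refine ⟨inferInstance, hsimple, ?_, ?_, ?_, ?_, ?_, ?_⟩
  · intro h
    have hcy : cyc (0 : Fin 7) 1 2 ∈ alternatingGroup (Fin 7) := by rw [mem_alternatingGroup]; decide
    have h1 : z0 * cyc 0 1 2 = cyc 0 1 2 * z0 := congrArg Subtype.val (h ⟨z0, hz0⟩ ⟨_, hcy⟩)
    exact absurd h1 (by decide)
  · exact ⟨⟨z0, hz0⟩, Subtype.ext (by decide : z0 * z0 = 1), fun h =>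
      absurd (congrArg Subtype.val h) (by decide : ¬ z0 = 1)⟩
  · rintro ⟨e, he⟩ h2 h1
    obtain ⟨σ, hσ⟩ := alt_root he (congrArg Subtype.val h2) (fun h => h1 (Subtype.ext h))
    have c1 : (σ * t0 * σ⁻¹) * (σ * t0 * σ⁻¹) = 1 := by
      calc (σ * t0 * σ⁻¹) * (σ * t0 * σ⁻¹) = σ * (t0 * t0) * σ⁻¹ := by group
        _ = 1 := by rw [show t0 * t0 = 1 by decide]; group
    have inj : ∀ x y : Perm (Fin 7), σ * x * σ⁻¹ = σ * y * σ⁻¹ → x = y := fun x y h =>
      mul_left_cancel (mul_right_cancel h)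
    refine ⟨⟨σ * t0 * σ⁻¹, hcj σ ht0⟩, Subtype.ext c1, ?_, ?_, ?_⟩
    · intro h
      have h3 : σ * t0 * σ⁻¹ = 1 := congrArg Subtype.val h
      exact absurd (inj t0 1 (by rw [h3]; group)) (by decide)
    · intro h
      have h3 : σ * t0 * σ⁻¹ = e := congrArg Subtype.val h
      rw [hσ] at h3
      exact absurd (inj _ _ h3) (by decide)
    · apply Subtype.ext
      show e * (σ * t0 * σ⁻¹) = (σ * t0 * σ⁻¹) * e
      rw [hσ]
      calc σ * z0 * σ⁻¹ * (σ * t0 * σ⁻¹) = σ * (z0 * t0) * σ⁻¹ := by group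
        _ = σ * (t0 * z0) * σ⁻¹ := by rw [show z0 * t0 = t0 * z0 by decide]
        _ = σ * t0 * σ⁻¹ * (σ * z0 * σ⁻¹) := by group
  · -- `solv`
    rintro ⟨q, hq⟩ h2 h1 J hJ hc
    have h3 : J.map ψ = ⊥ := by
      refine perfect_cent ?_ hq (congrArg Subtype.val h2) (fun h => h1 (Subtype.ext h)) ?_
      · rw [← map_commutator]
        exact map_mono hJ
      · rintro _ ⟨β, hβ, rfl⟩
        have h4 := congrArg ψ (hc β hβ)
        rw [map_mul, map_mul, hψq] at h4
        exact h4
    rw [eq_bot_iff]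
    intro β hβ
    rw [mem_bot]
    apply hψi
    have h4 : ψ β ∈ J.map ψ := ⟨β, hβ, rfl⟩
    rw [h3, mem_bot] at h4
    rw [h4, map_one]
  · -- `dich`
    intro α hα hα1
    have ha2 : ψ α * ψ α = 1 := by rw [← map_mul, hα, map_one]
    have ha1 : ψ α ≠ 1 := fun h => hα1 (hψi (by rw [h, map_one]))
    rcases inv_std ha2 ha1 with ⟨i, j, hij, ha⟩ | ⟨σ, ha⟩
    · left
      set S : Finset (Fin 7) := Finset.univ \ {i, j} with hS
      have hSc : S.card = 5 := by
        rw [hS, Finset.card_sdiff_of_subset (Finset.subset_univ _), Finset.card_univ, Fintype.card_fin,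
          Finset.card_pair hij]
      have hcomm : ∀ x ∈ alt S, ψ α * x = x * ψ α := by
        intro x hx
        have hi : x i = i := hx.2 i (by rw [hS]; simp)
        have hj : x j = j := hx.2 j (by rw [hS]; simp)
        have h3 := swap_apply_apply x i j
        rw [hi, hj] at h3
        rw [ha]
        calc swap i j * x = (x * swap i j * x⁻¹) * x := by rw [← h3]
          _ = x * swap i j := by group
      have hsimp := isSimpleGroup_alt (S := S) hSc.ge
      have hperf : ⁅alt S, alt S⁆ = alt S := perfect_of_simple hsimp fun h =>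
        not_comm_alt (S := S) (by omega) ⟨⟨fun a b => Subtype.ext (h a a.2 b b.2)⟩⟩
      refine ⟨(alt S).subgroupOf (alternatingGroup (Fin 7)), ?_, ?_, ?_⟩
      · intro x hx
        have h3 : ((alt S).subgroupOf (alternatingGroup (Fin 7))).map (alternatingGroup (Fin 7)).subtype = alt S := by
          rw [subgroupOf_map_subtype, inf_eq_left.mpr (alt_le S)]
        have h4 : (x : Perm (Fin 7)) ∈ (⁅(alt S).subgroupOf (alternatingGroup (Fin 7)),
            (alt S).subgroupOf (alternatingGroup (Fin 7))⁆ : Subgroup ↥(alternatingGroup (Fin 7))).map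
              (alternatingGroup (Fin 7)).subtype := by
          rw [map_commutator, h3, hperf]; exact hx
        obtain ⟨z, hz, hzy⟩ := h4
        rwa [← Subtype.ext hzy]
      · rintro ⟨x, hx⟩ hxJ
        exact hfix α x hx (hcomm x hxJ)
      · obtain ⟨e, he, he2, he1⟩ := exists_inv_alt (S := S) (by omega)
        exact ⟨⟨e, alt_le S he⟩, he, Subtype.ext he2, fun h => he1 (congrArg Subtype.val h)⟩
    · right
      have c1 : ∀ u v : Perm (Fin 7), σ * u * σ⁻¹ * (σ * v * σ⁻¹) = σ * (u * v) * σ⁻¹ := fun u v => by group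
      have inj : ∀ x y : Perm (Fin 7), σ * x * σ⁻¹ = σ * y * σ⁻¹ → x = y := fun x y h =>
        mul_left_cancel (mul_right_cancel h)
      have hu2 : swap 0 1 * swap 4 5 ∈ alternatingGroup (Fin 7) := by rw [mem_alternatingGroup]; decide
      have hc : ∀ u : Perm (Fin 7), z0 * u = u * z0 → (z0 * swap 4 5) * u = u * (z0 * swap 4 5) →
          ψ α * (σ * u * σ⁻¹) = (σ * u * σ⁻¹) * ψ α := by
        intro u h3 h4
        rcases ha with ha | ha
        · rw [ha, c1, c1, h3]
        · rw [ha, c1, c1, h4]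
      refine ⟨⟨_, hcj σ ht0⟩, ⟨_, hcj σ hu2⟩, hfix α _ _ (hc _ (by decide) (by decide)),
        hfix α _ _ (hc _ (by decide) (by decide)), ?_, ?_, ?_, ?_⟩
      · apply Subtype.ext
        show σ * t0 * σ⁻¹ * (σ * t0 * σ⁻¹) = 1
        rw [c1, show t0 * t0 = 1 by decide]; group
      · apply Subtype.ext
        show σ * (swap 0 1 * swap 4 5) * σ⁻¹ * (σ * (swap 0 1 * swap 4 5) * σ⁻¹) = 1
        rw [c1, show swap (0 : Fin 7) 1 * swap 4 5 * (swap 0 1 * swap 4 5) = 1 by decide]; group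
      · apply Subtype.ext
        show (σ * t0 * σ⁻¹ * (σ * (swap 0 1 * swap 4 5) * σ⁻¹)) ^ 4 = 1
        rw [c1, conj_pow, show (t0 * (swap (0 : Fin 7) 1 * swap 4 5)) ^ 4 = 1 by decide]; group
      · intro h
        have h3 : (σ * t0 * σ⁻¹ * (σ * (swap 0 1 * swap 4 5) * σ⁻¹)) ^ 2 = 1 := congrArg Subtype.val h
        rw [c1, conj_pow] at h3
        exact absurd (inj _ 1 (by rw [h3]; group)) (by decide)
  · -- `rank`
    intro α β γ h1 h2 h3 h4 h5 h6 h7
    apply hψi
    have m : ∀ x y, ψ x * ψ y = ψ (x * y) := fun x y => (map_mul ψ x y).symm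
    rw [map_mul, map_mul]
    refine rank7 (a := ψ α) ?_ ?_ ?_ ?_ ?_ ?_ ?_
    · rw [← map_pow, h1, map_one]
    · rw [← map_pow]
      exact fun h => h2 (hψi (by rw [h, map_one]))
    · rw [m, h3, map_one]
    · rw [m, h4, map_one]
    · rw [m, ← map_pow, h5, map_one]
    · rw [m, m, h6]
    · rw [m, m, h7]

end Cfsg.Agent.UGT.A7.M1.TFacts
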