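import Cfsg.Agent.UGT.A7.M1.PkgOf
import Cfsg.Agent.UGT.A7.M1.ClsSide
import Cfsg.Agent.UGT.A7.M1.TFacts
import Cfsg.Agent.UGT.A7.M1.TEnd
import Cfsg.Agent.UGT.Trich

/-!
# THEOREM M1 (helper179 #14042): the class of `N₀` has one member

`false_of_many`: the output `Cls0 N₀` of CANON with `N₀ / O(N₀) ≅ A₇` and at least two members contradicts: `O(G) = 1`,
`X` a normal simple subgroup with `C_G(X) = 1`.
-/

set_option autoImplicit false

open Cfsg Subgroup Equiv
open Cfsg.Agent.SignalizersComponents.IntrinsicBasic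
open Cfsg.Agent.Intrinsic.Basic
open Cfsg.Agent.UGT.Iface
open Cfsg.Agent.UAlt
open Cfsg.Agent.UGT.L2i.ClsCov Cfsg.Agent.UGT.L2i.ClsRel

namespace Cfsg.Agent.UGT.A7.M1

universe u

variable {G : Type u} [Group G] [Finite G]

omit [Finite G] in
theorem exists_equiv7 {L : Subgroup G} (M : Lab L) :
    Nonempty ((↥L ⧸ oddCore ↥L) ≃* ↥(alternatingGroup (Fin 7))) := by
  obtain ⟨f, hf⟩ : ∃ f : ↥L →* ↥(alternatingGroup (Fin 7)), Function.Surjective f ∧ f.ker = oddCore ↥L := by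
    refine ⟨(MulEquiv.subgroupCongr (alt_univ)).toMonoidHom.comp M.homK, ?_, ?_⟩
    · exact (MulEquiv.subgroupCongr alt_univ).surjective.comp M.homK_surjective
    · rw [← M.ker_homK]
      ext y
      rw [MonoidHom.mem_ker, MonoidHom.mem_ker, MonoidHom.comp_apply]
      exact (MulEquiv.subgroupCongr (alt_univ (α := Fin 7))).map_eq_one_iff
  exact ⟨(QuotientGroup.quotientMulEquivOfEq hf.2.symm).trans
    (QuotientGroup.quotientKerEquivOfSurjective _ hf.1)⟩

/-- at least two members: contradiction -/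
theorem false_of_many (hO : oddCore G = ⊥) {X : Subgroup G} (hX : X.Normal) (hXs : IsSimpleGroup X)
    (hXc : centralizer (X : Set G) = ⊥) {N0 : Subgroup G} (C : Cls0 N0) (lab : Nonempty (Lab N0))
    (h : ¬ ∀ N ∈ Cj N0, L2i.ClsRel.Rel N N0 → N = N0) : False := by
  push Not at h
  obtain ⟨N, hN, hr, hne⟩ := h
  obtain ⟨M⟩ := lab
  obtain ⟨e⟩ := exists_equiv7 M
  have : Nontrivial ↥((Cls0.sys C).cls (self_mem_Cj N0)) :=
    ⟨⟨N, hN, hr⟩, ⟨N0, (Cls0.sys C).self_mem_cls (self_mem_Cj N0)⟩, fun h => hne (congrArg Subtype.val h)⟩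
  exact TEnd.false_of_two7 (side0_ok C e) TFacts.tf7 (side0_t2 C e) hO hX hXs hXc

end Cfsg.Agent.UGT.A7.M1
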