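import Cfsg.Agent.UGT.A7.M1.TSwap
import Cfsg.Agent.UGT.TT.Main

/-!
# THEOREM M1 (helper179 #14042), `n ≥ 2`: no adjacent pair

`lift`: a 2-group of fixed points of a 2-group `T` acting on `F i / W` is covered by a 2-group centralising `T`.
`noAdj7`: if there are at least two components, no involution of `F i` lies in `H' ≠ H`: it would commute with dihedral
groups `D'_1`, `D'_2` of order 8 in two components of `H'`, which commute and act faithfully on `F i / W ≅ A₇`.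
-/

set_option autoImplicit false

namespace Cfsg.Agent.UGT.A7.M1.TNoAdj

open Subgroup
open Cfsg.Agent.UGT.TT Cfsg.Agent.UGT.A7.M1.TSwap

universe u v w

variable {G : Type u} [Group G] {Q : Type v} [Group Q] {ι : Type w} {S S' : Side G Q ι}

/-- a 2-group of fixed points is covered by a 2-group of centralising elements -/
theorem lift [Finite G] [Finite Q] (h : S.Ok) {i : ι} {T : Subgroup G} (hT : IsPGroup 2 T) {B : Subgroup Q}
    (hB : IsPGroup 2 B) (hTB : ∀ t ∈ T, ∃ α, S.Ind i t α ∧ ∀ q ∈ B, α q = q) :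
    ∃ D : Subgroup G, IsPGroup 2 D ∧ (∀ d ∈ D, d ∈ S.F i ∧ S.π i d ∈ B ∧ ∀ t ∈ T, t * d = d * t) ∧
      ∀ q ∈ B, ∃ d ∈ D, S.π i d = q := by
  classical
  have hp : Fact (Nat.Prime 2) := ⟨Nat.prime_two⟩
  -- the full preimage
  let A : Subgroup G :=
    { carrier := {a | a ∈ S.F i ∧ S.π i a ∈ B ∧ ∀ t ∈ T, t * a = a * t}
      one_mem' := ⟨(S.F i).one_mem, by rw [h.one]; exact B.one_mem, fun t _ => by rw [mul_one, one_mul]⟩
      mul_mem' := by
        rintro a b ⟨ha, ha', ha''⟩ ⟨hb, hb', hb''⟩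
        refine ⟨(S.F i).mul_mem ha hb, by rw [h.map_mul i a ha b hb]; exact B.mul_mem ha' hb', fun t ht => ?_⟩
        rw [← mul_assoc, ha'' t ht, mul_assoc, hb'' t ht, mul_assoc]
      inv_mem' := by
        rintro a ⟨ha, ha', ha''⟩
        refine ⟨(S.F i).inv_mem ha, by rw [h.inv ha]; exact B.inv_mem ha', fun t ht => ?_⟩
        rw [eq_inv_mul_iff_mul_eq, ← mul_assoc, ← ha'' t ht, mul_inv_cancel_right] }
  have hA : ∀ a, a ∈ A ↔ a ∈ S.F i ∧ S.π i a ∈ B ∧ ∀ t ∈ T, t * a = a * t := fun _ => Iff.rfl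
  have hcov : ∀ q ∈ B, ∃ a ∈ A, S.π i a = q := by
    intro q hq
    obtain ⟨x, hx, hxq⟩ := h.surj i q
    obtain ⟨w, hw, hww⟩ := h.exists_fix hT (q := q) (fun t ht => by
      obtain ⟨α, hα, hα'⟩ := hTB t ht
      exact ⟨α, hα, hα' q hq⟩) hx hxq
    have h1 : S.π i (x * w) = q := by
      rw [h.map_mul i x hx w (h.WF i hw), (h.ker i w (h.WF i hw)).mpr hw, mul_one, hxq]
    exact ⟨x * w, (hA _).mpr ⟨(S.F i).mul_mem hx (h.WF i hw), by rw [h1]; exact hq, hww⟩, h1⟩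
  let f : A →* B := MonoidHom.mk' (fun a => ⟨S.π i a, ((hA a).mp a.2).2.1⟩) (by
    rintro ⟨a, ha⟩ ⟨b, hb⟩
    exact Subtype.ext (h.map_mul i a ((hA a).mp ha).1 b ((hA b).mp hb).1))
  have hf : Function.Surjective f := by
    rintro ⟨q, hq⟩
    obtain ⟨a, ha, hq'⟩ := hcov q hq
    exact ⟨⟨a, ha⟩, Subtype.ext hq'⟩
  obtain ⟨P⟩ : Nonempty (Sylow 2 A) := inferInstance
  -- the image of a Sylow subgroup is everything
  have hPf : (P : Subgroup A).map f = ⊤ := by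
    have h1 : ¬ 2 ∣ ((P : Subgroup A).map f).index := by
      intro hdvd
      have h2 : ((P : Subgroup A).map f).index ∣ (P : Subgroup A).index := Subgroup.index_map_dvd _ hf
      exact P.not_dvd_index (hdvd.trans h2)
    obtain ⟨k, hk⟩ := (IsPGroup.iff_card (p := 2) (G := B)).mp hB
    have h3 : ((P : Subgroup A).map f).index ∣ 2 ^ k := by
      rw [← hk]
      exact Subgroup.index_dvd_card _
    rw [← Subgroup.index_eq_one]
    obtain ⟨m, -, hm⟩ := (Nat.dvd_prime_pow Nat.prime_two).mp h3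
    rcases m with _ | m
    · rw [hm, pow_zero]
    · exfalso
      apply h1
      rw [hm, pow_succ]
      exact Dvd.intro_left _ rfl
  refine ⟨(P : Subgroup A).map A.subtype, P.isPGroup'.map _, ?_, ?_⟩
  · rintro _ ⟨a, -, rfl⟩
    exact (hA _).mp a.2
  · intro q hq
    have h1 : (⟨q, hq⟩ : B) ∈ (P : Subgroup A).map f := by rw [hPf]; trivial
    obtain ⟨a, ha, haq⟩ := h1
    exact ⟨a, ⟨a, ha, rfl⟩, congrArg Subtype.val haq⟩

/-- the product of two commuting 2-groups -/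
theorem isPGroup_sup {A B : Subgroup G} (hA : IsPGroup 2 A) (hB : IsPGroup 2 B)
    (hc : ∀ a ∈ A, ∀ b ∈ B, a * b = b * a) : IsPGroup 2 ↥(A ⊔ B) := by
  rintro ⟨x, hx⟩
  have h1 : ∀ b ∈ B, ∀ a ∈ A, b * a * b⁻¹ ∈ A := fun b hb a ha => by
    rw [← hc a ha b hb, mul_inv_cancel_right]; exact ha
  obtain ⟨a, ha, b, hb, rfl⟩ := Cfsg.Agent.UGT.SL.exists_mul_of_mem_sup h1 hx
  obtain ⟨m, hm⟩ := hA ⟨a, ha⟩
  obtain ⟨n, hn⟩ := hB ⟨b, hb⟩
  have hm' : a ^ 2 ^ m = 1 := congrArg Subtype.val hm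
  have hn' : b ^ 2 ^ n = 1 := congrArg Subtype.val hn
  refine ⟨m + n, Subtype.ext ?_⟩
  show (a * b) ^ 2 ^ (m + n) = 1
  have h2 : Commute a b := hc a ha b hb
  rw [h2.mul_pow, pow_add, pow_mul, hm', one_pow, one_mul, mul_comm, pow_mul, hn', one_pow]

theorem pow_of_triv (h : S.Ok) {i : ι} {x : G} (hx : S.Ind i x 1) (n : ℕ) : S.Ind i (x ^ n) 1 := by
  induction n with
  | zero => rw [pow_zero]; exact Side.Ind.one
  | succ n ih =>
    rw [pow_succ]
    have := ih.mul hx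
    rwa [one_mul] at this

theorem ind_pow {i : ι} {x : G} {α : MulAut Q} (hx : S.Ind i x α) (n : ℕ) : S.Ind i (x ^ n) (α ^ n) := by
  induction n with
  | zero => rw [pow_zero, pow_zero]; exact Side.Ind.one
  | succ n ih => rw [pow_succ, pow_succ]; exact ih.mul hx

/-- the group generated by two involutions whose product has order dividing 4 -/
theorem isPGroup_dih {x y : Q} (hx : x * x = 1) (hy : y * y = 1) (h4 : (x * y) ^ 4 = 1) :
    IsPGroup 2 ↥(closure ({x, y} : Set Q)) := by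
  have hxi : x⁻¹ = x := inv_eq_of_mul_eq_one_left hx
  have hyi : y⁻¹ = y := inv_eq_of_mul_eq_one_left hy
  -- every element is `(x y) ^ k` or `(x y) ^ k x`
  have key : ∀ z ∈ closure ({x, y} : Set Q), ∃ k : ℕ, z = (x * y) ^ k ∨ z = (x * y) ^ k * x := by
    have hinv : (x * y)⁻¹ = (x * y) ^ 3 := by
      apply inv_eq_of_mul_eq_one_left
      rw [← pow_succ]; exact h4
    have hconj : ∀ k : ℕ, x * (x * y) ^ k = ((x * y) ^ 3) ^ k * x := by
      intro k
      have h1 : x * (x * y) * x⁻¹ = (x * y)⁻¹ := by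
        rw [mul_inv_rev, hyi, hxi, ← mul_assoc, hx, one_mul]
      have h2 : x * (x * y) ^ k * x⁻¹ = ((x * y)⁻¹) ^ k := by rw [← conj_pow, h1]
      rw [← hinv, ← h2, inv_mul_cancel_right]
    intro z hz
    induction hz using closure_induction with
    | mem z hz =>
      rcases hz with rfl | rfl
      · exact ⟨0, Or.inr (by rw [pow_zero, one_mul])⟩
      · refine ⟨3, Or.inr ?_⟩
        have h1 : (x * z) ^ 3 * (x * z) = 1 := by rw [← pow_succ]; exact h4
        have h2 : (x * z) ^ 3 * x = ((x * z) ^ 3 * (x * z)) * z⁻¹ := by group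
        rw [h2, h1, one_mul, hyi]
    | one => exact ⟨0, Or.inl (by rw [pow_zero])⟩
    | mul a b _ _ ha hb =>
      obtain ⟨k, hk | hk⟩ := ha <;> obtain ⟨l, hl | hl⟩ := hb
      · exact ⟨k + l, Or.inl (by rw [hk, hl, pow_add])⟩
      · exact ⟨k + l, Or.inr (by rw [hk, hl, pow_add, mul_assoc])⟩
      · refine ⟨k + 3 * l, Or.inr ?_⟩
        rw [hk, hl, mul_assoc, hconj, ← mul_assoc, ← pow_mul, ← pow_add]
      · refine ⟨k + 3 * l, Or.inl ?_⟩
        rw [hk, hl, show (x * y) ^ k * x * ((x * y) ^ l * x) = (x * y) ^ k * (x * (x * y) ^ l) * x by group,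
          hconj, ← pow_mul, ← mul_assoc, ← pow_add, mul_assoc, hx, mul_one]
    | inv a _ ha =>
      obtain ⟨k, hk | hk⟩ := ha
      · refine ⟨3 * k, Or.inl ?_⟩
        rw [hk, ← inv_pow, hinv, ← pow_mul]
      · refine ⟨k, Or.inr ?_⟩
        rw [hk, mul_inv_rev, hxi]
        have h1 : ((x * y) ^ k)⁻¹ = ((x * y) ^ 3) ^ k := by rw [← inv_pow, hinv]
        rw [h1, show ((x * y) ^ 3) ^ k = x * (x * y) ^ k * x⁻¹ by rw [hconj, mul_inv_cancel_right], hxi,
          ← mul_assoc, ← mul_assoc, hx, one_mul]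
  rintro ⟨z, hz⟩
  obtain ⟨k, rfl | rfl⟩ := key z hz
  · refine ⟨2, Subtype.ext ?_⟩
    show ((x * y) ^ k) ^ 2 ^ 2 = 1
    rw [show (2 : ℕ) ^ 2 = 4 by norm_num, ← pow_mul, mul_comm, pow_mul, h4, one_pow]
  · refine ⟨1, Subtype.ext ?_⟩
    show ((x * y) ^ k * x) ^ 2 ^ 1 = 1
    have hconj : x * (x * y) ^ k * x⁻¹ = ((x * y) ^ k)⁻¹ := by
      have h1 : x * (x * y) * x⁻¹ = (x * y)⁻¹ := by
        rw [mul_inv_rev, hyi, hxi, ← mul_assoc, hx, one_mul]
      rw [← conj_pow, h1, inv_pow]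
    rw [pow_one, pow_two, show (x * y) ^ k * x * ((x * y) ^ k * x) = (x * y) ^ k * (x * (x * y) ^ k * x⁻¹) * (x * x)
      by group, hconj, hx]
    group

/-- **no adjacent pair** -/
theorem noAdj7 [Finite G] (hP : Pair S S') (T : TF Q) [Nontrivial ι] {i : ι} {v : G} (hv : v ∈ S.F i)
    (hv' : v ∈ S'.H) (hv2 : v * v = 1) : v = 1 := by
  by_contra hv1
  have := T.fin
  have A : Adj S S' i v := ⟨hv, hv', hv2, hv1⟩
  obtain ⟨l, hl⟩ := exists_ne i
  obtain ⟨j, k, hjk⟩ := exists_pair_ne ι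
  have hok := hP.ok
  have hok' := hP.ok'
  obtain ⟨β, hβ⟩ := hok'.exists_ind (nrm7 hP T A j)
  obtain ⟨γ, hγ⟩ := hok'.exists_ind (nrm7 hP T A k)
  obtain ⟨x1, y1, hx1, hy1, hxx1, hyy1, h41, h21⟩ := exists_dih hP T A hβ
  obtain ⟨x2, y2, hx2, hy2, hxx2, hyy2, h42, h22⟩ := exists_dih hP T A hγ
  have hfix : ∀ {δ : MulAut Q} {x y : Q}, δ x = x → δ y = y → ∀ q ∈ closure ({x, y} : Set Q), δ q = q := by
    intro δ x y hx hy q hq
    induction hq using closure_induction with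
    | mem z hz =>
      rcases hz with rfl | rfl
      · exact hx
      · exact hy
    | one => exact map_one _
    | mul a b _ _ ha hb => rw [_root_.map_mul, ha, hb]
    | inv a _ ha => rw [map_inv, ha]
  have hTv : IsPGroup 2 (zpowers v) := Cfsg.Agent.UGT.SL.two_isPGroup hv2
  obtain ⟨D1, hD1, hD1F, hD1c⟩ := lift hok' (i := j) hTv (isPGroup_dih hxx1 hyy1 h41) (by
    intro t ht
    rcases mem_zpowers_inv hv2 ht with rfl | rfl
    · exact ⟨1, Side.Ind.one, fun q _ => rfl⟩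
    · exact ⟨β, hβ, hfix hx1 hy1⟩)
  have hvD1 : ∀ a ∈ zpowers v, ∀ d ∈ D1, a * d = d * a := fun a ha d hd => (hD1F d hd).2.2 a ha
  have hT2 : IsPGroup 2 ↥(zpowers v ⊔ D1) := isPGroup_sup hTv hD1 hvD1
  obtain ⟨D2, hD2, hD2F, hD2c⟩ := lift hok' (i := k) hT2 (isPGroup_dih hxx2 hyy2 h42) (by
    intro t ht
    obtain ⟨a, ha, d, hd, rfl⟩ := Cfsg.Agent.UGT.SL.exists_mul_of_mem_sup (fun b hb a ha => by
      rw [← hvD1 a ha b hb, mul_inv_cancel_right]; exact ha) ht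
    have h1 : S'.Ind k d 1 := hok'.ind_other (Ne.symm hjk) (hD1F d hd).1
    rcases mem_zpowers_inv hv2 ha with rfl | rfl
    · exact ⟨1 * 1, Side.Ind.one.mul h1, fun q _ => by rw [mul_one]; rfl⟩
    · exact ⟨γ * 1, hγ.mul h1, fun q hq => by rw [mul_one]; exact hfix hx2 hy2 q hq⟩)
  have hvT : v ∈ zpowers v ⊔ D1 := mem_sup_left (mem_zpowers v)
  -- representatives
  obtain ⟨c, hcD, hcq⟩ := hD1c (x1 * y1) (mul_mem (subset_closure (Or.inl rfl)) (subset_closure (Or.inr rfl)))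
  obtain ⟨a, haD, haq⟩ := hD2c x2 (subset_closure (Or.inl rfl))
  obtain ⟨b, hbD, hbq⟩ := hD2c y2 (subset_closure (Or.inr rfl))
  -- elements of `D1`, `D2` in `W` are trivial
  have htriv : ∀ {D : Subgroup G}, IsPGroup 2 D → ∀ d ∈ D, d ∈ S'.W → d = 1 := by
    intro D hD d hd hdW
    obtain ⟨n, hn⟩ := hD ⟨d, hd⟩
    have hn' : d ^ 2 ^ n = 1 := congrArg Subtype.val hn
    have h1 : orderOf d ∣ 2 ^ n := orderOf_dvd_of_pow_eq_one hn'
    have h2 : orderOf d ∣ Nat.card S'.W := Subgroup.orderOf_dvd_natCard _ hdW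
    have h3 : Nat.gcd (2 ^ n) (Nat.card S'.W) = 1 :=
      Nat.Coprime.pow_left n ((Nat.coprime_two_left).mpr hok'.odd)
    have h4 := Nat.dvd_gcd h1 h2
    rw [h3, Nat.dvd_one, orderOf_eq_one_iff] at h4
    exact h4
  have hkey1 : ∀ d ∈ D1, S'.π j d = 1 → d = 1 := fun d hd h1 =>
    htriv hD1 d hd ((hok'.ker j d (hD1F d hd).1).mp h1)
  have hkey2 : ∀ d ∈ D2, S'.π k d = 1 → d = 1 := fun d hd h1 =>
    htriv hD2 d hd ((hok'.ker k d (hD2F d hd).1).mp h1)
  have hcF := (hD1F c hcD).1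
  have haF := (hD2F a haD).1
  have hbF := (hD2F b hbD).1
  have hc4 : c ^ 4 = 1 := hkey1 _ (D1.pow_mem hcD 4) (by rw [hok'.pow hcF, hcq, h41])
  have hc2 : c ^ 2 ≠ 1 := by
    intro h1
    apply h21
    rw [← hcq, ← hok'.pow hcF, h1, hok'.one]
  have ha2 : a * a = 1 := hkey2 _ (D2.mul_mem haD haD) (by rw [hok'.map_mul k a haF a haF, haq, hxx2])
  have hb2 : b * b = 1 := hkey2 _ (D2.mul_mem hbD hbD) (by rw [hok'.map_mul k b hbF b hbF, hbq, hyy2])
  have habq : S'.π k (a * b) = x2 * y2 := by rw [hok'.map_mul k a haF b hbF, haq, hbq]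
  have habF : a * b ∈ S'.F k := (S'.F k).mul_mem haF hbF
  have hab4 : (a * b) ^ 4 = 1 := hkey2 _ (D2.pow_mem (D2.mul_mem haD hbD) 4) (by rw [hok'.pow habF, habq, h42])
  have hab2 : (a * b) ^ 2 ≠ 1 := by
    intro h1
    apply h22
    rw [← habq, ← hok'.pow habF, h1, hok'.one]
  -- they commute with `v`, so lie in `H` and normalise `F i`
  have hcv : v * c = c * v := (hD1F c hcD).2.2 v (mem_zpowers v)
  have hav : v * a = a * v := (hD2F a haD).2.2 v hvT
  have hbv : v * b = b * v := (hD2F b hbD).2.2 v hvT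
  have hca : c * a = a * c := (hD2F a haD).2.2 c (mem_sup_right hcD)
  have hcb : c * b = b * c := (hD2F b hbD).2.2 c (mem_sup_right hcD)
  obtain ⟨α, hα⟩ := hok.exists_ind (cent_nrm7 hok T hl A.mem A.sq A.ne hcv.symm)
  obtain ⟨β', hβ'⟩ := hok.exists_ind (cent_nrm7 hok T hl A.mem A.sq A.ne hav.symm)
  obtain ⟨γ', hγ'⟩ := hok.exists_ind (cent_nrm7 hok T hl A.mem A.sq A.ne hbv.symm)
  have hα4 : α ^ 4 = 1 := by
    have h1 := ind_pow hα 4
    rw [hc4] at h1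
    exact hok.ind_uniq h1 Side.Ind.one
  have hα2 : α ^ 2 ≠ 1 := by
    intro h0
    have h1 := ind_pow hα 2
    rw [h0] at h1
    have h2 : S'.Ind k (c ^ 2) 1 := pow_of_triv hok' (hok'.ind_other (Ne.symm hjk) hcF) 2
    apply hc2
    refine hP.disj i k (c ^ 2) h1 h2 ?_
    rw [← pow_add]
    exact hc4
  have hcomm : β' * γ' = γ' * β' := by
    refine T.rank α β' γ' hα4 hα2 (hok.ind_sq hβ' ha2) (hok.ind_sq hγ' hb2) ?_ (hok.ind_comm hα hβ' hca)
      (hok.ind_comm hα hγ' hcb)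
    have h1 := ind_pow (hβ'.mul hγ') 4
    rw [hab4] at h1
    exact hok.ind_uniq h1 Side.Ind.one
  have h1 : S.Ind i ((a * b) ^ 2) 1 := by
    have h2 := ind_pow (hβ'.mul hγ') 2
    have h3 : (β' * γ') ^ 2 = 1 := by
      rw [pow_two, show β' * γ' * (β' * γ') = β' * (γ' * β') * γ' by group, ← hcomm,
        show β' * (β' * γ') * γ' = (β' * β') * (γ' * γ') by group, hok.ind_sq hβ' ha2, hok.ind_sq hγ' hb2, one_mul]
    rwa [h3] at h2
  have h2 : S'.Ind j ((a * b) ^ 2) 1 := pow_of_triv hok' (hok'.ind_other hjk habF) 2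
  apply hab2
  refine hP.disj i j _ h1 h2 ?_
  rw [← pow_add]
  exact hab4

end Cfsg.Agent.UGT.A7.M1.TNoAdj
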