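import Cfsg.Agent.UGT.TT.Conj

/-!
# THEOREM M1 (helper179 #14042), `n ≥ 2`: the facts on `A₇` and (5a), (5b)

`TF Q`: the facts on `Q = A₇` that are used.  `v ∈ F i ∩ H'` an involution: `v` normalises every `F' j` and centralises
there a dihedral group of order 8 (copy of `UGT/TT/Swap.lean` of helper738 with weaker facts).
-/

set_option autoImplicit false

namespace Cfsg.Agent.UGT.A7.M1.TSwap

open Subgroup
open Cfsg.Agent.UGT.TT
open scoped commutatorElement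

universe u v w

variable {G : Type u} [Group G] {Q : Type v} [Group Q] {ι : Type w}

/-- The facts on `Q = A₇`. -/
structure TF (Q : Type v) [Group Q] : Prop where
  fin : Finite Q
  simple : IsSimpleGroup Q
  nab : ¬ ∀ x y : Q, x * y = y * x
  /-- `Q` contains an involution -/
  inv : ∃ e : Q, e * e = 1 ∧ e ≠ 1
  /-- every involution of `Q` commutes with another one -/
  four : ∀ e : Q, e * e = 1 → e ≠ 1 → ∃ f : Q, f * f = 1 ∧ f ≠ 1 ∧ f ≠ e ∧ e * f = f * e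
  /-- the centralizer in `Aut(Q)` of an involution of `Q` contains no perfect group -/
  solv : ∀ q : Q, q * q = 1 → q ≠ 1 → ∀ J : Subgroup (MulAut Q), J ≤ ⁅J, J⁆ →
    (∀ β ∈ J, β * MulAut.conj q = MulAut.conj q * β) → J = ⊥
  /-- an involutory automorphism centralises a perfect group of even order or a dihedral group of order 8 -/
  dich : ∀ α : MulAut Q, α * α = 1 → α ≠ 1 →
    (∃ J : Subgroup Q, J ≤ ⁅J, J⁆ ∧ (∀ x ∈ J, α x = x) ∧ ∃ e ∈ J, e * e = 1 ∧ e ≠ 1) ∨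
    (∃ x y : Q, α x = x ∧ α y = y ∧ x * x = 1 ∧ y * y = 1 ∧ (x * y) ^ 4 = 1 ∧ (x * y) ^ 2 ≠ 1)
  /-- an automorphism of order 4 does not commute with a dihedral group of order 8 -/
  rank : ∀ α β γ : MulAut Q, α ^ 4 = 1 → α ^ 2 ≠ 1 → β * β = 1 → γ * γ = 1 → (β * γ) ^ 4 = 1 →
    α * β = β * α → α * γ = γ * α → β * γ = γ * β

namespace TF

theorem center (T : TF Q) {q : Q} (h : ∀ x, q * x = x * q) : q = 1 := by
  have := T.simple
  rcases IsSimpleGroup.eq_bot_or_eq_top_of_normal (Subgroup.center Q) inferInstance with h1 | h1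
  · rw [← mem_bot, ← h1, mem_center_iff]
    intro x
    exact (h x).symm
  · exfalso
    apply T.nab
    intro x y
    have h2 : x ∈ Subgroup.center Q := by rw [h1]; trivial
    exact (mem_center_iff.mp h2 y).symm

theorem conj_inj (T : TF Q) {p q : Q} (h : MulAut.conj p = MulAut.conj q) : p = q := by
  have h1 : q⁻¹ * p = 1 := by
    apply T.center
    intro x
    have h2 := DFunLike.congr_fun h x
    rw [MulAut.conj_apply, MulAut.conj_apply] at h2
    calc q⁻¹ * p * x = q⁻¹ * (p * x * p⁻¹) * p := by group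
      _ = q⁻¹ * (q * x * q⁻¹) * p := by rw [h2]
      _ = x * (q⁻¹ * p) := by group
  exact (inv_mul_eq_one.mp h1).symm

theorem conj_ne_one (T : TF Q) {q : Q} (h : q ≠ 1) : (MulAut.conj q : MulAut Q) ≠ 1 := by
  intro h1
  apply h
  apply T.conj_inj
  rw [h1, map_one]

theorem perfect (T : TF Q) : (⁅(⊤ : Subgroup Q), (⊤ : Subgroup Q)⁆ : Subgroup Q) = ⊤ := by
  have := T.simple
  have hn : (⁅(⊤ : Subgroup Q), (⊤ : Subgroup Q)⁆ : Subgroup Q).Normal := inferInstance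
  rcases IsSimpleGroup.eq_bot_or_eq_top_of_normal _ hn with h1 | h1
  · exfalso
    apply T.nab
    intro x y
    have h2 : ⁅x, y⁆ ∈ (⁅(⊤ : Subgroup Q), (⊤ : Subgroup Q)⁆ : Subgroup Q) :=
      commutator_mem_commutator (mem_top x) (mem_top y)
    rw [h1, mem_bot, commutatorElement_eq_one_iff_mul_comm] at h2
    exact h2
  · exact h1

theorem conj_sq {q : Q} (T : TF Q) : (MulAut.conj q : MulAut Q) * MulAut.conj q = 1 ↔ q * q = 1 := by
  rw [← map_mul]
  constructor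
  · intro h
    apply T.conj_inj
    rw [h, map_one]
  · intro h
    rw [h, map_one]

end TF

section side

variable {S : Side G Q ι}

theorem inf7 (h : S.Ok) (T : TF Q) {i j : ι} (hij : i ≠ j) {x : G} (hi : x ∈ S.F i) (hj : x ∈ S.F j) :
    x ∈ S.W := by
  rw [← h.ker i x hi]
  have h1 := h.ind_uniq (h.ind_self hi) (h.ind_other hij hj)
  by_contra h2
  exact T.conj_ne_one h2 h1

theorem le_eq7 (h : S.Ok) (T : TF Q) {i j : ι} (hle : S.F i ≤ S.F j) : i = j := by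
  by_contra hij
  obtain ⟨e, -, he⟩ := T.inv
  obtain ⟨x, hx, hxe⟩ := h.surj i e
  have h1 := inf7 h T hij hx (hle hx)
  rw [← h.ker i x hx, hxe] at h1
  exact he h1

theorem perm_inj7 (h : S.Ok) (T : TF Q) {i k m : ι} {a : G} (ha : a ∈ S.H)
    (hi : ∀ x ∈ S.F i, a * x * a⁻¹ ∈ S.F m) (hk : ∀ x ∈ S.F k, a * x * a⁻¹ ∈ S.F m) : i = k := by
  obtain ⟨m', hm'⟩ := h.perm a⁻¹ (S.H.inv_mem ha) m
  have key : ∀ l, (∀ x ∈ S.F l, a * x * a⁻¹ ∈ S.F m) → l = m' := by
    intro l hl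
    apply le_eq7 h T
    intro x hx
    have h1 := hm' _ (hl x hx)
    have h2 : a⁻¹ * (a * x * a⁻¹) * a⁻¹⁻¹ = x := by group
    rwa [h2] at h1
  rw [key i hi, key k hk]

/-- if there are two components, commutators normalise both -/
theorem comm_nrm7 [Finite G] (h : S.Ok) (T : TF Q) {i k : ι} (hik : i ≠ k) (h2 : ∀ l, l = i ∨ l = k) {a b : G}
    (ha : a ∈ S.H) (hb : b ∈ S.H) : S.Nrm i ⁅a, b⁆ := by
  have key : ∀ a ∈ S.H, (S.Nrm i a ∧ S.Nrm k a) ∨
      ((∀ x ∈ S.F i, a * x * a⁻¹ ∈ S.F k) ∧ (∀ x ∈ S.F k, a * x * a⁻¹ ∈ S.F i)) := by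
    intro a ha
    obtain ⟨m, hm⟩ := h.perm a ha i
    obtain ⟨m', hm'⟩ := h.perm a ha k
    rcases h2 m with rfl | rfl
    · rcases h2 m' with h3 | rfl
      · exfalso
        rw [h3] at hm'
        exact hik (perm_inj7 h T ha hm hm')
      · exact Or.inl ⟨⟨ha, hm⟩, ⟨ha, hm'⟩⟩
    · rcases h2 m' with rfl | h3
      · exact Or.inr ⟨hm, hm'⟩
      · exfalso
        rw [h3] at hm'
        exact hik (perm_inj7 h T ha hm hm')
  have ha' := S.H.inv_mem ha
  have hb' := S.H.inv_mem hb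
  refine ⟨?_, ?_⟩
  · rw [commutatorElement_def]
    exact S.H.mul_mem (S.H.mul_mem (S.H.mul_mem ha hb) ha') hb'
  · intro x hx
    have e1 : ⁅a, b⁆ * x * ⁅a, b⁆⁻¹ = a * (b * (a⁻¹ * (b⁻¹ * x * b⁻¹⁻¹) * a⁻¹⁻¹) * b⁻¹) * a⁻¹ := by
      rw [commutatorElement_def]; group
    rw [e1]
    rcases key b hb with hb1 | hb1
    · have hb2 : S.Nrm i b⁻¹ := hb1.1.inv
      rcases key a ha with ha1 | ha1
      · exact ha1.1.2 _ (hb1.1.2 _ (ha1.1.inv.2 _ (hb2.2 x hx)))
      · rcases key a⁻¹ ha' with ha2 | ha2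
        · exfalso
          have h3 := ha2.1.inv
          rw [inv_inv] at h3
          apply hik
          apply perm_inj7 h T ha (m := k) ha1.1
          exact (by
            have h4 := ha2.2.inv
            rw [inv_inv] at h4
            exact h4.2)
        · exact ha1.2 _ (hb1.2.2 _ (ha2.1 _ (hb2.2 x hx)))
    · rcases key b⁻¹ hb' with hb2 | hb2
      · exfalso
        apply hik
        apply perm_inj7 h T hb (m := k) hb1.1
        have h4 := hb2.2.inv
        rw [inv_inv] at h4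
        exact h4.2
      · rcases key a ha with ha1 | ha1
        · exact ha1.1.2 _ (hb1.2 _ (ha1.2.inv.2 _ (hb2.1 x hx)))
        · rcases key a⁻¹ ha' with ha2 | ha2
          · exfalso
            apply hik
            apply perm_inj7 h T ha (m := k) ha1.1
            have h4 := ha2.2.inv
            rw [inv_inv] at h4
            exact h4.2
          · exact ha1.2 _ (hb1.1 _ (ha2.2 _ (hb2.1 x hx)))

/-- A perfect group that normalises `F i` and centralises an inner involution acts trivially. -/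
theorem perfect_trivial7 [Finite G] (h : S.Ok) (T : TF Q) {i : ι} {J : Subgroup G} (hJ : J ≤ ⁅J, J⁆)
    (hN : ∀ j ∈ J, S.Nrm i j) {v : G} {q : Q} (hv : S.Ind i v (MulAut.conj q)) (hq2 : q * q = 1)
    (hq1 : q ≠ 1) (hc : ∀ j ∈ J, j * v = v * j) : ∀ j ∈ J, S.Ind i j 1 := by
  have := T.fin
  have h1 := (h.rel i).im_perfect (fun h1 h2 => h.ind_uniq h1 h2) hJ (fun a ha => h.exists_ind (hN a ha))
  have h2 := T.solv q hq2 hq1 _ h1 (by
    rintro β ⟨j, hj, hβ⟩
    exact h.ind_comm hβ hv (hc j hj))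
  intro j hj
  obtain ⟨β, hβ⟩ := h.exists_ind (hN j hj)
  have h3 : β ∈ (h.rel i).im J := ⟨j, hj, hβ⟩
  rw [h2, mem_bot] at h3
  rwa [h3] at hβ

/-- The centralizer of an involution of `F i` normalises `F i`. -/
theorem cent_nrm7 [Finite G] (h : S.Ok) (T : TF Q) {i l : ι} (hl : l ≠ i) {v : G} (hv : v ∈ S.F i)
    (hv2 : v * v = 1) (hv1 : v ≠ 1) {c : G} (hc : c * v = v * c) : S.Nrm i c := by
  have hcH : c ∈ S.H := h.t1' (h.ind_other hl hv) hv2 hv1 hc
  obtain ⟨m, hm⟩ := h.perm c hcH i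
  have h1 : v ∈ S.F m := by
    have h2 := hm v hv
    rwa [hc, mul_inv_cancel_right] at h2
  have h3 : m = i := by
    by_contra hne
    exact hv1 (h.one_of_W (inf7 h T hne h1 hv) hv2)
  rw [h3] at hm
  exact ⟨hcH, hm⟩

theorem act_trivial7 [Finite G] (h : S.Ok) (T : TF Q) {i l : ι} (hl : l ≠ i) {v : G} (hv : v ∈ S.F i)
    (hv2 : v * v = 1) (hv1 : v ≠ 1) {J : Subgroup G} (hJ : J ≤ ⁅J, J⁆) (hc : ∀ j ∈ J, j * v = v * j) :
    ∀ j ∈ J, S.Ind i j 1 := by
  have h1 : S.π i v ≠ 1 := by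
    intro h2
    rw [h.ker i v hv] at h2
    exact hv1 (h.one_of_W h2 hv2)
  have h2 : S.π i v * S.π i v = 1 := by rw [← h.map_mul i v hv v hv, hv2, h.one]
  exact perfect_trivial7 h T hJ (fun j hj => cent_nrm7 h T hl hv hv2 hv1 (hc j hj)) (h.ind_self hv) h2 h1 hc

end side

section pair

variable {S S' : Side G Q ι}

/-- (5b): an adjacent involution acts on every component of the other side as an automorphism centralising a
dihedral group of order 8 -/
theorem exists_dih [Finite G] (hP : Pair S S') (T : TF Q) [Nontrivial ι] {i : ι} {v : G} (A : Adj S S' i v) {j : ι}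
    {β : MulAut Q} (hβ : S'.Ind j v β) :
    ∃ x y : Q, β x = x ∧ β y = y ∧ x * x = 1 ∧ y * y = 1 ∧ (x * y) ^ 4 = 1 ∧ (x * y) ^ 2 ≠ 1 := by
  have := T.fin
  obtain ⟨l, hl⟩ := exists_ne i
  obtain ⟨m, hm⟩ := exists_ne j
  rcases T.dich β (hP.ok'.ind_sq hβ A.sq) (ind_ne_one hP hl A hβ) with ⟨JJ, hJJ, hfix, e, he, he2, he1⟩ | h
  swap
  · exact h
  exfalso
  -- the centralizer of `v` in `F' j` covers `JJ`
  have hcov : JJ.map (MulAut.conj : Q →* MulAut Q) ≤ (hP.ok'.rel j).im (S'.F j ⊓ centralizer ({v} : Set G)) := by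
    rintro _ ⟨q, hq, rfl⟩
    obtain ⟨x, hx, hxX, hxq⟩ := hP.ok'.fix_le hβ A.sq (X := centralizer ({v} : Set G))
      (fun c hc => mem_centralizer_singleton_iff.mpr hc) (hfix q hq)
    refine ⟨x, ⟨hx, hxX⟩, ?_⟩
    have h1 := hP.ok'.ind_self hx
    rwa [hxq] at h1
  have hperf : JJ.map (MulAut.conj : Q →* MulAut Q) ≤
      ⁅JJ.map (MulAut.conj : Q →* MulAut Q), JJ.map (MulAut.conj : Q →* MulAut Q)⁆ := by
    rw [← map_commutator]
    exact Subgroup.map_mono hJJ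
  obtain ⟨J, hJA, hJp, hJcov⟩ := (hP.ok'.rel j).exists_perfect hcov hperf
  have htriv := act_trivial7 hP.ok T hl A.mem A.sq A.ne hJp
    (fun x hx => mem_centralizer_singleton_iff.mp (hJA hx).2)
  obtain ⟨y, hy, hyβ⟩ := hJcov ⟨e, he, rfl⟩
  obtain ⟨z, hz, hz2, hz1⟩ := hP.ok'.exists_inv_of_cover hy hyβ (T.conj_sq.mpr he2) (T.conj_ne_one he1)
  exact hz1 (hP.disj i m z (htriv z hz) (hP.ok'.ind_other hm (hJA hz).1) hz2)

/-- (5a) -/
theorem nrm7 [Finite G] (hP : Pair S S') (T : TF Q) [Nontrivial ι] {i : ι} {v : G} (A : Adj S S' i v) (j : ι) :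
    S'.Nrm j v := by
  have := T.fin
  have hok := hP.ok
  have hok' := hP.ok'
  obtain ⟨l, hl⟩ := exists_ne i
  obtain ⟨k, hk⟩ := hok'.perm v A.mem' j
  by_cases hkj : k = j
  · rw [hkj] at hk
    exact ⟨A.mem', hk⟩
  exfalso
  -- the centralizer of `v` acting innerly on `F' j`, trivially on the others
  let AA : Subgroup G :=
    { carrier := {a | a * v = v * a ∧ (∃ q, S'.Ind j a (MulAut.conj q)) ∧ ∀ m, m ≠ j → m ≠ k → S'.Ind m a 1}
      one_mem' := ⟨by rw [one_mul, mul_one], ⟨1, by rw [map_one]; exact Side.Ind.one⟩, fun m _ _ => Side.Ind.one⟩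
      mul_mem' := by
        rintro a b ⟨ha, ⟨p, hp⟩, ha'⟩ ⟨hb, ⟨q, hq⟩, hb'⟩
        refine ⟨by rw [mul_assoc, hb, ← mul_assoc, ha, mul_assoc], ⟨p * q, by rw [map_mul]; exact hp.mul hq⟩,
          fun m h1 h2 => ?_⟩
        have h3 := (ha' m h1 h2).mul (hb' m h1 h2)
        rwa [one_mul] at h3
      inv_mem' := by
        rintro a ⟨ha, ⟨p, hp⟩, ha'⟩
        refine ⟨by rw [inv_mul_eq_iff_eq_mul, ← mul_assoc, ha, mul_inv_cancel_right],
          ⟨p⁻¹, by rw [map_inv]; exact hp.inv hok'⟩, fun m h1 h2 => ?_⟩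
        have h3 := (ha' m h1 h2).inv hok'
        rwa [inv_one] at h3 }
  have hcov : (⊤ : Subgroup Q).map (MulAut.conj : Q →* MulAut Q) ≤ (hok'.rel j).im AA := by
    rintro _ ⟨q, -, rfl⟩
    obtain ⟨x, hx, hxq⟩ := hok'.surj j q
    have hvx := hk x hx
    obtain ⟨w, hw, hww⟩ := exists_fix_coset (x := x * (v * x * v⁻¹)) hok'.odd (Cfsg.Agent.UGT.SL.two_isPGroup A.sq)
      (fun t ht w hw => by
        rcases mem_zpowers_inv A.sq ht with rfl | rfl
        · simpa using hw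
        · exact hok'.nW t A.mem' w hw) (fun t ht => by
        rcases mem_zpowers_inv A.sq ht with rfl | rfl
        · have h1 : (x * (v * x * v⁻¹))⁻¹ * (1 * (x * (v * x * v⁻¹)) * 1⁻¹) = 1 := by group
          rw [h1]
          exact S'.W.one_mem
        · have h1 := hok'.comm k j hkj _ ((S'.F k).inv_mem hvx) _ ((S'.F j).inv_mem hx)
          have h2 : (x * (t * x * t⁻¹))⁻¹ * (t * (x * (t * x * t⁻¹)) * t⁻¹) =
              (t * x * t⁻¹)⁻¹ * x⁻¹ * (t * x * t⁻¹) * ((t * t) * x * (t * t)⁻¹) := by group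
          rw [h2, A.sq]
          have h3 : (t * x * t⁻¹)⁻¹ * x⁻¹ * (t * x * t⁻¹) * (1 * x * 1⁻¹) =
              (t * x * t⁻¹)⁻¹ * x⁻¹ * (t * x * t⁻¹)⁻¹⁻¹ * x⁻¹⁻¹ := by group
          rw [h3]
          exact h1)
    refine ⟨x * (v * x * v⁻¹) * w, ⟨(hww v (mem_zpowers v)).symm, ⟨q, ?_⟩, ?_⟩, ?_⟩
    · have h1 := ((hok'.ind_self hx).mul (hok'.ind_other (Ne.symm hkj) hvx)).mul (hok'.ind_W (i := j) hw)
      rwa [mul_one, mul_one, hxq] at h1
    · intro m h1 h2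
      have h3 := ((hok'.ind_other h1 hx).mul (hok'.ind_other h2 hvx)).mul (hok'.ind_W (i := m) hw)
      rwa [mul_one, mul_one] at h3
    · have h1 := ((hok'.ind_self hx).mul (hok'.ind_other (Ne.symm hkj) hvx)).mul (hok'.ind_W (i := j) hw)
      rwa [mul_one, mul_one, hxq] at h1
  have hperf : (⊤ : Subgroup Q).map (MulAut.conj : Q →* MulAut Q) ≤
      ⁅(⊤ : Subgroup Q).map (MulAut.conj : Q →* MulAut Q), (⊤ : Subgroup Q).map (MulAut.conj : Q →* MulAut Q)⁆ := by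
    rw [← map_commutator, T.perfect]
  obtain ⟨J, hJA, hJp, hJcov⟩ := (hok'.rel j).exists_perfect hcov hperf
  have htriv := act_trivial7 hok T hl A.mem A.sq A.ne hJp (fun x hx => (hJA hx).1)
  obtain ⟨e, he2, he1⟩ := T.inv
  obtain ⟨y0, hy0, hy0β⟩ := hJcov ⟨e, mem_top e, rfl⟩
  obtain ⟨y, hy, hy2, hy1⟩ := hok'.exists_inv_of_cover hy0 hy0β (T.conj_sq.mpr he2) (T.conj_ne_one he1)
  by_cases hm : ∃ m, m ≠ j ∧ m ≠ k
  · obtain ⟨m, hm1, hm2⟩ := hm
    exact hy1 (hP.disj i m y (htriv y hy) ((hJA hy).2.2 m hm1 hm2) hy2)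
  push Not at hm
  have hjk : ∀ m, m = j ∨ m = k := by
    intro m
    by_cases h1 : m = j
    · exact Or.inl h1
    · exact Or.inr (hm m h1)
  have hik : ∃ k', i ≠ k' ∧ ∀ m, m = i ∨ m = k' := by
    rcases hjk i with rfl | rfl
    · exact ⟨k, Ne.symm hkj, hjk⟩
    · exact ⟨j, hkj, fun m => (hjk m).symm⟩
  obtain ⟨k', hik', hall⟩ := hik
  have := T.simple
  -- `H ∩ F' j` covers
  have hX : hok'.img j S.H = ⊤ := by
    have hn : (hok'.img j S.H).Normal := by
      refine ⟨fun p hp q => ?_⟩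
      obtain ⟨x, hx, hxH, rfl⟩ := hp
      obtain ⟨a, ha, haq⟩ := hJcov ⟨q, mem_top q, rfl⟩
      refine ⟨a * x * a⁻¹, (haq.2 x hx).1, S.H.mul_mem (S.H.mul_mem (htriv a ha).1 hxH)
        (S.H.inv_mem (htriv a ha).1), ?_⟩
      rw [(haq.2 x hx).2]
      rfl
    rcases IsSimpleGroup.eq_bot_or_eq_top_of_normal _ hn with h1 | h1
    · exfalso
      obtain ⟨q0, hq0⟩ := (hJA hy).2.1
      have hfix : ∀ p, MulAut.conj q0 p = p → p = 1 := by
        intro p hp
        have h2 := hok'.fix_le hq0 hy2 (X := S.H) (fun c hc => hok.t1' (htriv y hy) hy2 hy1 hc) hp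
        rwa [h1, mem_bot] at h2
      have h3 := hfix q0 (by rw [MulAut.conj_apply, mul_inv_cancel_right])
      apply he1
      apply hfix e
      rw [h3, map_one, MulAut.one_apply]
    · exact h1
  have hR : hok'.img j (S.N i) = ⊤ := by
    rw [eq_top_iff, ← T.perfect, commutator_le]
    intro p _ q _
    obtain ⟨x, hx, hxH, rfl⟩ : p ∈ hok'.img j S.H := by rw [hX]; trivial
    obtain ⟨y, hy, hyH, rfl⟩ : q ∈ hok'.img j S.H := by rw [hX]; trivial
    have hxy : ⁅x, y⁆ = x * y * x⁻¹ * y⁻¹ := commutatorElement_def x y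
    refine ⟨⁅x, y⁆, ?_, comm_nrm7 hok T hik' hall hxH hyH, ?_⟩
    · rw [hxy]
      exact (S'.F j).mul_mem ((S'.F j).mul_mem ((S'.F j).mul_mem hx hy) ((S'.F j).inv_mem hx))
        ((S'.F j).inv_mem hy)
    · rw [hxy, hok'.map_mul j _ ((S'.F j).mul_mem ((S'.F j).mul_mem hx hy) ((S'.F j).inv_mem hx)) _
        ((S'.F j).inv_mem hy), hok'.conj hx hy, hok'.inv hy, commutatorElement_def]
  have hY : ∀ q : Q, ∃ x ∈ S'.F j, S'.π j x = q ∧ S.Ind i x 1 := by
    have h1 : hok'.img j ((hok.rel i).pre ⊥) = ⊤ := by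
      rw [eq_top_iff, ← T.perfect, commutator_le]
      intro p _ q _
      obtain ⟨a, ha, hap⟩ := hJcov ⟨p, mem_top p, rfl⟩
      obtain ⟨x, hx, hxN, rfl⟩ : q ∈ hok'.img j (S.N i) := by rw [hR]; trivial
      obtain ⟨γ, hγ⟩ := hok.exists_ind hxN
      refine ⟨a * x * a⁻¹ * x⁻¹, (S'.F j).mul_mem (hap.2 x hx).1 ((S'.F j).inv_mem hx), ⟨1, mem_bot.mpr rfl, ?_⟩, ?_⟩
      · have h2 := (((htriv a ha).mul hγ).mul ((htriv a ha).inv hok)).mul (hγ.inv hok)
        rwa [one_mul, inv_one, mul_one, mul_inv_cancel] at h2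
      · rw [hok'.map_mul j _ (hap.2 x hx).1 _ ((S'.F j).inv_mem hx), (hap.2 x hx).2, hok'.inv hx, MulAut.conj_apply,
          commutatorElement_def]
    intro q
    obtain ⟨x, hx, ⟨β, hβ, hxβ⟩, hxq⟩ : q ∈ hok'.img j ((hok.rel i).pre ⊥) := by rw [h1]; trivial
    rw [mem_bot] at hβ
    rw [hβ] at hxβ
    exact ⟨x, hx, hxq, hxβ⟩
  obtain ⟨q, hq⟩ := hP.cov i j
  obtain ⟨x, hx, hxq, hx1⟩ := hY q
  exact hq x hx hxq hx1

end pair

end Cfsg.Agent.UGT.A7.M1.TSwap
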